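import Cfsg.Agent.H7.Co.HS
import Cfsg.Agent.H7.Co.HS2
import Cfsg.Agent.H7.Co.McL
import Cfsg.Agent.H7.Co.Co3
import Cfsg.Agent.H7.Co.Co2
import Cfsg.Prelude.Def_Sporadic

set_option autoImplicit false
set_option maxRecDepth 100000
set_option Elab.async false

/-! Orders, simplicity and transitivity for the Conway groups. -/

namespace CfsgH7

namespace Le

open Cfsg Finset MulAction
open scoped symmDiff Pointwise

noncomputable section

abbrev lU : LL := Spor.leechU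
abbrev lV : LL := Spor.leechV
abbrev lP : LL := Spor.leechU'
abbrev cU : ℕ := 0x62108421084210842108421084210c
abbrev cV : ℕ := 0x19ce739ce739ce739ce739ce739ce7
abbrev cP : ℕ := 0x621084210842108421084210842104

theorem vec_U : vec cU = lU := vec_eq (by decide +kernel)
theorem vec_V : vec cV = lV := vec_eq (by decide +kernel)
theorem vec_P : vec cP = lP := vec_eq (by decide +kernel)
theorem gU : Good cU := gd_spec (by decide +kernel)
theorem gV : Good cV := gd_spec (by decide +kernel)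
theorem gP : Good cP := gd_spec (by decide +kernel)

/-- squared length -/
abbrev nm (v : LL) : ℤ := sqNorm (v : V24)
/-- inner product -/
abbrev dt (v w : LL) : ℤ := dotInt (v : V24) (w : V24)

theorem nm_U : nm lU = 32 := by decide +kernel
theorem nm_V : nm lV = 48 := by decide +kernel
theorem nm_P : nm lP = 32 := by decide +kernel
theorem dt_UP : dt lU lP = 0 := by decide +kernel
theorem dt_VU : dt lV lU = -24 := by decide +kernel
theorem dt_VP : dt lV lP = -16 := by decide +kernel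

theorem nm_smul (g : Co0) (v : LL) : nm (g • v) = nm v := co_norm g v
theorem dt_smul (g : Co0) (v w : LL) : dt (g • v) (g • w) = dt v w := co_dot g v w
theorem dt_fix {g : Co0} {v : LL} (h : g • v = v) (w : LL) : dt v (g • w) = dt v w := by
  conv_lhs => rw [← h]
  exact co_dot g v w
theorem nm_add (v w : LL) : nm (v + w) = nm v + 2 * dt v w + nm w := sqNorm_add _ _
theorem nm_sub (v w : LL) : nm (v - w) = nm v - 2 * dt v w + nm w := sqNorm_sub _ _
theorem nm_neg (v : LL) : nm (-v) = nm v := sqNorm_neg _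
theorem dt_self (v : LL) : dt v v = nm v := dot_self _
theorem dt_comm (v w : LL) : dt v w = dt w v := dot_comm _ _
theorem dt_add (u v w : LL) : dt u (v + w) = dt u v + dt u w := dot_add _ _ _
theorem add_dt (u v w : LL) : dt (u + v) w = dt u w + dt v w := add_dot _ _ _
theorem dt_sub (u v w : LL) : dt u (v - w) = dt u v - dt u w := dot_sub _ _ _
theorem sub_dt (u v w : LL) : dt (u - v) w = dt u w - dt v w := sub_dot _ _ _
theorem dt_neg (v w : LL) : dt v (-w) = -dt v w := dot_neg _ _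
theorem neg_dt (v w : LL) : dt (-v) w = -dt v w := neg_dot _ _

/-- minimal vectors with a given inner product -/
def Xd (v : LL) (k : ℤ) : Set LL := {x | nm x = 32 ∧ dt v x = k}

theorem finite_Xd (v : LL) (k : ℤ) : (Xd v k).Finite := finite_LL'

theorem ncard_neg (P : LL → Prop) : {x | P (-x)}.ncard = {x | P x}.ncard := by
  rw [← Set.ncard_image_of_injective _ neg_injective]
  congr 1
  ext x
  exact ⟨by rintro ⟨y, h, rfl⟩; exact h, fun h => ⟨-x, by simpa using h, neg_neg x⟩⟩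

theorem Xd_neg (v : LL) (k : ℤ) : (Xd v (-k)).ncard = (Xd v k).ncard := by
  rw [Xd, Xd, ← ncard_neg]
  simp only [nm_neg, dt_neg, neg_inj]

def psU (c z : ℕ) : ℕ := if c = 2 then 0 else z
def psV (c z : ℕ) : ℕ := if c = 0 then 5 * z else z

theorem stat_lin {ψ : ℕ → ℕ → ℕ} {v : V24} {a : ℤ} (b : ℤ)
    (h : ∀ i, ∀ z : ℕ, a * ψ (cls i) z = v i * z) (h' : 8 * ∑ i, v i = b) {x : V24}
    (hx : sqNorm x = 32) : a * stat ψ x = dotInt v x + b := by
  rw [stat, Nat.cast_sum, mul_sum, ← h', dotInt, mul_sum, ← sum_add_distrib]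
  refine sum_congr rfl fun i _ => ?_
  have := abs_le_of_sqNorm (x := x) (by omega) i
  rw [h, Int.toNat_of_nonneg (by omega)]; ring

theorem ncard_XU (l : ℕ) (hl : l < 27) : (Xd lU (4 * l - 64)).ncard = cL 32 27 psU [l] := by
  rw [← ncard_leech 32 27 psU [l] (fun c => if c = 2 then 0 else 13) (by norm_num)
    ⟨by simp, by simpa using hl, by decide, by decide⟩, Xd,
    ncard_LL fun x => sqNorm x = 32 ∧ dotInt lU x = 4 * l - 64]
  congr 1
  ext x
  refine and_congr_right fun _ => and_congr_right fun hx => ?_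
  have := stat_lin (ψ := psU) (v := lU) (a := 4) 64 (fun i z => by
    have : ∀ i, (cls i = 2 ∧ (lU : V24) i = 0) ∨ (cls i ≠ 2 ∧ (lU : V24) i = 4) := by decide +kernel
    rcases this i with h | h <;> simp [psU, h]) (by decide +kernel) hx
  simp only [List.mem_singleton]
  omega

theorem ncard_XV (l : ℕ) (hl : l < 365) : (Xd lV (224 - l)).ncard = cL 32 365 psV [l] := by
  rw [← ncard_leech 32 365 psV [l] (fun c => if c = 0 then 65 else 13) (by norm_num)
    ⟨by simp, by simpa using hl, by decide, by decide⟩, Xd,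
    ncard_LL fun x => sqNorm x = 32 ∧ dotInt lV x = 224 - l]
  congr 1
  ext x
  refine and_congr_right fun _ => and_congr_right fun hx => ?_
  have := stat_lin (ψ := psV) (v := lV) (a := -1) (-224) (fun i z => by
    have : ∀ i, (cls i = 0 ∧ (lV : V24) i = -5) ∨ (cls i ≠ 0 ∧ (lV : V24) i = -1) := by
      decide +kernel
    rcases this i with h | h <;> simp [psV, h]) (by decide +kernel) hx
  simp only [List.mem_singleton]
  omega

theorem nU16 : (Xd lU 16).ncard = 4600 := (ncard_XU 20 (by norm_num)).trans (by decide +kernel)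
theorem nU8 : (Xd lU (-8)).ncard = 47104 := (ncard_XU 14 (by norm_num)).trans (by decide +kernel)
theorem nU0 : (Xd lU 0).ncard = 93150 := (ncard_XU 16 (by norm_num)).trans (by decide +kernel)
theorem nV : cL 32 365 psV [200] = 552 ∧ cL 32 365 psV [240] = 11178 := by decide +kernel
theorem nV24 : (Xd lV 24).ncard = 552 := (ncard_XV 200 (by norm_num)).trans nV.1
theorem nV16 : (Xd lV (-16)).ncard = 11178 := (ncard_XV 240 (by norm_num)).trans nV.2
theorem nMn : Mn.ncard = 196560 := (ncard_LL fun x => sqNorm x = 32).trans ncard32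

/-! ### tables are the sets they should be -/

theorem Ok1_X {T : VT} (h : T.Ok1) {Y : Set LL} (hY : Y.Finite) (hN : Y.ncard = T.N)
    (h0 : ∀ r ∈ T.r0, Good (T.P r) → vec (T.P r) ∈ Y) (hs : ∀ g ∈ Fx T.F, ∀ y ∈ Y, g • y ∈ Y) :
    Y = h.W.X := by
  refine (Set.eq_of_subset_of_ncard_le ?_ (by rw [h.W.ncard_X, hN]; rfl) hY).symm
  rintro _ ⟨p, hp, rfl⟩
  refine (h.inv (fun c => Good c ∧ vec c ∈ Y) (fun r hr a => ⟨a, h0 r hr a⟩)
    (fun i hi a b ha _ e => ?_) hp).2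
  obtain ⟨p, q⟩ := (rep_el (h.m i hi)).app ha.1
  rw [← (n_beq _ _).mp e, ← q]
  exact ⟨p, hs _ (el_mem (h.m i hi) ((all1_iff _ _).mp h.f i hi)) _ ha.2⟩

theorem Xd_smul {g : Co0} {v : LL} (h : g • v = v) {k : ℤ} {y : LL} (hy : y ∈ Xd v k) :
    g • y ∈ Xd v k := ⟨(nm_smul g y).trans hy.1, (dt_fix h y).trans hy.2⟩

theorem mem_Xd {a b : ℕ} (ha : Good a) (hb : Good b) {k : ℕ}
    (h : ((ip b b =ₙ 4640) &&ₙ (ip a b =ₙ k)) = true) : vec b ∈ Xd (vec a) (k - 4608) := by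
  rw [band_eq, Bool.and_eq_true] at h
  exact ⟨hb.norm h.1, ha.dot hb h.2⟩

theorem Ok1_Xd {T : VT} (h : T.Ok1) {a : ℕ} (k : ℕ) (hN : (Xd (vec a) (k - 4608)).ncard = T.N)
    (hc : (lany (fun f => f =ₙ a) T.F &&ₙ gd a &&ₙ lall (fun r => (ip (T.P r) (T.P r) =ₙ 4640) &&ₙ
      (ip a (T.P r) =ₙ k)) T.r0) = true) : Xd (vec a) (k - 4608) = h.W.X := by
  simp only [band_eq (lany _ _), band_eq (gd _), Bool.and_eq_true, lany_iff, lall_iff, n_beq] at hc
  obtain ⟨⟨f, hf, rfl⟩, h1, h2⟩ := hc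
  exact Ok1_X h (finite_Xd _ _) hN (fun r hr a => mem_Xd (gd_spec h1) a (h2 r hr))
    fun g hg y hy => Xd_smul (mem_Fx.mp hg f hf) hy

theorem XB2 : Xd lU 16 = Co2.Bok.W.X := by
  rw [← Ok1_Xd Co2.Bok (a := cU) 4624 (by rw [vec_U]; exact nU16) (by decide +kernel), vec_U]; rfl

theorem XB3 : Xd lV 24 = Co3.Bok.W.X := by
  rw [← Ok1_Xd Co3.Bok (a := cV) 4632 (by rw [vec_V]; exact nV24) (by decide +kernel), vec_V]; rfl

theorem XD : Xd lV (-16) = HS2.Dok.W.X := by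
  rw [← Ok1_Xd HS2.Dok (a := cV) 4592 (by rw [vec_V]; exact nV16) (by decide +kernel), vec_V]; rfl

theorem Ok1_cnt {T : VT} (h : T.Ok1) {Y : Set LL} (hY : Y = h.W.X) {a : ℕ} (ha : Good a) (k : ℕ) :
    {y | y ∈ Y ∧ dt (vec a) y = k - 4608}.ncard =
      cnt (fun p => force (T.P p) fun c => ip a c =ₙ k) T.N :=
  h.W.ncard_sep hY _ _ fun p hp => by
    rw [force_eq, n_beq, h.pt_eq, dt, ha.dot_iff (h.good hp)]; omega

/-- the 2025 vectors -/
def X2025 : Set LL := {y | y ∈ Xd lV (-16) ∧ dt lU y = 0}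
/-- the 100 vectors -/
def X100 : Set LL := {y | y ∈ Xd lV 24 ∧ dt lP y = 0}
/-- the 275 vectors -/
def X275 : Set LL := {y | y ∈ Xd lV (-24) ∧ dt lU y = 16}
/-- the 352 vectors -/
def X352 : Set LL := {y | y ∈ Xd lV 16 ∧ dt lP y = 8}

theorem n2025 : X2025.ncard = 2025 := by
  have := Ok1_cnt HS2.Dok XD gU 4608
  rw [vec_U] at this
  exact this.trans (by decide +kernel)

theorem n100 : X100.ncard = 100 := by
  have := Ok1_cnt Co3.Bok XB3 gP 4608
  rw [vec_P] at this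
  exact this.trans (by decide +kernel)

theorem n275 : X275.ncard = 275 := by
  have := Ok1_cnt Co3.Bok XB3 gU 4592
  rw [vec_U, ← ncard_neg] at this
  refine Eq.trans ?_ (this.trans (by decide +kernel))
  congr 1; ext y
  simp only [X275, Xd, Set.mem_setOf_eq, nm_neg, dt_neg]; omega

theorem n352 : X352.ncard = 352 := by
  have := Ok1_cnt HS2.Dok XD gP 4600
  rw [vec_P, ← ncard_neg] at this
  refine Eq.trans ?_ (this.trans (by decide +kernel))
  congr 1; ext y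
  simp only [X352, Xd, Set.mem_setOf_eq, nm_neg, dt_neg]; omega

/-! ### upper bounds -/

abbrev St (v : LL) : Subgroup Co0 := stabilizer Co0 v

theorem mon_fix_e8 {σ : M24} {c : Cw} {j : GolayPt} (h : mon σ c • e8 j = e8 j) :
    σ • j = j ∧ j ∉ (c : Finset GolayPt) := by
  have a := congrArg Subtype.val h
  rw [mon_e8] at a
  obtain ⟨b, d⟩ := single_inj (by split_ifs <;> norm_num) a
  rw [b] at d
  exact ⟨b, fun e => by simp [e] at d⟩

theorem UP_add : lU + lP = e8 (dec 23) := Subtype.ext (by decide +kernel)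
theorem UP_sub : lU - lP = e8 (dec 0) := Subtype.ext (by decide +kernel)

theorem mon_of_fix {g : Co0} (h1 : g • lU = lU) (h2 : g • lP = lP) :
    ∃ σ ∈ stabilizer M24 (dec 23) ⊓ stabilizer M24 (dec 0), ∃ c : Cw,
      (dec 23 ∉ (c : Finset GolayPt) ∧ dec 0 ∉ (c : Finset GolayPt)) ∧ g = mon σ c := by
  have a : g • e8 (dec 23) = e8 (dec 23) := by rw [← UP_add, smul_add, h1, h2]
  have b : g • e8 (dec 0) = e8 (dec 0) := by rw [← UP_sub, smul_sub, h1, h2]
  obtain ⟨σ, c, rfl⟩ := exists_mon_of_cross (i := dec 23) (by rw [a]; exact ⟨_, 8, Or.inl rfl, rfl⟩)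
  exact ⟨σ, ⟨(mon_fix_e8 a).1, (mon_fix_e8 b).1⟩, c, ⟨(mon_fix_e8 a).2, (mon_fix_e8 b).2⟩, rfl⟩

theorem mon_fix_V {σ : M24} {c : Cw} (h : mon σ c • lV = lV) : (c : Finset GolayPt) = ∅ := by
  rw [eq_empty_iff_forall_notMem]
  intro i hi
  obtain ⟨k, rfl⟩ := exists_smul' σ i
  have := mon_apply σ c lV k
  rw [h, if_pos hi] at this
  have a : ∀ i, (lV : V24) i < 0 := by decide +kernel
  have := a k
  have := a (σ • k)
  omega

theorem bd_UP : Finite ↥(St lU ⊓ St lP) ∧ Nat.card ↥(St lU ⊓ St lP) ≤ 454164480 := by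
  have := bd_mon (H := St lU ⊓ St lP) _ (fun c => dec 23 ∉ c ∧ dec 0 ∉ c)
    fun g hg => mon_of_fix hg.1 hg.2
  rwa [pack22.card, ncard_Cw _ (fun m => bnot (tb m 23) &&ₙ bnot (tb m 0)) (fun m _ => by
    simp only [dec_mem_toFs (show 23 < 24 by norm_num), dec_mem_toFs (show 0 < 24 by norm_num),
      band_eq, bnot_eq, tb_eq, Bool.and_eq_true, Bool.not_eq_true', Bool.not_eq_true]), show cnt _ 4096 = 1024 by decide +kernel] at this

theorem bd_VUP {H : Subgroup Co0} (h : ∀ g ∈ H, g • lV = lV ∧ g • lU = lU ∧ g • lP = lP) :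
    Finite H ∧ Nat.card H ≤ 443520 := by
  have := bd_mon (H := H) _ (fun c => c = ∅) fun g hg => by
    obtain ⟨σ, a, c, -, rfl⟩ := mon_of_fix (h g hg).2.1 (h g hg).2.2
    exact ⟨σ, a, c, mon_fix_V (h _ hg).1, rfl⟩
  rwa [pack22.card, show {s | s ∈ Cw ∧ s = ∅} = {∅} from Set.ext fun s =>
    ⟨fun h => h.2, fun h => ⟨h ▸ Cw_empty, h⟩⟩, Set.ncard_singleton] at this

theorem Fx_U : Fx [cU] = St lU := Subgroup.ext fun g => by simp [mem_Fx, vec_U]
theorem Fx_V : Fx [cV] = St lV := Subgroup.ext fun g => by simp [mem_Fx, vec_V]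
theorem Fx_VU : Fx [cV, cU] = St lV ⊓ St lU := Subgroup.ext fun g => by
  simp [mem_Fx, vec_V, vec_U]
theorem Fx_VP : Fx [cV, cP] = St lV ⊓ St lP := Subgroup.ext fun g => by
  simp [mem_Fx, vec_V, vec_P]
theorem Fx_VP' : Fx HS.C.F = St lV ⊓ St lP := Subgroup.ext fun g => by
  have : vec 0x39ce739ce739ce739ce739ce739ce3 = lV + lP := vec_eq (by decide +kernel)
  simp only [HS.C, mem_Fx, List.mem_cons, List.not_mem_nil, or_false, forall_eq_or_imp, forall_eq,
    vec_V, vec_P, this, Subgroup.mem_inf, mem_stabilizer_iff, smul_add]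
  exact ⟨fun h => ⟨h.1, h.2.1⟩, fun h => ⟨h.1, h.2, by rw [h.1, h.2]⟩⟩

theorem bd2 : Finite (St lU) ∧ Nat.card (St lU) ≤ 42305421312000 := by
  have := bd_orbit (St lU) lP (finite_Xd lU 0) (fun g hg => Xd_smul hg ⟨nm_P, dt_UP⟩) bd_UP
  rwa [nU0] at this

theorem P_mem : lP ∈ X2025 := ⟨⟨nm_P, dt_VP⟩, dt_UP⟩
theorem U_mem : -lU ∈ X100 :=
  ⟨⟨by rw [nm_neg, nm_U], by rw [dt_neg, dt_VU]; rfl⟩, by rw [dt_neg, dt_comm, dt_UP]; rfl⟩

theorem sep_smul {g : Co0} {v w : LL} (h : g ∈ St v ⊓ St w) {k l : ℤ} {y : LL}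
    (hy : y ∈ {y | y ∈ Xd v k ∧ dt w y = l}) : g • y ∈ {y | y ∈ Xd v k ∧ dt w y = l} :=
  ⟨Xd_smul h.1 hy.1, (dt_fix h.2 y).trans hy.2⟩

theorem finite_sep {v : LL} {k : ℤ} {P : LL → Prop} : {y | y ∈ Xd v k ∧ P y}.Finite :=
  (finite_Xd v k).subset fun _ h => h.1

theorem St_neg (v : LL) : St (-v) = St v := Subgroup.ext fun g => by simp [smul_neg]

theorem bdM0 : Finite ↥(St lV ⊓ St lU ⊓ St lP) ∧ Nat.card ↥(St lV ⊓ St lU ⊓ St lP) ≤ 443520 :=
  bd_VUP fun g hg => ⟨hg.1.1, hg.1.2, hg.2⟩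

theorem bdH0 : Finite ↥(St lV ⊓ St lP ⊓ St (-lU)) ∧
    Nat.card ↥(St lV ⊓ St lP ⊓ St (-lU)) ≤ 443520 :=
  bd_VUP fun g hg => ⟨hg.1.1, (St_neg lU ▸ hg.2 : g ∈ St lU), hg.1.2⟩

theorem bdM : Finite ↥(St lV ⊓ St lU) ∧ Nat.card ↥(St lV ⊓ St lU) ≤ 898128000 := by
  have := bd_orbit (St lV ⊓ St lU) lP (Y := X2025) finite_sep (fun g hg => sep_smul hg P_mem) bdM0
  rwa [n2025] at this

theorem bdH : Finite ↥(St lV ⊓ St lP) ∧ Nat.card ↥(St lV ⊓ St lP) ≤ 44352000 := by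
  have := bd_orbit (St lV ⊓ St lP) (-lU) (Y := X100) finite_sep (fun g hg => sep_smul hg U_mem) bdH0
  rwa [n100] at this

theorem bd3 : Finite (St lV) ∧ Nat.card (St lV) ≤ 495766656000 := by
  have := bd_orbit (St lV) lU (finite_Xd lV (-24)) (fun g hg => Xd_smul hg ⟨nm_U, dt_VU⟩) bdM
  rwa [Xd_neg, nV24] at this

/-! ### orders and simplicity -/

theorem full2 : Nat.card (Fx [cU]) = 42305421312000 ∧ ∃ W' : WT Co2.A.tb (Fx [cU]) (Finset LL),
    W'.toWT0 = Co2.Aok.W ∧ cl Co2.Aok.W.gen 16 = ⊤ :=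
  Co2.Aok.W.full (Fx_U ▸ bd2 : Finite (Fx [cU]) ∧ _) _ _ _ Co2.Ach

theorem full3 : Nat.card (Fx [cV]) = 495766656000 ∧ ∃ W' : WT Co3.A.tb (Fx [cV]) (Finset LL),
    W'.toWT0 = Co3.Aok.W ∧ cl Co3.Aok.W.gen 16 = ⊤ :=
  Co3.Aok.W.full (Fx_V ▸ bd3 : Finite (Fx [cV]) ∧ _) _ _ _ Co3.Ach

theorem fullM : Nat.card (Fx [cV, cU]) = 898128000 ∧ ∃ W' : WT McL.A.tb (Fx [cV, cU]) LL,
    W'.toWT0 = McL.Aok.W ∧ cl McL.Aok.W.gen 16 = ⊤ :=
  McL.Aok.W.full (Fx_VU ▸ bdM : Finite (Fx [cV, cU]) ∧ _) _ _ _ McL.Ach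

theorem fullH : Nat.card (Fx [cV, cP]) = 44352000 ∧ ∃ W' : WT HS.A.tb (Fx [cV, cP]) LL,
    W'.toWT0 = HS.Aok.W ∧ cl HS.Aok.W.gen 16 = ⊤ :=
  HS.Aok.W.full (Fx_VP ▸ bdH : Finite (Fx [cV, cP]) ∧ _) _ _ _ HS.Ach

theorem fullH' : Nat.card (Fx HS.C.F) = 44352000 ∧ ∃ W' : WT HS.C.tb (Fx HS.C.F) (Finset LL),
    W'.toWT0 = HS.Cok.W ∧ cl HS.Cok.W.gen 16 = ⊤ :=
  HS.Cok.W.full (Fx_VP' ▸ bdH : Finite (Fx HS.C.F) ∧ _) _ _ _ HS.Cch

theorem is2 : IsCo2 (St lU) := by
  obtain ⟨a, W, e, t⟩ := full2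
  rw [← Fx_U]
  exact ⟨W.simple (by rw [← e] at t; exact t) a Co2.Aco _ _ _ _ Co2.Asi, a⟩

theorem is3 : IsCo3 (St lV) := by
  obtain ⟨a, W, e, t⟩ := full3
  rw [← Fx_V]
  exact ⟨W.simple (by rw [← e] at t; exact t) a Co3.Aco _ _ _ _ Co3.Asi, a⟩

theorem isM : IsMcL ↥(St lV ⊓ St lU) := by
  obtain ⟨a, W, e, t⟩ := fullM
  rw [← Fx_VU]
  exact ⟨W.simple (by rw [← e] at t; exact t) a McL.Aco _ _ _ _ McL.Asi, a⟩

theorem isH : IsHS ↥(St lV ⊓ St lP) := by
  obtain ⟨a, W, e, t⟩ := fullH'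
  rw [← Fx_VP']
  exact ⟨W.simple (by rw [← e] at t; exact t) a HS.Cco _ _ _ _ HS.Csi, a⟩

/-! ### transitivity -/

theorem tr_of_card {H : Subgroup Co0} {x : LL} {Y : Set LL} (hY : Y.Finite)
    (hx : ∀ g ∈ H, g • x ∈ Y) {a b c : ℕ} (h1 : Y.ncard = a) (h2 : Nat.card ↥(H ⊓ St x) ≤ b)
    (h3 : Nat.card H = c) (h : a * b ≤ c ∧ c ≠ 0) : orbit H x = Y := by
  have : Finite H := Nat.finite_of_card_ne_zero (h3 ▸ h.2)
  exact orbit_eq_of_card H hY hx (by rw [h1, h3]; exact (Nat.mul_le_mul_left _ h2).trans h.1)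

theorem orb_ex {H : Subgroup Co0} {x : LL} {Y : Set LL} (h : orbit H x = Y) {y : LL} (hy : y ∈ Y) :
    ∃ g ∈ H, g • x = y := by
  obtain ⟨g, e⟩ : y ∈ orbit H x := h ▸ hy
  exact ⟨g, g.2, e⟩

/-- the third vector of the McLaughlin triangle -/
abbrev lW : LL := -(lU + lV)

theorem nm_W : nm lW = 32 := by decide +kernel
theorem dt_UW : dt lU lW = -8 := by decide +kernel

theorem St_UW : St lU ⊓ St lW = St lV ⊓ St lU := Subgroup.ext fun g => by
  simp only [Subgroup.mem_inf, mem_stabilizer_iff, smul_neg, smul_add, neg_inj]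
  exact ⟨fun h => ⟨by simpa [h.1] using h.2, h.1⟩, fun h => ⟨h.2, by rw [h.1, h.2]⟩⟩

theorem orb0 : orbit (St lU) lP = Xd lU 0 :=
  tr_of_card (finite_Xd _ _) (fun g hg => Xd_smul hg ⟨nm_P, dt_UP⟩) nU0 bd_UP.2 is2.2 (by norm_num)

theorem orb8 : orbit (St lU) lW = Xd lU (-8) :=
  tr_of_card (finite_Xd _ _) (fun g hg => Xd_smul hg ⟨nm_W, dt_UW⟩) nU8 (St_UW ▸ bdM.2) is2.2
    (by norm_num)

theorem orb24 : orbit (St lV) lU = Xd lV (-24) :=
  tr_of_card (finite_Xd _ _) (fun g hg => Xd_smul hg ⟨nm_U, dt_VU⟩) ((Xd_neg _ _).trans nV24) bdM.2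
    is3.2 (by norm_num)

theorem orb16 : orbit (St lV) lP = Xd lV (-16) :=
  tr_of_card (finite_Xd _ _) (fun g hg => Xd_smul hg ⟨nm_P, dt_VP⟩) nV16 bdH.2 is3.2 (by norm_num)

theorem orb2025 : orbit ↥(St lV ⊓ St lU) lP = X2025 :=
  tr_of_card finite_sep (fun g hg => sep_smul hg P_mem) n2025
    bdM0.2 isM.2 (by norm_num)

theorem orb100 : orbit ↥(St lV ⊓ St lP) (-lU) = X100 :=
  tr_of_card finite_sep (fun g hg => sep_smul hg U_mem) n100
    bdH0.2 isH.2 (by norm_num)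

/-- negation -/
def neg1 : Co0 := mon 1 ⟨univ, Cw_univ⟩

theorem neg1_smul (v : LL) : neg1 • v = -v := Subtype.ext (funext fun i => by
  have := mon_apply 1 ⟨univ, Cw_univ⟩ v i
  simpa [neg1] using this)

theorem orth_step {M : Subgroup Co0} (hM : ∀ v, nm v = 32 → St v ≤ M) {x y : LL}
    (hx : x ∈ orbit M lU) (hy : nm y = 32) (h : dt x y = 0) : y ∈ orbit M lU := by
  obtain ⟨⟨g, hg⟩, rfl⟩ := hx
  obtain ⟨k, hk, e⟩ := orb_ex orb0 (y := g⁻¹ • y) ⟨(nm_smul _ _).trans hy, by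
    rw [← dt_smul g, smul_inv_smul]; exact h⟩
  have : ∃ s ∈ M, s • lU = lP :=
    ⟨mon 1 ⟨toFs 0x13e005, mem_Cw_iff.mpr ⟨_, by decide +kernel, rfl⟩⟩,
      hM ⟨_, four_mem (dec 1) (dec 3) (a := 4) (b := 4) rfl rfl⟩ (by decide +kernel)
        (Subtype.ext (funext fun i => (mon_apply 1 _ _ i).trans (by revert i; decide +kernel))),
      Subtype.ext (funext fun i => (mon_apply 1 _ lU i).trans (by revert i; decide +kernel))⟩
  obtain ⟨s, hsM, hs⟩ := this
  exact ⟨⟨g * k * s, mul_mem (mul_mem hg (hM _ nm_U hk)) hsM⟩, by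
    simp only [Subgroup.mk_smul, mul_smul, hs, e, smul_inv_smul]⟩

theorem orbU' {M : Subgroup Co0} (hM : ∀ v, nm v = 32 → St v ≤ M) : orbit M lU = Mn := by
  refine Set.Subset.antisymm (by rintro _ ⟨g, rfl⟩; exact (nm_smul g lU).trans nm_U) fun x hx => ?_
  have hx' : sqNorm (x : V24) = 32 := hx
  obtain ⟨i, -, j, -, hij, e⟩ := exists_ne_map_eq_of_card_lt_of_maps_to (s := univ) (t := range 9)
    (by rw [card_univ, card_pt]; simp) (f := fun i => ((x : V24) i).natAbs) fun i _ => by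
      have := abs_le_of_sqNorm (x := x) (by omega) i
      simp only [coe_range, Set.mem_Iio]; omega
  obtain ⟨k, hk, l, hl, hkl⟩ := one_lt_card.mp (show 1 < ({i, j, dec 23, dec 0}ᶜ : Finset GolayPt).card by
    rw [card_compl, card_pt]
    have : ({i, j, dec 23, dec 0} : Finset GolayPt).card ≤ 4 := card_le_four
    omega)
  simp only [mem_compl, mem_insert, mem_singleton, not_or] at hk hl
  let z : LL := ⟨_, four_mem k l (a := 4) (b := 4) rfl rfl⟩
  have hz : z ∈ orbit M lU := orth_step hM (mem_orbit_self _) (sqNorm_pair hkl _ _) (by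
    have : ∀ k, k ≠ dec 23 → k ≠ dec 0 → (lU : V24) k = 0 := by decide +kernel
    rw [dt_comm]
    simp only [dt, z, add_dot, dot_single, this k hk.2.2.1 hk.2.2.2, this l hl.2.2.1 hl.2.2.2]; rfl)
  obtain ⟨s, hs, hs'⟩ : ∃ s : ℤ, (s = 4 ∨ s = -4) ∧ 4 * (x : V24) i + s * (x : V24) j = 0 := by
    rcases Int.natAbs_eq_natAbs_iff.mp e with h | h
    · exact ⟨-4, Or.inr rfl, by omega⟩
    · exact ⟨4, Or.inl rfl, by omega⟩
  let y : LL := ⟨_, four_mem i j (a := 4) (b := s) rfl (by omega)⟩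
  have hy : y ∈ orbit M lU := orth_step hM hz ((sqNorm_pair hij _ _).trans (by
    rcases hs with rfl | rfl <;> rfl)) (by
    simp [dt, z, y, add_dot, dot_single, hk.1, hk.2.1, hl.1, hl.2.1])
  exact orth_step hM hy hx (by simp only [dt, y, add_dot, dot_single]; exact hs')

theorem orbU : orbit Co0 lU = Mn := by rw [← orbit_top]; exact orbU' fun _ _ => le_top

theorem card_Co0 : Nat.card Co0 = 8315553613086720000 := by
  have := card_orbit_mul (⊤ : Subgroup Co0) lU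
  rw [orbit_top, orbU, nMn, top_inf_eq, is2.2, Subgroup.card_top] at this
  exact this.symm

instance : Finite Co0 := Nat.finite_of_card_ne_zero (by rw [card_Co0]; norm_num)

theorem orbV : orbit Co0 lV = {v : LL | nm v = 48} := by
  rw [← orbit_top]
  exact tr_of_card (finite_LL 48) (fun g _ => (nm_smul g lV).trans nm_V)
    ((ncard_LL fun x => sqNorm x = 48).trans ncard48) (b := 495766656000)
    (by rw [top_inf_eq]; exact bd3.2)
    (Subgroup.card_top.trans card_Co0) (by norm_num)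

theorem trU {v : LL} (h : nm v = 32) : ∃ g : Co0, g • lU = v := (orbU ▸ h : v ∈ orbit Co0 lU)
theorem trV {v : LL} (h : nm v = 48) : ∃ g : Co0, g • lV = v := (orbV ▸ h : v ∈ orbit Co0 lV)

/-- transitivity on pairs -/
theorem tr_pair' {a b : LL} {k : ℤ} (h : orbit (St a) b = Xd a k) (g : Co0) {w : LL}
    (hw : nm w = 32) (hd : dt (g • a) w = k) : ∃ u : Co0, u • a = g • a ∧ u • b = w := by
  obtain ⟨u, hu, e⟩ := orb_ex h (y := g⁻¹ • w) ⟨(nm_smul _ _).trans hw, by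
    rw [← dt_smul g, smul_inv_smul]; exact hd⟩
  exact ⟨g * u, by rw [mul_smul, show u • a = a from hu], by rw [mul_smul, e, smul_inv_smul]⟩

theorem trUP {v w : LL} (hv : nm v = 32) (hw : nm w = 32) (h : dt v w = 0) :
    ∃ g : Co0, g • lU = v ∧ g • lP = w := by
  obtain ⟨g, rfl⟩ := trU hv; exact tr_pair' orb0 g hw h

theorem trUW {v w : LL} (hv : nm v = 32) (hw : nm w = 32) (h : dt v w = -8) :
    ∃ g : Co0, g • lU = v ∧ g • lW = w := by
  obtain ⟨g, rfl⟩ := trU hv; exact tr_pair' orb8 g hw h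

theorem trVU {v w : LL} (hv : nm v = 48) (hw : nm w = 32) (h : dt v w = -24) :
    ∃ g : Co0, g • lV = v ∧ g • lU = w := by
  obtain ⟨g, rfl⟩ := trV hv; exact tr_pair' orb24 g hw h

theorem trVP {v w : LL} (hv : nm v = 48) (hw : nm w = 32) (h : dt v w = -16) :
    ∃ g : Co0, g • lV = v ∧ g • lP = w := by
  obtain ⟨g, rfl⟩ := trV hv; exact tr_pair' orb16 g hw h

/-- a minimal vector with inner product 16 with `lU` -/
abbrev lQ : LL := Co2.Bok.W.pt 0

theorem orb_tab {T : VT} (h : T.Ok1) {H : Subgroup Co0} (hH : Fx T.F = H) {Y : Set LL}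
    (hY : Y = h.W.X) (hs : ∀ g ∈ H, ∀ y ∈ Y, g • y ∈ Y) {S : List ℕ} {b : ℕ}
    (hc : T.tb.trChk S b = true) : orbit H (h.W.pt b) = Y := by
  subst hH
  have hb : h.W.pt b ∈ Y := hY ▸ h.W.orbit_all hc ▸ mem_orbit_self _
  refine Set.Subset.antisymm (by rintro _ ⟨g, rfl⟩; exact hs g g.2 _ hb) fun y hy => ?_
  obtain ⟨g, -, e⟩ := h.W.trans hc (hY ▸ hy)
  exact ⟨g, e⟩

theorem orb4600 : orbit (St lU) lQ = Xd lU 16 :=
  orb_tab Co2.Bok Fx_U XB2 (fun _ hg _ hy => Xd_smul hg hy) (S := [0x1, 0x20001, 0x40001, 0x60001])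
    (by decide +kernel)

theorem trUQ {v w : LL} (hv : nm v = 32) (hw : nm w = 32) (h : dt v w = 16) :
    ∃ g : Co0, g • lU = v ∧ g • lQ = w := by
  obtain ⟨g, rfl⟩ := trU hv; exact tr_pair' orb4600 g hw h

theorem X275_eq : X275 = McL.Aok.W.X :=
  Ok1_X McL.Aok finite_sep n275 (fun r hr a => by
    obtain rfl : r = 0 := List.mem_singleton.mp hr
    have := mem_Xd gV a (k := 4584) (by decide +kernel)
    have b := gU.dot a (k := 4624) (by decide +kernel)
    rw [vec_V] at this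
    rw [vec_U] at b
    exact ⟨this, b⟩) fun g hg y hy => sep_smul (Fx_VU ▸ hg) hy

theorem X2025_eq : X2025 = McL.Bok.W.X :=
  Ok1_X McL.Bok finite_sep n2025 (fun r hr a => by
    obtain rfl : r = 0 := List.mem_singleton.mp hr
    have := mem_Xd gV a (k := 4592) (by decide +kernel)
    have b := gU.dot a (k := 4608) (by decide +kernel)
    rw [vec_V] at this
    rw [vec_U] at b
    exact ⟨this, b⟩) fun g hg y hy => sep_smul (Fx_VU ▸ hg) hy

theorem X100_eq : X100 = HS.Aok.W.X :=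
  Ok1_X HS.Aok finite_sep n100 (fun r hr a => by
    obtain rfl : r = 0 := List.mem_singleton.mp hr
    have := mem_Xd gV a (k := 4632) (by decide +kernel)
    have b := gP.dot a (k := 4608) (by decide +kernel)
    rw [vec_V] at this
    rw [vec_P] at b
    exact ⟨this, b⟩) fun g hg y hy => sep_smul (Fx_VP ▸ hg) hy

theorem X352_eq : X352 = HS.Bok.W.X :=
  Ok1_X HS.Bok finite_sep n352 (fun r hr a => by
    obtain rfl : r = 0 := List.mem_singleton.mp hr
    have := mem_Xd gV a (k := 4624) (by decide +kernel)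
    have b := gP.dot a (k := 4616) (by decide +kernel)
    rw [vec_V] at this
    rw [vec_P] at b
    exact ⟨this, b⟩) fun g hg y hy => sep_smul (Fx_VP ▸ hg) hy

theorem orb275 : orbit ↥(St lV ⊓ St lU) (McL.Aok.W.pt 0) = X275 :=
  orb_tab McL.Aok Fx_VU X275_eq (fun _ hg _ hy => sep_smul hg hy)
    (S := [0x1, 0x20001, 0x40001, 0x60001]) (by decide +kernel)

theorem orb352 : orbit ↥(St lV ⊓ St lP) (HS.Bok.W.pt 0) = X352 :=
  orb_tab HS.Bok Fx_VP X352_eq (fun _ hg _ hy => sep_smul hg hy)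
    (S := [0x1, 0x20001, 0x40001, 0x60001]) (by decide +kernel)

/-! ### transport -/

theorem St_smul (g : Co0) (v : LL) : St (g • v) = cj g (St v) := (cj_stab g v).symm

def equiv2 (g : Co0) (v w : LL) : ↥(St v ⊓ St w) ≃* ↥(St (g • v) ⊓ St (g • w)) :=
  (cjEquiv g _).trans (MulEquiv.subgroupCongr (by rw [cj_inf, St_smul, St_smul]))

def equiv1 (g : Co0) (v : LL) : St v ≃* St (g • v) :=
  (cjEquiv g _).trans (MulEquiv.subgroupCongr (St_smul g v).symm)

theorem simple_card {A B : Type*} [Group A] [Group B] (e : A ≃* B) {n : ℕ}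
    (h : IsSimpleGroup A ∧ Nat.card A = n) : IsSimpleGroup B ∧ Nat.card B = n :=
  ⟨have := h.1; e.symm.isSimpleGroup, (Nat.card_congr e.toEquiv).symm.trans h.2⟩

end

end Le

end CfsgH7
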