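import Cfsg.Agent.H7.Au
import Cfsg.Agent.H7.Le4

set_option autoImplicit false

/-! Automorphisms of the stabilisers in the Leech lattice. -/

namespace CfsgH7

open Cfsg MulAction Le

theorem out_congr {G H : Type*} [Group G] [Group H] (e : G ≃* H) :
    Nat.card (Out G) = Nat.card (Out H) := by
  have : (Inn G).map (MulAut.congr e : MulAut G →* MulAut H) = Inn H := by
    ext φ
    constructor
    · rintro ⟨_, ⟨g, rfl⟩, rfl⟩
      exact ⟨e g, by ext x; simp⟩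
    · rintro ⟨g, rfl⟩
      exact ⟨_, ⟨e.symm g, rfl⟩, by ext x; simp⟩
  exact ((Inn G).index_map_equiv (MulAut.congr e)).symm.trans (congrArg Subgroup.index this)

namespace Le

/-- a subgroup of `Co0` as a group of permutations -/
noncomputable def isoP {K : Subgroup Co0} {H : Subgroup (Equiv.Perm LL)}
    (h : ∀ g, g ∈ H ↔ ∃ a : g ∈ Co0, ⟨g, a⟩ ∈ K) : K ≃* H :=
  (K.equivMapOfInjective _ Co0.subtype_injective).trans (MulEquiv.subgroupCongr (by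
    ext g
    rw [h]
    exact ⟨fun ⟨k, a, e⟩ => e ▸ ⟨k.2, a⟩, fun ⟨a, b⟩ => ⟨_, b, rfl⟩⟩))

noncomputable def iso2 : Fx [cU] ≃* Spor.Co2 := isoP fun _ => by
  rw [Fx_U]; exact ⟨fun h => ⟨h.1, h.2⟩, fun ⟨a, b⟩ => ⟨a, b⟩⟩

noncomputable def iso3 : Fx [cV] ≃* Spor.Co3 := isoP fun _ => by
  rw [Fx_V]; exact ⟨fun h => ⟨h.1, h.2⟩, fun ⟨a, b⟩ => ⟨a, b⟩⟩

noncomputable def isoM : Fx [cV, cU] ≃* Spor.McL := isoP fun _ => by
  rw [Fx_VU]; exact ⟨fun h => ⟨h.1.1, h.1.2, h.2⟩, fun ⟨a, b⟩ => ⟨⟨a, b.1⟩, b.2⟩⟩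

noncomputable def isoH : Fx [cV, cP] ≃* Spor.HS := isoP fun _ => by
  rw [Fx_VP]; exact ⟨fun h => ⟨h.1.1, h.1.2, h.2⟩, fun ⟨a, b⟩ => ⟨⟨a, b.1⟩, b.2⟩⟩

theorem exists_conj {F : List ℕ} [Finite (Fx F)] {n : Co0}
    (h : ∀ c ∈ F, ∃ y : LL, n • y = vec c ∧ ∀ g ∈ Fx F, g • y = y) :
    ∃ σ : MulAut (Fx F), ∀ g, ((σ g : Fx F) : Co0) = n * g * n⁻¹ :=
  ⟨(Fx F).normalizerMonoidHom ⟨n, Subgroup.mem_normalizer_fintype fun g hg => mem_Fx.mpr fun c hc => by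
    obtain ⟨y, a, b⟩ := h c hc
    rw [← a, mul_smul, inv_smul_smul, mul_smul, b g hg]⟩, fun _ => rfl⟩

/-- the points are permuted by an affine map -/
theorem hyp_aff {T : VT} (h : T.Ok1) {W : WT T.tb (Fx T.F) LL} (e : W.toWT0 = h.W) {n : Co0}
    {σ : MulAut (Fx T.F)} (hσ : ∀ g, ((σ g : Fx T.F) : Co0) = n * g * n⁻¹) {π : ℕ → ℕ} {a : LL}
    (ha : ∀ g ∈ Fx T.F, g • a = a) (hπ : ∀ p < T.N, vec (T.P (π p)) = a - n • vec (T.P p))
    (g : Fx T.F) (p : ℕ) (hp : p < T.tb.N) (q : ℕ) (hq : q < T.tb.N) (f : g • W.pt p = W.pt q) :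
    σ g • W.pt (π p) = W.pt (π q) := by
  have e : ∀ p, W.pt p = vec (T.P p) := fun p => by rw [← h.pt_eq, ← e]
  rw [e, e] at f ⊢
  rw [hπ p hp, hπ q hq, ← f, Subgroup.smul_def, smul_sub, ha _ (σ g).2, hσ, mul_smul, inv_smul_smul,
    mul_smul]
  rfl

theorem aff_chk {T : VT} (h : T.Ok1) {K : List ℕ} (hK : mOk K = true) {π : ℕ → ℕ} {c : ℕ}
    (hc : (gd c &&ₙ all (fun p => force (app K (T.P p)) fun a => (2 *ₙ ip a c =ₙ ip c c +ₙ 4608) &&ₙ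
      (a +ₙ T.P (π p) =ₙ c +ₙ 2 *ₙ O8)) T.N) = true) (p : ℕ) (hp : p < T.N) :
    vec (T.P (π p)) = vec c - el K • vec (T.P p) := by
  simp only [band_eq, Bool.and_eq_true, all_iff, force_eq, n_beq, n_mul, n_add] at hc
  have a := (rep_el hK).app (h.good hp)
  rw [a.2]
  refine (VT.sub_code a.1 (T.P_lt _) (gd_spec hc.1) ?_ (hc.2 p hp).2).2
  have b := ip_eq (app K (T.P p)) c
  have d := ip_eq c c
  have := (hc.2 p hp).1
  rw [dot_self] at d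
  omega

end Le

end CfsgH7
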