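import Cfsg.Agent.H7.Mx
import Cfsg.Agent.H5.UnitMat
import Cfsg.Agent.H5.SpMat
import Cfsg.Agent.H5.OrthMat
import Cfsg.Prelude.Def_Sz
import Cfsg.Prelude.Def_ChevG2

set_option autoImplicit false
set_option linter.unusedSectionVars false

/-! Small fields; coded matrices in the classical groups. -/

namespace CfsgH7.Mx

open Matrix Cfsg
open scoped commutatorElement

noncomputable section

def K2 : FT := ⟨2, nat_lit 0x101010101010101101010101010101001010101010101011010101010101010010101010101010110101010101010100101010101010101101010101010101001010101010101011010101010101010010101010101010110101010101010100101010101010101101010101010101001010101010101011010101010101010, nat_lit 0x1010101010101010000000000000000010101010101010100000000000000000101010101010101000000000000000001010101010101010000000000000000010101010101010100000000000000000101010101010101000000000000000001010101010101010000000000000000010101010101010100000000000000000⟩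
def K3 : FT := ⟨3, nat_lit 0x210210210210210210210210210210210210210210210210210210210210210210210210210210210210210210210210210210210210210210210210210210210210210210210210210210210210210210210210210210210210210210210210210210210210210210210210210210210210210210210210210210210210210, nat_lit 0x12012012012012002102102102102100000000000000000012012012012012002102102102102100000000000000000012012012012012002102102102102100000000000000000012012012012012002102102102102100000000000000000012012012012012002102102102102100000000000000000⟩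
def K4 : FT := ⟨4, nat_lit 0x123012301230123103210321032103223012301230123013210321032103210012301230123012310321032103210322301230123012301321032103210321001230123012301231032103210321032230123012301230132103210321032100123012301230123103210321032103223012301230123013210321032103210, nat_lit 0x2130213021302130132013201320132032103210321032100000000000000000213021302130213013201320132013203210321032103210000000000000000021302130213021301320132013201320321032103210321000000000000000002130213021302130132013201320132032103210321032100000000000000000⟩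
def K5 : FT := ⟨5, nat_lit 0x432104321043210432104321043210432104321043210432104321043210432104321043210432104321043210432104321043210432104321043210432104321043210432104321043210432104321043210432104321043210432104321043210432104321043210432104321043210432104321043210432104321043210, nat_lit 0x12340123401234002413024130241300314203142031420043210432104321000000000000000000123401234012340024130241302413003142031420314200432104321043210000000000000000001234012340123400241302413024130031420314203142004321043210432100000000000000000⟩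
def K7 : FT := ⟨7, nat_lit 0x2106543210654321106543210654321006543210654321066543210654321065543210654321065443210654321065433210654321065432210654321065432110654321065432100654321065432106654321065432106554321065432106544321065432106543321065432106543221065432106543211065432106543210, nat_lit 0x1065432106543210000000000000000060123456012345605024613502461350403625140362514030415263041526302053164205316420106543210654321000000000000000006012345601234560502461350246135040362514036251403041526304152630205316420531642010654321065432100000000000000000⟩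
def K8 : FT := ⟨8, nat_lit 0x123456701234567103254761032547623016745230167453210765432107654456701234567012354761032547610326745230167452301765432107654321001234567012345671032547610325476230167452301674532107654321076544567012345670123547610325476103267452301674523017654321076543210, nat_lit 0x3461257034612570423517604235176063724150637241501526734015267340214756302147563057136420571364207654321076543210000000000000000034612570346125704235176042351760637241506372415015267340152673402147563021475630571364205713642076543210765432100000000000000000⟩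
def K9 : FT := ⟨9, nat_lit 0x3210876543210876276843510276843516873540216873540876543210876543843510276843510273540216873540216543210876543210510276843510276840216873540216873210876543210876276843510276843516873540216873540876543210876543843510276843510273540216873540216543210876543210, nat_lit 0x2471360582471360431875026431875071658403271658401852630741852630378612045378612065432108765432100000000000000000523748061523748086245701386245702471360582471360431875026431875071658403271658401852630741852630378612045378612065432108765432100000000000000000⟩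
def K11 : FT := ⟨11, nat_lit 0x876543210a98765476543210a98765436543210a98765432543210a98765432143210a98765432103210a9876543210a210a9876543210a910a9876543210a980a9876543210a987a9876543210a98769876543210a98765876543210a98765476543210a98765436543210a98765432543210a98765432143210a9876543210, nat_lit 0x5184073a6295184019630852a74196308642097531a8642043210a98765432100000000000000000789a0123456789a0357902468a135790a2580369147a25806a3704815926a370271605a49382716094a5061728394a505184073a6295184019630852a74196308642097531a8642043210a98765432100000000000000000⟩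

variable {K : FT} {F : Type*} [Field F]

theorem cast_eq {p : ℕ} [CharP F p] {a b : ℕ} (h : a % p = b % p) : (a : F) = b :=
  (CharP.natCast_eq_natCast F p).mpr h

theorem charP_of [Fintype F] {p n : ℕ} (hp : p.Prime) (h : Fintype.card F = p ^ n) : CharP F p := by
  obtain ⟨q, hq⟩ := CharP.exists F
  obtain ⟨m, a, b⟩ := FiniteField.card F q
  have : q ∣ p ^ n := by rw [← h, b]; exact dvd_pow_self _ m.ne_zero
  rwa [← (Nat.prime_dvd_prime_iff_eq a hp).mp (a.dvd_of_dvd_pow this)]

theorem enc1 (p : ℕ) [CharP F p] (h : (K.ok &&ₙ all (fun a => all (fun b =>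
    (K.ad a b %ₙ p =ₙ (a +ₙ b) %ₙ p) &&ₙ (K.mu a b %ₙ p =ₙ (a *ₙ b) %ₙ p)) 16) 16) = true) :
    ∃ E : Enc K F, ∀ a, E.e a = a := by
  simp only [band_eq, Bool.and_eq_true, all_iff, n_beq, n_mod, n_add, n_mul] at h
  exact ⟨⟨Nat.cast, fun a ha b hb => by rw [cast_eq (h.2 a ha b hb).1, Nat.cast_add],
    fun a ha b hb => by rw [cast_eq (h.2 a ha b hb).2, Nat.cast_mul], Nat.cast_zero, Nat.cast_one,
    h.1⟩, fun _ => rfl⟩

theorem enc2 (p s t : ℕ) [CharP F p] {ω : F} (hω : ω * ω = s + t * ω) (h : (K.ok &&ₙ (2 ≤ₙ p) &&ₙ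
    all (fun a => all (fun b =>
    (K.ad a b %ₙ p %ₙ p =ₙ (a %ₙ p +ₙ b %ₙ p) %ₙ p) &&ₙ (K.ad a b /ₙ p %ₙ p =ₙ (a /ₙ p +ₙ b /ₙ p) %ₙ p) &&ₙ
    (K.mu a b %ₙ p %ₙ p =ₙ (a %ₙ p *ₙ (b %ₙ p) +ₙ s *ₙ (a /ₙ p *ₙ (b /ₙ p))) %ₙ p) &&ₙ
    (K.mu a b /ₙ p %ₙ p =ₙ (a %ₙ p *ₙ (b /ₙ p) +ₙ a /ₙ p *ₙ (b %ₙ p) +ₙ t *ₙ (a /ₙ p *ₙ (b /ₙ p))) %ₙ p))
      16) 16) = true) : ∃ E : Enc K F, ∀ a, E.e a = (a % p : ℕ) + (a / p : ℕ) * ω := by
  simp only [band_eq, Bool.and_eq_true, all_iff, n_beq, n_mod, n_add, n_mul, n_div, n_ble] at h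
  refine ⟨⟨fun a => (a % p : ℕ) + (a / p : ℕ) * ω, fun a ha b hb => ?_, fun a ha b hb => ?_, by simp,
    ?_, h.1⟩, fun _ => rfl⟩
  · rw [cast_eq (h.2.2 a ha b hb).1, cast_eq (h.2.2 a ha b hb).2.1]
    push_cast
    ring
  · rw [cast_eq (h.2.2 a ha b hb).2.2.1, cast_eq (h.2.2 a ha b hb).2.2.2]
    push_cast
    linear_combination (-((a / p : ℕ) : F) * (b / p : ℕ)) * hω
  · simp [Nat.mod_eq_of_lt h.2.1, Nat.div_eq_of_lt h.2.1]

theorem exists_ne [Fintype F] (s : Finset F) (h : s.card < Fintype.card F) : ∃ a, a ∉ s := by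
  by_contra h'
  push Not at h'
  rw [Finset.eq_univ_of_forall h', Finset.card_univ] at h
  exact lt_irrefl _ h

theorem encP [Fintype F] {p : ℕ} (hp : p.Prime) (hF : Fintype.card F = p) (h : (K.ok &&ₙ all (fun a => all (fun b =>
    (K.ad a b %ₙ p =ₙ (a +ₙ b) %ₙ p) &&ₙ (K.mu a b %ₙ p =ₙ (a *ₙ b) %ₙ p)) 16) 16) = true) :
    ∃ E : Enc K F, CharP F p ∧ ∀ a, E.e a = a :=
  have := charP_of hp (n := 1) (by rw [hF, pow_one])
  let ⟨E, h⟩ := enc1 (F := F) p h
  ⟨E, this, h⟩

theorem enc4' [Fintype F] (hF : Fintype.card F = 4) {ω : F} (h : ω ^ 2 + ω + 1 = 0) :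
    ∃ E : Enc K4 F, CharP F 2 ∧ ∀ a, E.e a = (a % 2 : ℕ) + (a / 2 : ℕ) * ω := by
  have := charP_of (F := F) Nat.prime_two (n := 2) hF
  have h2 : (2 : F) = 0 := CharP.cast_eq_zero F 2
  obtain ⟨E, e⟩ := enc2 (K := K4) 2 1 1 (ω := ω)
    (by push_cast; linear_combination h - (ω + 1) * h2) (by decide +kernel)
  exact ⟨E, this, e⟩

theorem exists_omega [Fintype F] (hF : Fintype.card F = 4) : ∃ ω : F, ω ^ 2 + ω + 1 = 0 := by
  classical
  obtain ⟨a, ha⟩ := exists_ne ({0, 1} : Finset F) (Finset.card_le_two.trans_lt (by omega))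
  simp only [Finset.mem_insert, Finset.mem_singleton, not_or] at ha
  have := FiniteField.pow_card a
  rw [hF] at this
  exact ⟨a, mul_left_cancel₀ (mul_ne_zero ha.1 (sub_ne_zero.mpr ha.2)) (by linear_combination this)⟩

theorem enc4 [Fintype F] (hF : Fintype.card F = 4) :
    ∃ E : Enc K4 F, CharP F 2 ∧ ∀ a < 2, E.e a = a := by
  obtain ⟨ω, h⟩ := exists_omega hF
  obtain ⟨E, a, b⟩ := enc4' hF h
  exact ⟨E, a, fun c hc => by simp [b, Nat.mod_eq_of_lt hc, Nat.div_eq_of_lt hc]⟩

theorem enc9 [Fintype F] (hF : Fintype.card F = 9) : Nonempty (Enc K9 F) := by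
  classical
  have := charP_of (F := F) Nat.prime_three (n := 2) hF
  have h3 : (3 : F) = 0 := CharP.cast_eq_zero F 3
  obtain ⟨a, ha⟩ := exists_ne ({0, 1, -1} : Finset F) (Finset.card_le_three.trans_lt (by omega))
  simp only [Finset.mem_insert, Finset.mem_singleton, not_or] at ha
  have e := FiniteField.pow_card a
  rw [hF] at e
  have : (a ^ 2 + 1) * ((a ^ 2) ^ 2 + 1) = 0 := mul_left_cancel₀ (mul_ne_zero (mul_ne_zero ha.1
    (sub_ne_zero.mpr ha.2.1)) (sub_ne_zero.mpr ha.2.2)) (by linear_combination e)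
  obtain ⟨ω, h⟩ : ∃ ω : F, ω ^ 2 + 1 = 0 := (mul_eq_zero.mp this).elim (fun h => ⟨_, h⟩) fun h => ⟨_, h⟩
  obtain ⟨E, -⟩ := enc2 (K := K9) 3 2 0 (ω := ω)
    (by push_cast; linear_combination h - h3) (by decide +kernel)
  exact ⟨E⟩

theorem enc8 [Fintype F] (hF : Fintype.card F = 8) : Nonempty (Enc K8 F) := by
  classical
  have := charP_of (F := F) Nat.prime_two (n := 3) hF
  have h2 : (2 : F) = 0 := CharP.cast_eq_zero F 2
  obtain ⟨a, ha⟩ := exists_ne ({0, 1} : Finset F) (Finset.card_le_two.trans_lt (by omega))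
  simp only [Finset.mem_insert, Finset.mem_singleton, not_or] at ha
  have e := FiniteField.pow_card a
  rw [hF] at e
  have : (a ^ 3 + a + 1) * ((a + 1) ^ 3 + (a + 1) + 1) = 0 := mul_left_cancel₀ (mul_ne_zero ha.1
    (sub_ne_zero.mpr ha.2)) (by
      linear_combination e + (a ^ 7 + a ^ 6 + a ^ 5 - 2 * a ^ 2 - a) * h2)
  obtain ⟨ω, h⟩ : ∃ ω : F, ω ^ 3 + ω + 1 = 0 :=
    (mul_eq_zero.mp this).elim (fun h => ⟨_, h⟩) fun h => ⟨_, h⟩
  have c : ∀ a < 16, ∀ b < 16, (K8.ad a b % 2 % 2 = (a % 2 + b % 2) % 2 ∧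
      K8.ad a b / 2 % 2 = (a / 2 + b / 2) % 2 ∧ K8.ad a b / 4 % 2 = (a / 4 + b / 4) % 2) ∧
      K8.mu a b % 2 % 2 = (a % 2 * (b % 2) + (a / 2 * (b / 4) + a / 4 * (b / 2))) % 2 ∧
      K8.mu a b / 2 % 2 = (a % 2 * (b / 2) + a / 2 * (b % 2) + (a / 2 * (b / 4) + a / 4 * (b / 2)) +
        a / 4 * (b / 4)) % 2 ∧
      K8.mu a b / 4 % 2 = (a % 2 * (b / 4) + a / 2 * (b / 2) + a / 4 * (b % 2) + a / 4 * (b / 4)) % 2 := by
    decide +kernel
  refine ⟨⟨fun a => (a % 2 : ℕ) + (a / 2 : ℕ) * ω + (a / 4 : ℕ) * ω ^ 2, fun a ha b hb => ?_,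
    fun a ha b hb => ?_, by simp, by simp, by decide +kernel⟩⟩
  · rw [cast_eq (c a ha b hb).1.1, cast_eq (c a ha b hb).1.2.1, cast_eq (c a ha b hb).1.2.2]
    push_cast
    ring
  · rw [cast_eq (c a ha b hb).2.1, cast_eq (c a ha b hb).2.2.1, cast_eq (c a ha b hb).2.2.2]
    push_cast
    generalize ((a % 2 : ℕ) : F) = x0
    generalize ((a / 2 : ℕ) : F) = x1
    generalize ((a / 4 : ℕ) : F) = x2
    generalize ((b % 2 : ℕ) : F) = y0
    generalize ((b / 2 : ℕ) : F) = y1
    generalize ((b / 4 : ℕ) : F) = y2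
    linear_combination (-(x1 * y2 + x2 * y1) - x2 * y2 * ω) * h +
      ((x1 * y2 + x2 * y1) * (ω + 1) + x2 * y2 * (ω ^ 2 + ω)) * h2

variable (E : Enc K F) {ι : Type} [Fintype ι] [DecidableEq ι] {n : ℕ} (σ : ι ≃ Fin n)

/-- the coded matrix belongs to the group -/
def In {G : Type*} [Group G] (ρ : G →* Matrix ι ι F) (L : ℕ) : Prop := ∃ y, ρ y = E.mat σ L

variable (hn : n ≤ 16)
include hn

theorem In.mul {G : Type*} [Group G] {ρ : G →* Matrix ι ι F} {A B L : ℕ} (hA : In E σ ρ A)
    (hB : In E σ ρ B) (h : (L =ₙ K.mm n A B) = true) : In E σ ρ L :=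
  let ⟨a, e⟩ := hA; let ⟨b, f⟩ := hB
  ⟨a * b, by rw [map_mul, e, f, (n_beq _ _).mp h, E.mm σ hn]⟩

def pOk (K : FT) (n k A : ℕ) : Bool := (K.mpow n (idm n) A k =ₙ idm n) &&ₙ (1 ≤ₙ k)

theorem gl {k A : ℕ} (h : pOk K n k A = true) : ∃ g : GL ι F, (g : Matrix ι ι F) = E.mat σ A := by
  simp only [pOk, band_eq, Bool.and_eq_true, n_ble] at h
  have := E.pow_one σ hn h.1
  obtain ⟨k, rfl⟩ := Nat.exists_eq_add_of_le' h.2
  exact ⟨⟨E.mat σ A, E.mat σ A ^ k, by rw [← pow_succ', this], by rw [← pow_succ, this]⟩, rfl⟩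

def slOk (K : FT) (n k A : ℕ) : Bool := pOk K n k A &&ₙ (Nat.gcd k (K.q -ₙ 1) =ₙ 1)

theorem det_one [Fintype F] (hF : Fintype.card F = K.q) {k A : ℕ} (h : slOk K n k A = true) :
    (E.mat σ A).det = 1 := by
  simp only [slOk, pOk, band_eq, Bool.and_eq_true, n_ble, n_sub] at h
  have a := congrArg det (E.pow_one σ hn h.1.1)
  rw [det_pow, Matrix.det_one] at a
  have b : (E.mat σ A).det ≠ 0 := fun e => by
    rw [e, zero_pow (by omega)] at a
    exact zero_ne_one a
  have c := FiniteField.pow_card_sub_one_eq_one _ b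
  rw [hF] at c
  have := pow_gcd_eq_one.mpr ⟨a, c⟩
  rwa [(n_beq _ _).mp h.2, pow_one] at this

theorem bil {A B J : Matrix ι ι F} (h : Aᵀ * (J * B) = J) (u v : ι → F) :
    (A *ᵥ u) ⬝ᵥ J *ᵥ (B *ᵥ v) = u ⬝ᵥ J *ᵥ v := by
  rw [mulVec_mulVec, dotProduct_mulVec, vecMul_mulVec, h, dotProduct_mulVec]

def isoOk (K : FT) (n k U A T : ℕ) : Bool :=
  pOk K n k A &&ₙ (K.ma n (K.mm n (tp n A) (K.mm n U A)) (tp n T) =ₙ K.ma n U T)

theorem isom {Q : (ι → F) → F} {U : ℕ} (hQ : ∀ v, Q v = v ⬝ᵥ E.mat σ U *ᵥ v) {k A T : ℕ}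
    (h : isoOk K n k U A T = true) :
    ∃ g : isometryGroup F Q, ((g : GL ι F) : Matrix ι ι F) = E.mat σ A := by
  simp only [isoOk, band_eq, Bool.and_eq_true, n_beq] at h
  obtain ⟨g, e⟩ := gl E σ hn h.1
  have a := congrArg (E.mat σ) h.2
  rw [E.ma σ hn, E.ma σ hn, E.mm σ hn, E.mm σ hn, E.tp σ hn, E.tp σ hn] at a
  refine ⟨⟨g, fun u _ => ?_⟩, e⟩
  have b := congrArg (fun M => u ⬝ᵥ M *ᵥ u) a
  simp only [add_mulVec, dotProduct_add] at b
  rw [mulVec_transpose (E.mat σ T), dotProduct_comm _ (u ᵥ* _), ← dotProduct_mulVec,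
    add_left_inj, dotProduct_mulVec, ← vecMul_mulVec, ← dotProduct_mulVec, ← mulVec_mulVec] at b
  show Q ((g : Matrix ι ι F) *ᵥ u) = Q u
  rw [hQ, hQ, e, b]

def omRho (Q : (ι → F) → F) : Omega F Q →* Matrix ι ι F :=
  (Units.coeHom _).comp ((isometryGroup F Q).subtype.comp (Omega F Q).subtype)

def omOk (K : FT) (n U : ℕ) (c : ℕ × ℕ × ℕ × ℕ × ℕ) (L : ℕ) : Bool :=
  isoOk K n c.1 U c.2.1 c.2.2.1 &&ₙ isoOk K n c.1 U c.2.2.2.1 c.2.2.2.2 &&ₙ
    (K.mm n L (K.mm n c.2.2.2.1 c.2.1) =ₙ K.mm n c.2.1 c.2.2.2.1)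

theorem in_om {Q : (ι → F) → F} {U : ℕ} (hQ : ∀ v, Q v = v ⬝ᵥ E.mat σ U *ᵥ v)
    {c : ℕ × ℕ × ℕ × ℕ × ℕ} {L : ℕ} (h : omOk K n U c L = true) : In E σ (omRho Q) L := by
  simp only [omOk, band_eq, Bool.and_eq_true, n_beq] at h
  obtain ⟨a, e⟩ := isom E σ hn hQ h.1
  obtain ⟨b, f⟩ := isom E σ hn hQ h.2.1
  have c := congrArg (E.mat σ) h.2.2
  rw [E.mm σ hn, E.mm σ hn, E.mm σ hn, ← e, ← f] at c
  refine ⟨⟨⁅a, b⁆, Subgroup.commutator_mem_commutator (Subgroup.mem_top a) (Subgroup.mem_top b)⟩, ?_⟩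
  show (((a : GL ι F) * b * (a : GL ι F)⁻¹ * (b : GL ι F)⁻¹ : GL ι F) : Matrix ι ι F) = _
  rw [Units.val_mul, Units.val_mul, Units.val_mul, ← c, mul_assoc, mul_assoc, mul_assoc,
    Units.mul_inv_cancel_left, Units.mul_inv, mul_one]

omit hn in
theorem om_center [Finite F] {Q : (ι → F) → F} {S : CfsgH5.Form (CfsgH5.orthParam F) (ι → F)}
    (h : ∀ v, S.Q v = Q v) (hS : S.Nondeg) (hd : 5 ≤ Fintype.card ι) :
    ∀ z ∈ Subgroup.center (Omega F Q), ∃ c : F, omRho Q z = c • (1 : Matrix ι ι F) := fun z hz => by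
  rcases (CfsgH5.mem_center_Omega h hS (by omega) (Or.inr (by omega))).mp hz with a | a
  · exact ⟨1, toLin'.injective (LinearMap.ext fun v => by
      have : omRho Q z *ᵥ v = v := DFunLike.congr_fun a v
      simpa using this)⟩
  · exact ⟨-1, toLin'.injective (LinearMap.ext fun v => by
      have : omRho Q z *ᵥ v = -v := DFunLike.congr_fun a v
      simpa [neg_mulVec] using this)⟩

omit hn in
theorem q_plus {m : ℕ} (σ : Fin m ⊕ Fin m ≃ Fin n) {U : ℕ} (h : ∀ i j, dg U (16 * σ i + σ j) =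
    fromBlocks 0 1 0 0 i j) (v : Fin m ⊕ Fin m → F) :
    quadFormPlus m F v = v ⬝ᵥ E.mat σ U *ᵥ v := by
  have : E.mat σ U = fromBlocks 0 1 0 0 := by
    ext (i | i) (j | j) <;> simp [Enc.mat, h, E.e0, one_apply, apply_ite E.e, E.e1]
  simp [this, quadFormPlus, fromBlocks_mulVec, dotProduct]

omit hn in
theorem q_odd {m : ℕ} (σ : Unit ⊕ (Fin m ⊕ Fin m) ≃ Fin n) {U : ℕ} (h : ∀ i j, dg U (16 * σ i + σ j) =
    fromBlocks 1 0 0 (fromBlocks 0 1 0 0) i j) (v : Unit ⊕ (Fin m ⊕ Fin m) → F) :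
    quadFormOdd m F v = v ⬝ᵥ E.mat σ U *ᵥ v := by
  have : E.mat σ U = fromBlocks 1 0 0 (fromBlocks 0 1 0 0) := by
    ext (i | i | i) (j | j | j) <;> simp [Enc.mat, h, E.e0, one_apply, apply_ite E.e, E.e1]
  simp [this, quadFormOdd, fromBlocks_mulVec, dotProduct, sq]

theorem in_sp {m : ℕ} (σ : Fin m ⊕ Fin m ≃ Fin n) [CharP F 2] {U : ℕ}
    (h : ∀ i j, dg U (16 * σ i + σ j) = fromBlocks 0 1 1 0 i j) {L : ℕ}
    (hL : (K.mm n (K.mm n L U) (tp n L) =ₙ U) = true) :
    In E σ (symplecticGroup (Fin m) F).subtype L := by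
  have : E.mat σ U = J (Fin m) F := by
    ext (i | i) (j | j) <;>
      simp [Enc.mat, h, E.e0, one_apply, apply_ite E.e, E.e1, J, CharTwo.neg_eq]
  have a := congrArg (E.mat σ) ((n_beq _ _).mp hL)
  rw [E.mm σ hn, E.mm σ hn, E.tp σ hn, this] at a
  exact ⟨⟨_, SymplecticGroup.mem_iff.mpr a⟩, rfl⟩

theorem in_sl {m : ℕ} (σ : Fin m ≃ Fin n) [Fintype F] (hF : Fintype.card F = K.q) {k L : ℕ}
    (h : slOk K n k L = true) : In E σ (slToMat m F) L :=
  ⟨⟨_, det_one E σ hn hF h⟩, rfl⟩

omit hn in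
theorem sl_center {m : ℕ} : ∀ z ∈ Subgroup.center (SpecialLinearGroup (Fin m) F),
    ∃ c : F, slToMat m F z = c • (1 : Matrix (Fin m) (Fin m) F) := fun z hz =>
  let ⟨c, _, e⟩ := Matrix.SpecialLinearGroup.mem_center_iff.mp hz
  ⟨c, e.symm.trans (by rw [scalar_apply, smul_one_eq_diagonal])⟩

theorem in_su {m q : ℕ} (σ : Fin m ≃ Fin n) [Fintype F] (hF : Fintype.card F = K.q)
    (hq : Fintype.card F = q ^ 2) {k L : ℕ}
    (h : (slOk K n k L &&ₙ (K.mm n (tp n L) (K.mp n q L) =ₙ idm n)) = true) :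
    In E σ ((slToMat m F).comp (SU m F q).subtype) L := by
  simp only [band_eq, Bool.and_eq_true, n_beq] at h
  have a := congrArg (E.mat σ) h.2
  rw [E.mm σ hn, E.tp σ hn, E.mp σ hn, E.idm σ hn] at a
  refine ⟨⟨⟨_, det_one E σ hn hF h.1⟩, fun u v => ?_⟩, rfl⟩
  have b := bil hn (J := 1) (by rw [one_mul, a]) u fun i => v i ^ q
  rw [one_mulVec, one_mulVec] at b
  refine Eq.trans (Finset.sum_congr rfl fun i _ => congrArg _ ?_) b
  exact (CfsgH5.frobQ hq).map_mulVec _ v i

theorem in_sz (σ : Fin 4 ≃ Fin n) {U k e L : ℕ}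
    (h : ∀ i j, dg U (16 * σ i + σ j) = if i.rev = j then 1 else 0)
    (h1 : (pOk K n k L &&ₙ (K.mm n (tp n L) (K.mm n U L) =ₙ U)) = true)
    (h2 : ∀ p r, K.ad (K.pw (dg L (16 * σ p + σ r)) e)
      (K.mu (dg L (16 * σ (Lie.pairOf p).2 + σ (Lie.pairOf r).1))
        (dg L (16 * σ (Lie.pairOf p).1 + σ (Lie.pairOf r).2))) =
      K.mu (dg L (16 * σ (Lie.pairOf p).1 + σ (Lie.pairOf r).1))
        (dg L (16 * σ (Lie.pairOf p).2 + σ (Lie.pairOf r).2))) :
    In E σ ((Units.coeHom _).comp (Lie.Sz F e).subtype) L := by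
  simp only [band_eq, Bool.and_eq_true, n_beq] at h1
  obtain ⟨g, hg⟩ := gl E σ hn h1.1
  have a := congrArg (E.mat σ) h1.2
  rw [E.mm σ hn, E.mm σ hn, E.tp σ hn] at a
  have b : ∀ u v : Fin 4 → F, Lie.altForm4 u v = u ⬝ᵥ E.mat σ U *ᵥ v := fun u v => by
    simp [Lie.altForm4, dotProduct, mulVec, Fin.sum_univ_four, Enc.mat, h, apply_ite E.e, E.e0, E.e1,
      Fin.rev]
  refine ⟨⟨g, Subgroup.subset_closure ⟨fun u v => ?_, ?_⟩⟩, hg⟩
  · show Lie.altForm4 ((g : Matrix _ _ F) *ᵥ u) ((g : Matrix _ _ F) *ᵥ v) = _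
    rw [b, b, hg, bil hn a]
  · ext p r
    have := congrArg E.e (h2 p r)
    rw [E.add _ (K.pw_lt _ _) _ (K.mu_lt _ _), E.mul _ (dg_lt _ _) _ (dg_lt _ _),
      E.mul _ (dg_lt _ _) _ (dg_lt _ _), E.pw (dg_lt _ _)] at this
    rw [hg]
    exact (eq_sub_of_add_eq this).symm

/-! ### root elements -/

def zc (p : ℕ) (m : ℤ) : ℕ := (m % p).toNat

def xC (K : FT) (p : ℕ) (D : Lie.ChevalleyDatum) (r : Fin D.nroots) (t : ℕ) (row col : D.Idx) : ℕ :=
  match col with
  | Sum.inl i =>
    (match row with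
     | Sum.inl i' => if i' = i then 1 else 0
     | Sum.inr u => if u = r then K.mu (zc p (-((D.cartanSR.getD i.val #[]).getD r.val 0))) t else 0)
  | Sum.inr s =>
    if s = r then (match row with | Sum.inr u => if u = r then 1 else 0 | Sum.inl _ => 0)
    else if s.val = D.negIdx.getD r.val 0 then
      (match row with
       | Sum.inl i => K.mu (zc p ((D.coroot.getD r.val #[]).getD i.val 0)) t
       | Sum.inr u => if u = s then 1 else if u = r then K.mu (zc p (-1)) (K.pw t 2) else 0)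
    else
      (match row with
       | Sum.inl _ => 0
       | Sum.inr u => (D.chainCoeff r.val s.val u.val).foldr
          (fun km a => K.ad a (K.mu (zc p km.2) (K.pw t km.1))) (if u = s then 1 else 0))

omit hn in
theorem e_xC {p : ℕ} [CharP F p] (hp : 0 < p ∧ p ≤ 16) (he : ∀ a < p, E.e a = a)
    (D : Lie.ChevalleyDatum) (r : Fin D.nroots) {t : ℕ} (ht : t < 16) (row col : D.Idx) :
    E.e (xC K p D r t row col) = D.xMat F r (E.e t) row col := by
  have a : ∀ m, zc p m < p := fun m => by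
    have := Int.emod_lt_of_pos m (by exact_mod_cast hp.1 : (0 : ℤ) < p)
    unfold zc; omega
  have b : ∀ m c, c < 16 → E.e (K.mu (zc p m) c) = m * E.e c := fun m c hc => by
    rw [E.mul _ ((a m).trans_le hp.2) _ hc, he _ (a m), zc, ← Int.cast_natCast,
      Int.toNat_of_nonneg (Int.emod_nonneg _ (by exact_mod_cast hp.1.ne')), ← CharP.intCast_eq_intCast_mod]
  have c : ∀ (l : List (ℕ × ℤ)) (z : ℕ), z < 16 →
      l.foldr (fun km a => K.ad a (K.mu (zc p km.2) (K.pw t km.1))) z < 16 ∧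
      E.e (l.foldr (fun km a => K.ad a (K.mu (zc p km.2) (K.pw t km.1))) z) =
        E.e z + (l.map fun km => ((km.2 : ℤ) : F) * E.e t ^ km.1).sum := fun l z hz => by
    induction l with
    | nil => simpa using hz
    | cons x l ih =>
      refine ⟨K.ad_lt _ _, ?_⟩
      rw [List.foldr_cons, E.add _ ih.1 _ (K.mu_lt _ _), ih.2, b _ _ (K.pw_lt _ _), E.pw ht,
        List.map_cons, List.sum_cons]
      ring
  rcases row with i | u <;> rcases col with j | s <;>
    simp only [xC, Lie.ChevalleyDatum.xMat, of_apply] <;> split_ifs <;>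
    simp [E.e0, E.e1, b _ _ ht, b _ _ (K.pw_lt _ _), E.pw ht, (c _ _ _).2]

theorem in_chev {p : ℕ} [CharP F p] (hp : 0 < p ∧ p ≤ 16) (he : ∀ a < p, E.e a = a)
    (D : Lie.ChevalleyDatum) (σ : D.Idx ≃ Fin n) (r : Fin D.nroots) (t : ℕ) {k L : ℕ}
    (h : t < 16 ∧ pOk K n k L = true ∧ ∀ i j, dg L (16 * σ i + σ j) = xC K p D r t i j) :
    In E σ ((Units.coeHom _).comp (D.group F).subtype) L := by
  obtain ⟨g, hg⟩ := gl E σ hn h.2.1
  refine ⟨⟨g, Subgroup.subset_closure ⟨r, E.e t, ?_⟩⟩, hg⟩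
  ext i j
  rw [hg, ← e_xC E hp he D r h.1, ← h.2.2]
  rfl

/-! ### frames -/

def frOk (T : MT) (b : ℕ) (B : List ℕ) (W : ℕ) : Bool :=
  (B.length =ₙ T.n) &&ₙ
  (T.K.mm T.n W (tp T.n (pack 64 (fun j => T.P (B.getD j 0)) T.n)) =ₙ idm T.n) &&ₙ
  force (T.K.app T.n W (T.P b)) fun u => all1 (fun j => (1 ≤ₙ dg u j) &&ₙ (Nat.succ (dg u j) ≤ₙ T.K.q)) T.n

omit hn in
theorem frame {T : MT} (E : Enc T.K F) (σ : ι ≃ Fin T.n) (hn : T.n ≤ 16) {b W : ℕ} {B : List ℕ}
    (h : frOk T b B W = true) {g : Matrix ι ι F}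
    (hg : ∀ c ∈ b :: B, (MT.ln E σ c).map (mulVecLin g) = MT.ln E σ c) :
    ∃ c : F, g = c • (1 : Matrix ι ι F) := by
  simp only [frOk, band_eq, Bool.and_eq_true, n_beq, force_eq, all1_iff, n_ble] at h
  obtain ⟨h1, h2, h3⟩ := h
  have a : ∀ c ∈ b :: B, ∃ l : F, l • E.vec σ (T.P c) = g *ᵥ E.vec σ (T.P c) := fun c hc =>
    Submodule.mem_span_singleton.mp ((hg c hc).le ⟨_, Submodule.mem_span_singleton_self _, rfl⟩)
  choose l hl using fun j : ι => a (B.getD (σ j) 0) (List.mem_cons_of_mem _ (by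
    rw [List.getD_eq_getElem _ _ (by rw [h1]; exact (σ j).2)]; exact List.getElem_mem _))
  obtain ⟨c, hc⟩ := a b List.mem_cons_self
  have e := congrArg (E.mat σ) h2
  rw [E.mm σ hn, E.tp σ hn, E.idm σ hn] at e
  set V := (E.mat σ (pack 64 (fun j => T.P (B.getD j 0)) T.n))ᵀ with hV
  have v : ∀ i j, V i j = E.vec σ (T.P (B.getD (σ j) 0)) i := fun i j => by
    have := get_pack 64 T.n (fun j => T.P (B.getD j 0))
      (fun _ _ => Nat.and_lt_two_pow _ (by norm_num : 0xffffffffffffffff < 2 ^ 64)) (σ j).2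
    have s := (σ i).2
    rw [Enc.vec, ← this, hV, transpose_apply, Enc.mat, of_apply, ← dg_shift]
    congr 1
    apply Nat.eq_of_testBit_eq fun k => ?_
    show (_ >>> (64 * _) >>> (4 * _) &&& (2 ^ 4 - 1)).testBit k =
      ((_ >>> (64 * _) &&& (2 ^ 64 - 1)) >>> (4 * _) &&& (2 ^ 4 - 1)).testBit k
    simp only [Nat.testBit_and, Nat.testBit_shiftRight, Nat.testBit_two_pow_sub_one]
    by_cases hk : k < 4
    · have : 4 * (σ i : ℕ) + k < 64 := by omega
      simp only [this, decide_true, Bool.and_true]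
    · simp only [hk, decide_false, Bool.and_false]
  have f : g * V = V * diagonal l := by
    ext i j
    rw [mul_diagonal, v, mul_comm, mul_apply]
    simp only [v]
    exact (congrFun (hl j) i).symm
  have e' := mul_eq_one_comm.mp e
  have k : l = fun _ => c := funext fun j => by
    have := congrFun (congrArg (E.mat σ W *ᵥ ·) hc) j
    simp only [mulVec_smul] at this
    rw [mulVec_mulVec, ← mul_one g, ← e', ← mul_assoc g, f, ← mul_assoc, ← mul_assoc, e, one_mul,
      ← mulVec_mulVec, mulVec_diagonal, ← E.app] at this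
    exact mul_right_cancel₀ (E.ne0 (h3 _ (σ j).2).2 (Nat.one_le_iff_ne_zero.mp (h3 _ (σ j).2).1))
      this.symm
  exact ⟨c, by rw [← mul_one g, ← e', ← mul_assoc, f, k, ← smul_one_eq_diagonal, Matrix.mul_smul,
    mul_one, smul_mul, e']⟩

end

end CfsgH7.Mx
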