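import Cfsg.Agent.H7.Au
import Cfsg.Agent.H7.Iso2
import Cfsg.Agent.H7.Mx2

set_option autoImplicit false

/-! Upper bounds for centralisers from tight bases. -/

namespace CfsgH7

open Cfsg MulAction Subgroup

noncomputable section

/-- the points of `V` with the type of `b` -/
def Tb.tc (T : Tb) (u b V : ℕ) : ℕ := force (trW T.U u b) fun c =>
  cnt (fun q => tb V q &&ₙ ite' (c =ₙ b) (trW T.U u q =ₙ q) (bnot (trW T.U u q =ₙ q))) T.N

def Tb.cb (T : Tb) (u : ℕ) (D : List Lev) : ℕ :=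
  List.rec (nat_lit 1) (fun l _ r => ite' (l.k =ₙ nat_lit 0) (T.tc u l.b l.V) (nat_lit 1) *ₙ r) D

variable {T : Tb} {G : Type*} [Group G] {Ω : Type*} [MulAction G Ω]

theorem WT0.orb_tc (W : WT0 T G Ω) {u b V : ℕ} (hu : okW T.n u = true) (hb : b < T.N)
    {H : Subgroup G} (hH : H ≤ centralizer {W.ev u})
    (h : ∀ g ∈ H, ∃ p < T.N, g • W.pt b = W.pt p ∧ V.testBit p = true) :
    (orbit H (W.pt b)).ncard ≤ T.tc u b V := by
  rw [Tb.tc, force_eq]
  generalize hf : (fun q => tb V q &&ₙ ite' (trW T.U u b =ₙ b) (trW T.U u q =ₙ q)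
    (bnot (trW T.U u q =ₙ q))) = f
  rw [← ncard_of_enum W.pt T.N f {x | ∃ i < T.N, f i = true ∧ W.pt i = x}
    (fun i hi j hj _ _ e => W.inj i hi j hj e) fun _ => Iff.rfl]
  refine Set.ncard_le_ncard ?_ (W.finite_X.subset fun _ ⟨i, a, _, c⟩ => ⟨i, a, c⟩)
  rintro _ ⟨⟨g, hg⟩, rfl⟩
  obtain ⟨p, hp, e, hv⟩ := h g hg
  refine ⟨p, hp, ?_, e.symm⟩
  have c : W.ev u * g = g * W.ev u := hH hg _ rfl
  have a := W.trW_spec hu hb
  have a' := W.trW_spec hu hp
  have k : trW T.U u b = b ↔ trW T.U u p = p := by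
    have : W.pt (trW T.U u p) = g • W.pt (trW T.U u b) := by
      rw [← a'.2, ← a.2, ← e, ← mul_smul, c, mul_smul]
    exact ⟨fun h => W.inj _ a'.1 _ hp (by rw [this, h, e]), fun h => W.inj _ a.1 _ hb
      (MulAction.injective g (by show g • _ = g • _; rw [← this, h, e]))⟩
  subst hf
  simp only [band_eq, Bool.and_eq_true, tb_eq, hv, true_and, ite'_eq, n_beq]
  split_ifs with d
  · exact (n_beq _ _).mpr (k.mp d)
  · simp only [bnot_eq, Bool.not_eq_true', n_beq_false]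
    exact fun h => d (k.mpr h)

theorem WT0.cm_card [Finite G] (W : WT0 T G Ω) {u : ℕ} (hu : okW T.n u = true) :
    ∀ {D : List Lev} {bs : List ℕ}, W.Cm u D bs → (∀ b ∈ bs, b < T.N) →
      Nat.card ↥(centralizer {W.ev u} ⊓ W.fx bs) ≤ T.cb u D
  | [], bs, h, _ => (card_le_one_iff_eq_bot _).mpr (eq_bot_iff.mpr fun g hg => h g hg.2)
  | l :: D, bs, ⟨c1, c2, c3, c4⟩, hb => by
    have ih := W.cm_card hu c4 (List.forall_mem_cons.mpr ⟨c1, hb⟩)
    rw [← card_orbit_mul _ (W.pt l.b), inf_assoc, ← W.fx_cons]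
    refine Nat.mul_le_mul ?_ ih
    rw [ite'_eq]
    split_ifs with k
    · exact W.orb_tc hu c1 inf_le_left fun g hg => c3 g hg.2
    · obtain ⟨j1, j2⟩ := c2 fun e => k ((n_beq _ _).mpr e)
      rw [List.getD_eq_getElem _ _ j1] at j2
      refine (Set.ncard_le_ncard (t := {W.pt l.b}) ?_).trans (Set.ncard_singleton _).le
      rintro _ ⟨⟨g, hg⟩, rfl⟩
      have c : Commute (W.ev u) g := hg.1 _ rfl
      show g • W.pt l.b = W.pt l.b
      rw [← j2, ← (W.it_spec hu l.k (hb _ (List.getElem_mem j1))).2, ← mul_smul,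
        ← (c.pow_left l.k).eq, mul_smul, hg.2 _ (List.getElem_mem j1)]

theorem WT0.cent_le [Finite G] (W : WT0 T G Ω) {C : ℕ} (hC : C ≤ T.n) (top : cl W.gen C = ⊤)
    {u b m : ℕ} {D : List Lev} (h : W.Cm u D [b]) (hc : (okW T.n u &&ₙ (Nat.succ b ≤ₙ T.N) &&ₙ
      (T.tc u b ((1 <<ₙ T.N) -ₙ 1) *ₙ T.cb u D =ₙ m)) = true) :
    Nat.card (centralizer {W.ev u}) ≤ m := by
  simp only [band_eq, Bool.and_eq_true, n_beq, n_ble, n_mul] at hc
  obtain ⟨hu, hb, e⟩ := hc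
  have a := W.cm_card hu h (by simpa using hb)
  rw [W.fx_cons, show W.fx [] = ⊤ from eq_top_iff.mpr fun _ _ _ h => absurd h (by simp),
    top_inf_eq] at a
  rw [← card_orbit_mul _ (W.pt b), ← e]
  refine Nat.mul_le_mul (W.orb_tc hu hb le_rfl fun g _ => ?_) a
  obtain ⟨q, c, d⟩ := W.exists_pt hC (top ▸ mem_top g) hb
  exact ⟨q, c, d, by simpa [n_shl, n_sub, Nat.one_shiftLeft] using c⟩

/-- generators of a centraliser -/
theorem WT.cent_eq [Finite G] (W : WT T G Ω) {u m C : ℕ} {ts : List ℕ}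
    (h1 : Nat.card (centralizer {W.ev u}) ≤ m) (h2 : m ≤ Nat.card (cl (W.gs ts) C))
    (h : all (fun i => T.eq2 u (ts.getD i 0) (ts.getD i 0) u) C = true) :
    cl (W.gs ts) C = centralizer {W.ev u} := by
  refine eq_of_le_of_card_ge (cl_le fun i hi => ?_) (h1.trans h2)
  rw [mem_centralizer_iff]
  rintro _ rfl
  exact W.eq2 ((all_iff _ _).mp h i hi)

theorem WT.ord2 (W : WT T G Ω) {u : ℕ} (q : ℕ) (h : (T.eq2 u u 0 0 &&ₙ (Nat.succ q ≤ₙ T.N) &&ₙ
    bnot (trW T.U u q =ₙ q)) = true) : orderOf (W.ev u) = 2 := by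
  rw [band_eq, band_eq, Bool.and_eq_true, Bool.and_eq_true] at h
  have hu : okW T.n u = true := by
    have := h.1
    simp only [Tb.eq2, band_eq, Bool.and_eq_true] at this
    exact this.1
  have a := W.trW_spec hu ((n_ble _ _).mp h.2.1)
  refine orderOf_eq_prime ((pow_two _).trans ((W.eq2 h.1).trans (mul_one _))) fun e => ?_
  have b := h.2.2
  simp only [bnot_eq, Bool.not_eq_true', n_beq_false] at b
  exact b (W.inj _ a.1 _ ((n_ble _ _).mp h.2.1) (by rw [← a.2, e, one_smul]))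

open Mx Matrix in
theorem Mx.MT.Ok.lfull0 {T : MT} {F : Type*} [Field F] {ι : Type*} [Fintype ι] [DecidableEq ι]
    (E : Enc T.K F) (σ : ι ≃ Fin T.n) (h : T.Ok) (ρ : G →* Matrix ι ι F)
    (hy : ∀ i < T.k, ∃ y, ρ y = E.mat σ (T.L i)) (hk : 0 < T.k)
    {m j : ℕ} {L : List (ℕ × ℕ × List ℕ)} (hc : MT.chk T.tb j L m = true) (hm : Nat.card G = m)
    (h0 : m ≠ 0) : Finite G ∧ ∃ (_ : MulAction G (Submodule F (ι → F)))
      (W : WT T.tb G (Submodule F (ι → F))), cl W.gen 16 = ⊤ ∧ ρ (W.gen 0) = E.mat σ (T.L 0) := by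
  letI := lact ρ
  choose! y hy using hy
  have : Finite G := Nat.finite_of_card_ne_zero (hm ▸ h0)
  obtain ⟨-, W, e, t⟩ := (h.W E σ y fun i hi _ => hy i hi ▸ rfl).full ⟨this, hm.le⟩ 16 j L hc
  refine ⟨this, _, W, by rwa [← e] at t, ?_⟩
  rw [show W.gen 0 = y 0 by rw [show W.gen = W.toWT0.gen from rfl, e]; exact if_pos hk, hy 0 hk]

end

end CfsgH7
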