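import Cfsg.Agent.H7.Ce
import Cfsg.Agent.H2.PGroup
import Cfsg.Agent.H5.SpMat

set_option autoImplicit false

/-! Extraspecial 2-cores of centralisers. -/

namespace CfsgH7

open Cfsg MulAction Subgroup
open scoped commutatorElement

variable {G : Type*} [Group G]

theorem es2' {P : Type*} [Group P] [Finite P] (hp : IsPGroup 2 P) {z : P} (hz : orderOf z = 2)
    (h1 : z ∈ center P) (h2 : Nat.card (center P) ≤ 2)
    (h3 : ∀ x : P, x ^ 2 ∈ zpowers z) (h4 : z ∈ _root_.commutator P) : IsExtraspecial 2 P := by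
  have e : zpowers z = center P :=
    eq_of_le_of_card_ge (zpowers_le.mpr h1) (by rw [Nat.card_zpowers, hz]; exact h2)
  have hs : ∀ x : P, x ^ 2 ∈ center P := fun x => e ▸ h3 x
  have hc : ∀ a b : P, ⁅a, b⁆ ∈ center P := fun a b => by
    have : ⁅a, b⁆ = a ^ 2 * (a⁻¹ * b) ^ 2 * b⁻¹ ^ 2 := by simp only [commutatorElement_def, sq]; group
    rw [this]; exact mul_mem (mul_mem (hs _) (hs _)) (hs _)
  have h5 : _root_.commutator P = center P :=
    le_antisymm (commutator_le.mpr fun a _ b _ => hc a b) (e ▸ zpowers_le.mpr h4)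
  have : Fact (Nat.Prime 2) := ⟨Nat.prime_two⟩
  exact ⟨⟨hp, le_antisymm (CfsgH2.frattini_le_of (p := 2) h5.le hs)
    (h5 ▸ CfsgH2.commutator_le_frattini hp), h5⟩, by rw [← e, Nat.card_zpowers, hz]⟩

theorem sq_one_of {y : ℕ → G} {n : ℕ} (ht : cl y n = ⊤) (h1 : ∀ i < n, y i ^ 2 = 1)
    (h2 : ∀ i < n, ∀ j < n, y i * y j = y j * y i) (u : G) : u ^ 2 = 1 := by
  have c : ∀ v : G, (∀ i < n, v * y i = y i * v) → ∀ u, v * u = u * v := fun v h u =>
    (ht ▸ cl_le (H := centralizer {v}) (fun i hi => by rintro _ rfl; exact h i hi) :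
      ⊤ ≤ centralizer {v}) (mem_top u) v rfl
  have d : ∀ u v : G, Commute u v := fun u => c u fun i hi => (c _ (h2 i hi) u).symm
  let S : Subgroup G := ⟨⟨⟨{u | u ^ 2 = 1}, fun {a b} ha hb => by
    show (a * b) ^ 2 = 1
    rw [(d a b).mul_pow, ha, hb, one_mul]⟩, one_pow 2⟩, fun {a} ha => by
    show a⁻¹ ^ 2 = 1
    rw [inv_pow, ha, inv_one]⟩
  exact (ht ▸ cl_le (H := S) h1 : ⊤ ≤ S) (mem_top u)

theorem half [Finite G] {H K : Subgroup G} (h : H ≤ K) {w : G} (h1 : w ∈ K) (h2 : w ∉ H) :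
    2 * Nat.card H ≤ Nat.card K := by
  obtain ⟨c, hc⟩ := card_dvd_of_le h
  have p : 0 < Nat.card K := Nat.card_pos
  have : c ≠ 1 := fun e => h2 (eq_of_le_of_card_ge h (by rw [hc, e, mul_one]) ▸ h1)
  have : c ≠ 0 := fun e => by rw [hc, e] at p; omega
  rw [hc, mul_comm]
  exact Nat.mul_le_mul_left _ (by omega)

/-- a hyperbolic basis -/
theorem es_basis [Finite G] {y : ℕ → G} (ht : cl y 8 = ⊤) (hc : Nat.card G = 2 ^ 9) {z : G}
    (hz : orderOf z = 2) (h0 : z ∈ center G) (h1 : ∀ i < 8, y i ^ 2 = 1)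
    (h2 : ∀ j < 8, y (j ^^^ 1) * y j = z * y j * y (j ^^^ 1))
    (h3 : ∀ j < 8, ∀ i < 8, i ≠ j ^^^ 1 → y i * y j = y j * y i) : IsExtraspecial 2 G := by
  have z1 : z ≠ 1 := fun e => by simp [e] at hz
  have k : ∀ k ≤ 8, 2 ^ k * Nat.card (centralizer (y '' {i | i < k})) ≤ 2 ^ 9 := fun k => by
    induction k with
    | zero => exact fun _ => by rw [pow_zero, one_mul, ← hc]; exact card_le_card_group _
    | succ k ih =>
      intro hk
      have x : ∀ k < 8, k ^^^ 1 < 8 ∧ ∀ i < k, i ≠ k ^^^ 1 ^^^ 1 := by decide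
      refine le_trans ?_ (ih (by omega))
      rw [pow_succ, mul_assoc]
      refine Nat.mul_le_mul_left _ (half (centralizer_le (Set.image_mono fun i hi =>
        Nat.lt_succ_of_lt hi)) (w := y (k ^^^ 1)) ?_ fun h => z1 ?_)
      · rintro _ ⟨i, hi, rfl⟩
        have hi : i < k := hi
        exact h3 _ (x k hk).1 i (by omega) ((x k hk).2 i hi)
      · have := h _ ⟨k, Nat.lt_succ_self k, rfl⟩
        rw [h2 k hk, mul_assoc] at this
        exact right_eq_mul.mp this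
  have : (zpowers z).Normal := ⟨fun n hn g => by
    rw [mem_center_iff.mp (zpowers_le.mpr h0 hn) g, mul_inv_cancel_right]; exact hn⟩
  refine es2' (IsPGroup.of_card hc) hz h0 ?_ (fun x => ?_) ?_
  · have a := k 8 le_rfl
    have b := card_le_of_le (center_le_centralizer (y '' {i | i < 8}))
    omega
  · rw [← QuotientGroup.eq_one_iff, QuotientGroup.mk_pow]
    refine sq_one_of (y := fun i => (y i : G ⧸ zpowers z)) (n := 8) (eq_top_iff.mpr fun u _ => ?_)
      (fun i hi => by rw [← QuotientGroup.mk_pow, h1 i hi, QuotientGroup.mk_one]) (fun i hi j hj => ?_) _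
    · obtain ⟨u, rfl⟩ := QuotientGroup.mk_surjective u
      exact (ht ▸ cl_le (H := comap (QuotientGroup.mk' _) _) (fun i hi => mem_cl _ hi) :
        ⊤ ≤ comap (QuotientGroup.mk' (zpowers z)) (cl (fun i => (y i : G ⧸ zpowers z)) 8)) (mem_top u)
    · by_cases e : i = j ^^^ 1
      · rw [← QuotientGroup.mk_mul, e, h2 j hj, QuotientGroup.mk_mul, QuotientGroup.mk_mul,
          (QuotientGroup.eq_one_iff z).mpr (mem_zpowers z), one_mul]
      · rw [← QuotientGroup.mk_mul, h3 j hj i hi e, QuotientGroup.mk_mul]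
  · have : z = ⁅y (0 ^^^ 1), y 0⁆ := by rw [commutatorElement_def, h2 0 (by norm_num)]; group
    rw [this]
    exact commutator_mem_commutator trivial trivial

theorem core_ker [Finite G] {K : Type*} [Group K] [Finite K] [IsSimpleGroup K] (φ : G →* K)
    (hs : φ.range = ⊤) (hK : ¬ IsPGroup 2 K) (h : IsPGroup 2 φ.ker) : pCore 2 G = φ.ker := by
  refine le_antisymm (sSup_le fun N hN => ?_) (le_sSup ⟨inferInstance, h⟩)
  have := hN.1.map φ (MonoidHom.range_eq_top.mp hs)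
  rcases IsSimpleGroup.eq_bot_or_eq_top_of_normal _ this with e | e
  · exact (Subgroup.map_eq_bot_iff _).mp e
  · exact (hK ((e ▸ hN.2.map φ).of_equiv topEquiv)).elim

def Tb.esChk (T : Tb) (z h : ℕ) (qs cs us : List ℕ) : Bool := all (fun j =>
  T.eq2 z (qs.getD j 0) (us.getD j 0) 0 &&ₙ
  T.eq2 (qs.getD (j ^^^ 1) 0) (qs.getD j 0) (us.getD j 0) (qs.getD (j ^^^ 1) 0) &&ₙ
  T.eq2 (qs.getD j 0) (qs.getD j 0) 0 0 &&ₙ T.eq2 z (cs.getD j 0) (cs.getD j 0) z &&ₙ
  T.eq2 (cs.getD j 0) h (qs.getD j 0) (cs.getD j 0) &&ₙ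
  all (fun i => (i =ₙ j ^^^ 1) ||ₙ T.eq2 (qs.getD i 0) (qs.getD j 0) (qs.getD j 0) (qs.getD i 0)) 8) 8

variable {T : Tb} {Ω : Type*} [MulAction G Ω]

theorem WT.core_es [Finite G] (W : WT T G Ω) {C : Subgroup G} {z h : ℕ} {qs cs us : List ℕ}
    (e : C = centralizer {W.ev z}) (o : orderOf (W.ev z) = 2) (hc : T.esChk z h qs cs us = true)
    (hq : 512 ≤ Nat.card (cl (W.gs qs) 8)) {K : Type*} [Group K] [Finite K] [IsSimpleGroup K]
    (φ : C →* K) (hs : φ.range = ⊤) {M m : ℕ} (hM : Nat.card C = M) (hm : Nat.card K = m)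
    (hn : M = m * 512 ∧ 3 ∣ m) (hh : W.ev h ∈ C) (h1 : φ ⟨_, hh⟩ = 1) :
    IsExtraspecial 2 (pCore 2 (centralizer {W.ev z})) ∧
      Nat.card (pCore 2 (centralizer {W.ev z})) = 2 ^ 9 ∧
      Nonempty (centralizer {W.ev z} ⧸ pCore 2 (centralizer {W.ev z}) ≃* K) := by
  subst e
  simp only [Tb.esChk, all_iff, band_eq, bor_eq, Bool.and_eq_true, Bool.or_eq_true, n_beq] at hc
  have ck : Nat.card φ.ker = 2 ^ 9 := by
    have a := φ.ker.index_mul_card
    rw [index_ker, hs, card_top, hM, hn.1, hm] at a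
    exact Nat.eq_of_mul_eq_mul_left (hm ▸ Nat.card_pos) a
  have : Fact (Nat.Prime 2) := ⟨Nat.prime_two⟩
  have e := core_ker φ hs (fun p => by
    obtain ⟨n, a⟩ := p.exists_card_eq
    exact absurd (Nat.prime_three.dvd_of_dvd_pow (a ▸ hm ▸ hn.2)) (by norm_num)) (IsPGroup.of_card ck)
  have mq : ∀ j < 8, ∃ a : W.ev (qs.getD j 0) ∈ centralizer {W.ev z}, φ ⟨_, a⟩ = 1 := fun j hj => by
    have c : W.ev (cs.getD j 0) ∈ centralizer {W.ev z} := by
      rintro _ rfl; exact W.eq2 (hc j hj).2.2.2.1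
    have d := eq_mul_inv_of_mul_eq (W.eq2 (hc j hj).2.2.2.2.1).symm
    have f : W.ev (qs.getD j 0) ∈ centralizer {W.ev z} := by
      rw [d]; exact mul_mem (mul_mem c hh) (inv_mem c)
    exact ⟨f, by rw [show (⟨_, f⟩ : centralizer {W.ev z}) = ⟨_, c⟩ * ⟨_, hh⟩ * (⟨_, c⟩)⁻¹ from
      Subtype.ext d, map_mul, map_mul, h1, mul_one, map_inv, mul_inv_cancel]⟩
  choose ma mb using mq
  let y : ℕ → φ.ker := fun j => if a : j < 8 then ⟨⟨_, ma j a⟩, mb j a⟩ else 1
  let ι : φ.ker →* G := (centralizer {W.ev z}).subtype.comp φ.ker.subtype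
  have hι : Function.Injective ι := Subtype.val_injective.comp Subtype.val_injective
  have hy : ∀ j < 8, ι (y j) = W.ev (qs.getD j 0) := fun j a => by simp only [y, dif_pos a]; rfl
  have ht : cl y 8 = ⊤ := eq_top_of_le_card _ (by
    rw [ck, ← card_map_of_injective (K := cl y 8) hι]
    exact hq.trans (card_le_of_le (cl_le fun j a => ⟨y j, mem_cl y a, hy j a⟩)))
  have x : ∀ k < 8, k ^^^ 1 < 8 := by decide
  have b : ∀ j < 8, ι (y (j ^^^ 1) * y j) = W.ev z * ι (y j) * ι (y (j ^^^ 1)) := fun j a => by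
    rw [map_mul, hy j a, hy _ (x j a), W.eq2 (hc j a).2.1, W.eq2 (hc j a).1, W.ev_zero, mul_one]
  let z' : φ.ker := ⁅y (0 ^^^ 1), y 0⁆
  have hz : ι z' = W.ev z := by
    simp only [z']
    rw [commutatorElement_def, map_mul, map_mul, b 0 (by norm_num), map_inv, map_inv]; group
  refine ⟨e ▸ ?_, e ▸ ck, ⟨(QuotientGroup.quotientMulEquivOfEq e).trans
    (QuotientGroup.quotientKerEquivOfSurjective φ (MonoidHom.range_eq_top.mp hs))⟩⟩
  refine es_basis ht ck (z := z') ((orderOf_injective ι hι z').symm.trans ((congrArg orderOf hz).trans o))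
    (mem_center_iff.mpr fun g => hι ?_) (fun i a => hι ?_) (fun j a => hι ?_) fun j a i a' n => hι ?_
  · rw [map_mul, map_mul, hz]; exact (g.1.2 _ rfl).symm
  · rw [pow_two, map_mul, hy i a, W.eq2 (hc i a).2.2.1, W.ev_zero, mul_one, map_one]
  · rw [b j a, map_mul, map_mul, hz]
  · rw [map_mul, map_mul, hy i a', hy j a]
    exact W.eq2 (((hc j a).2.2.2.2.2 i a').resolve_left n)

theorem WT.comap (W : WT T G Ω) {G' : Type*} [Group G'] (e : G' ≃* G) {C : ℕ}
    (t : cl W.gen C = ⊤) : ∃ (_ : MulAction G' Ω) (W' : WT T G' Ω), cl W'.gen C = ⊤ := by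
  letI : MulAction G' Ω := MulAction.compHom Ω e.toMonoidHom
  have s : ∀ (g : G') (x : Ω), g • x = e g • x := fun _ _ => rfl
  refine ⟨_, ⟨⟨fun i => e.symm (W.gen i), W.pt, W.inj, fun x hx p hp => ?_, fun x hx => ?_⟩, W.hB,
    fun g hg => e.injective ((W.base _ hg).trans (map_one e).symm)⟩, eq_top_iff.mpr fun g _ => ?_⟩
  · rw [s, e.apply_symm_apply]; exact W.spec x hx p hp
  · rw [← map_mul, (W.hiv x hx).2, map_one]; exact ⟨(W.hiv x hx).1, rfl⟩
  · have := (t ▸ cl_le (H := Subgroup.comap e.symm.toMonoidHom _) (fun i hi => mem_cl _ hi) :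
      ⊤ ≤ Subgroup.comap e.symm.toMonoidHom (cl (fun i => e.symm (W.gen i)) C)) (mem_top (e g))
    simpa using this

theorem psp32 : IsSimpleGroup (PSp 3 (ZMod 2)) := CfsgH5.isSimple_PSp 3 (by norm_num) (Or.inl le_rfl)

theorem sp32 : Nonempty (PSp 3 (ZMod 2) ≃* Matrix.symplecticGroup (Fin 3) (ZMod 2)) := by
  have c : center (Matrix.symplecticGroup (Fin 3) (ZMod 2)) = ⊥ := eq_bot_iff.mpr fun z hz => by
    obtain ⟨c, e⟩ := (CfsgH5.mem_center_sp (by norm_num)).mp hz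
    have d : c ≠ 0 := fun h => by
      have := SymplecticGroup.symplectic_det z.2
      rw [e, h, zero_smul, Matrix.det_zero] at this
      exact not_isUnit_zero this
    have := ZMod.pow_card_sub_one_eq_one d
    exact Subtype.ext (by rw [e, show c = 1 by simpa using this, one_smul]; rfl)
  exact ⟨(QuotientGroup.quotientMulEquivOfEq c).trans QuotientGroup.quotientBot⟩

end CfsgH7
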