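import Cfsg.Agent.H7.Ce2

set_option autoImplicit false

/-! One class of involutions; permutation tables; double covers of alternating groups. -/

namespace CfsgH7

open Cfsg MulAction Subgroup

variable {G : Type*} [Group G] {T : Tb} {Ω : Type*} [MulAction G Ω]

def Tb.clsChk (T : Tb) (z : ℕ) (ss : List ℕ) (Us : List (ℕ × List ℕ × ℕ × ℕ)) : Bool :=
  lany (fun e => e.1 =ₙ 0) Us &&ₙ all (fun i => T.eq2 (ss.getD i 0) (ss.getD i 0) 0 0) ss.length &&ₙ
  lall (fun e => all (fun i => T.eq2 (ss.getD i 0) e.1 (e.2.1.getD i 0) 0 &&ₙ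
      lany (fun e' => e'.1 =ₙ e.2.1.getD i 0) Us) ss.length &&ₙ
    ((e.1 =ₙ 0) ||ₙ (okW T.n e.1 &&ₙ (Nat.succ e.2.2.2 ≤ₙ T.N) &&ₙ
      bnot (trW T.U e.1 (trW T.U e.1 e.2.2.2) =ₙ e.2.2.2)) ||ₙ T.eq2 e.2.2.1 z e.1 e.2.2.1)) Us

theorem WT.one_cls [Finite G] (W : WT T G Ω) {z k : ℕ} {ss : List ℕ}
    {Us : List (ℕ × List ℕ × ℕ × ℕ)} (h : T.clsChk z ss Us = true) (hk : Us.length = 2 ^ k)
    (hf : (Nat.card G).factorization 2 = k) (hc : 2 ^ k ≤ Nat.card (cl (W.gs ss) ss.length))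
    (x y : G) (hx : orderOf x = 2) (hy : orderOf y = 2) : IsConj x y := by
  classical
  simp only [Tb.clsChk, band_eq, bor_eq, Bool.and_eq_true, Bool.or_eq_true, lall_iff, lany_iff,
    all_iff, n_beq, n_ble, bnot_eq, Bool.not_eq_true', n_beq_false] at h
  obtain ⟨⟨e0, a0, b0⟩, h1, h⟩ := h
  have m : ∀ g ∈ cl (W.gs ss) ss.length, ∃ e ∈ Us, g = W.ev e.1 := fun g hg => by
    have st : ∀ i < ss.length, ∀ y : G, (∃ e ∈ Us, y = W.ev e.1) →
        ∃ e ∈ Us, W.gs ss i * y = W.ev e.1 := by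
      rintro i hi _ ⟨e, he, rfl⟩
      obtain ⟨c, e', he', d⟩ := (h e he).1 i hi
      exact ⟨e', he', by rw [d]; exact (W.eq2 c).trans (mul_one _)⟩
    induction hg using closure_induction_left with
    | one => exact ⟨e0, a0, by rw [b0]; rfl⟩
    | mul_left x hx y _ ih => obtain ⟨i, hi, rfl⟩ := hx; exact st i hi y ih
    | inv_mul_cancel x hx y _ ih =>
      obtain ⟨i, hi, rfl⟩ := hx
      rw [inv_eq_of_mul_eq_one_left ((W.eq2 (h1 i hi)).trans (mul_one _))]
      exact st i hi y ih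
  have c : Nat.card (cl (W.gs ss) ss.length) = 2 ^ k := by
    refine le_antisymm ?_ hc
    rw [← hk, ← List.length_map (f := fun e : ℕ × List ℕ × ℕ × ℕ => W.ev e.1), ← SetLike.coe_sort_coe, Nat.card_coe_set_eq]
    refine le_trans ?_ (List.toFinset_card_le _)
    rw [← Set.ncard_coe_finset]
    refine Set.ncard_le_ncard (fun g hg => ?_) (Finset.finite_toSet _)
    obtain ⟨e, he, rfl⟩ := m g hg
    exact Finset.mem_coe.mpr (List.mem_toFinset.mpr (List.mem_map_of_mem he))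
  have : Fact (Nat.Prime 2) := ⟨Nat.prime_two⟩
  let S : Sylow 2 G := Sylow.ofCard _ (c.trans (by rw [hf]))
  have key : ∀ x : G, orderOf x = 2 → IsConj x (W.ev z) := fun x hx => by
    obtain ⟨P, hP⟩ := (IsPGroup.of_card (p := 2) (n := 1) (G := zpowers x)
      (by rw [Nat.card_zpowers, hx]; rfl)).exists_le_sylow
    obtain ⟨g, hg⟩ := exists_smul_eq G P S
    have a := smul_mem_pointwise_smul x (MulAut.conj g) (P : Subgroup G) (hP (mem_zpowers x))
    rw [← Sylow.coe_subgroup_smul, hg] at a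
    obtain ⟨e, he, b⟩ := m _ a
    have b : g * x * g⁻¹ = W.ev e.1 := b
    have o : orderOf (W.ev e.1) = 2 := by rw [← b, ← hx]; exact (MulAut.conj g).orderOf_eq x
    refine (isConj_iff.mpr ⟨g, b⟩).trans ?_
    rcases (h e he).2 with d | ⟨d1, d2, d3⟩ | d
    · rw [d, W.ev_zero, orderOf_one] at o; omega
    · have p := W.trW_spec d1 d2
      have q := W.trW_spec d1 p.1
      refine (d3 (W.inj _ q.1 _ d2 ?_)).elim
      rw [← q.2, ← p.2, ← mul_smul, ← pow_two, ← o, pow_orderOf_eq_one, one_smul]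
    · exact (isConj_iff.mpr ⟨_, mul_inv_eq_of_eq_mul (W.eq2 d)⟩).symm
  exact (key x hx).trans (key y hy).symm

theorem exists_wt_perm {N : ℕ} [NeZero N] (f : ℕ → ℕ → ℕ) (h : ∀ x < 16, PT.isP f N x = true) :
    Nonempty (WT ⟨N, 16, f, 0, 0, List.range N⟩ (Equiv.Perm (Fin N)) (Fin N)) := by
  obtain ⟨Y, hY⟩ := PT.exists_rp h
  have e : ∀ p (a : p < N), Fin.ofNat N p = ⟨p, a⟩ := fun p a => Fin.ext (Nat.mod_eq_of_lt a)
  refine ⟨⟨⟨Y, Fin.ofNat N, fun p hp q hq a => ?_, fun x hx p hp => ?_, fun x hx => by simp at hx⟩,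
    fun b hb => List.mem_range.mp hb, fun g hg => Equiv.ext fun p => ?_⟩⟩
  · rw [e p hp, e q hq] at a
    exact congrArg Fin.val a
  · have a := hY x hx ⟨p, hp⟩
    have b : f x p < N := a ▸ (Y x ⟨p, hp⟩).2
    exact ⟨b, by rw [e p hp, e _ b]; exact Fin.ext a⟩
  · have := hg p (List.mem_range.mpr p.2)
    simp only [e p p.2] at this
    exact this

theorem dbl8 {C : Type} [Group C] [Finite C] (φ : C →* Equiv.Perm (Fin 8))
    (h : 20160 ≤ Nat.card φ.range) (hC : Nat.card C = 40320) {z : C} (hz : z ∈ center C)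
    (h1 : z ≠ 1) (hp : _root_.commutator C = ⊤) :
    IsNonsplitDoubleCover C (alternatingGroup (Fin 8)) := by
  have a : φ.range ≤ alternatingGroup (Fin 8) := by
    rw [MonoidHom.range_eq_map, ← hp, _root_.commutator, map_commutator]
    exact (commutator_mono le_top le_top).trans alternatingGroup.commutator_perm_le
  have c : Nat.card (alternatingGroup (Fin 8)) = 20160 := by
    rw [nat_card_alternatingGroup, Nat.card_fin]; rfl
  have e := eq_of_le_of_card_ge a (c.le.trans h)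
  refine dbl (φ.codRestrict _ fun x => a ⟨x, rfl⟩) (MonoidHom.range_eq_top.mpr fun y => ?_)
    (by norm_num) hC c (alternatingGroup.center_eq_bot (by simp)) hz h1 hp
  obtain ⟨x, hx⟩ : y.1 ∈ φ.range := e.ge y.2
  exact ⟨x, Subtype.ext hx⟩

end CfsgH7
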