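import Cfsg.Agent.H7.Ce3

set_option autoImplicit false

/-! The centraliser of shape `2^{1+4}_- : A₅`. -/

namespace CfsgH7

open Cfsg MulAction Subgroup
open scoped commutatorElement

universe u

variable {G : Type u} [Group G] {T : Tb} {Ω : Type*} [MulAction G Ω]

theorem WT.Cv.one_cls [Finite G] {W : WT T G Ω} {z k : ℕ} {Us : List ℕ} (h : W.Cv z z Us)
    (hk : 2 ^ k ∣ Nat.card (centralizer {W.ev z})) (hf : (Nat.card G).factorization 2 = k)
    (cs : List (ℕ × ℕ)) (hc : lall (fun u => (u =ₙ 0) ||ₙ (okW T.n u &&ₙ lany (fun q =>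
      (Nat.succ q ≤ₙ T.N) &&ₙ bnot (trW T.U u (trW T.U u q) =ₙ q)) T.B) ||ₙ
      lany (fun c => (c.1 =ₙ u) &&ₙ T.eq2 c.2 z u c.2) cs) Us = true)
    (x y : G) (hx : orderOf x = 2) (hy : orderOf y = 2) : IsConj x y := by
  simp only [band_eq, bor_eq, Bool.and_eq_true, Bool.or_eq_true, lall_iff, lany_iff,
    n_beq, n_ble, bnot_eq, Bool.not_eq_true', n_beq_false] at hc
  have : Fact (Nat.Prime 2) := ⟨Nat.prime_two⟩
  obtain ⟨K, hK⟩ := Sylow.exists_subgroup_card_pow_prime 2 hk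
  let S : Sylow 2 G := Sylow.ofCard (K.map (Subgroup.subtype _))
    (by rw [card_map_of_injective (subtype_injective _), hK, hf])
  have key : ∀ x : G, orderOf x = 2 → IsConj x (W.ev z) := fun x hx => by
    obtain ⟨P, hP⟩ := (IsPGroup.of_card (p := 2) (n := 1) (G := zpowers x)
      (by rw [Nat.card_zpowers, hx]; rfl)).exists_le_sylow
    obtain ⟨g, hg⟩ := exists_smul_eq G P S
    have a := smul_mem_pointwise_smul x (MulAut.conj g) (P : Subgroup G) (hP (mem_zpowers x))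
    rw [← Sylow.coe_subgroup_smul, hg] at a
    obtain ⟨w, -, a⟩ := a
    obtain ⟨e, he, b⟩ := h w (w.2 _ rfl).symm
    have b : g * x * g⁻¹ = W.ev e := a.symm.trans b
    have o : orderOf (W.ev e) = 2 := by rw [← b, ← hx]; exact (MulAut.conj g).orderOf_eq x
    refine (isConj_iff.mpr ⟨g, b⟩).trans ?_
    rcases hc e he with d | ⟨d1, q, -, d2, d3⟩ | ⟨c, -, -, d⟩
    · rw [d, W.ev_zero, orderOf_one] at o; omega
    · have p := W.trW_spec d1 d2
      have r := W.trW_spec d1 p.1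
      refine (d3 (W.inj _ r.1 _ d2 ?_)).elim
      rw [← r.2, ← p.2, ← mul_smul, ← pow_two, ← o, pow_orderOf_eq_one, one_smul]
    · exact (isConj_iff.mpr ⟨_, mul_inv_eq_of_eq_mul (W.eq2 d)⟩).symm
  exact (key x hx).trans (key y hy).symm

theorem card_le_fin {K : Subgroup G} (s : Finset G) (h : ∀ g ∈ K, g ∈ s) : Nat.card K ≤ s.card := by
  rw [← SetLike.coe_sort_coe, Nat.card_coe_set_eq, ← Set.ncard_coe_finset]
  exact Set.ncard_le_ncard h (Finset.finite_toSet _)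

theorem minus4 [Finite G] (hc : Nat.card G = 2 ^ 5) {z : G} (hz : orderOf z = 2)
    (h0 : z ∈ center G) (h1 : ∀ g : G, g * g = 1 ∨ g * g = z) (h2 : ∀ g ∈ center G, g = 1 ∨ g = z)
    (h3 : ∀ a b : G, a * a = 1 → b * b = 1 → a * b = b * a →
      a = 1 ∨ a = z ∨ b = 1 ∨ b = z ∨ a = b ∨ z * a = b) (h4 : z ∈ _root_.commutator G) :
    IsExtraspecial 2 G ∧ ∀ E : Subgroup G, IsElementaryAbelian 2 E → Nat.card E ≤ 2 ^ 2 := by
  classical
  refine ⟨es2' (IsPGroup.of_card hc) hz h0 ((card_le_fin {1, z} fun g hg => by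
    simpa using h2 g hg).trans Finset.card_le_two) (fun x => ?_) h4, fun E hE => ?_⟩
  · rw [pow_two]
    rcases h1 x with e | e <;> rw [e]
    exacts [one_mem _, mem_zpowers _]
  · by_cases c : ∃ a ∈ E, a ≠ 1 ∧ a ≠ z
    · obtain ⟨a, ha, c1, c2⟩ := c
      refine (card_le_fin {1, z, a, z * a} fun b hb => ?_).trans Finset.card_le_four
      have := h3 a b (pow_two a ▸ hE.2 a ha) (pow_two b ▸ hE.2 b hb)
        (congrArg Subtype.val (hE.1.is_comm.comm ⟨a, ha⟩ ⟨b, hb⟩))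
      simp only [Finset.mem_insert, Finset.mem_singleton]
      rcases this with e | e | e | e | e | e <;> simp_all
    · push Not at c
      refine (card_le_fin {1, z} fun b hb => ?_).trans (Finset.card_le_two.trans (by norm_num))
      have := c b hb
      simp only [Finset.mem_insert, Finset.mem_singleton]
      tauto

def Tb.mChk (T : Tb) (z h : ℕ) (qs cs zs : List ℕ) (Us : List (ℕ × List ℕ × ℕ)) : Bool :=
  lany (fun e => e.1 =ₙ 0) Us &&ₙ T.eq2 (qs.getD 0 0) (qs.getD 1 0) (zs.getD 1 0) (qs.getD 0 0) &&ₙ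
  all (fun i => T.eq2 (qs.getD i 0) (qs.getD i 0) 0 0 &&ₙ T.eq2 z (qs.getD i 0) (zs.getD i 0) 0 &&ₙ
    T.eq2 z (cs.getD i 0) (cs.getD i 0) z &&ₙ T.eq2 (cs.getD i 0) h (qs.getD i 0) (cs.getD i 0)) 4 &&ₙ
  lall (fun e => all (fun i => T.eq2 (qs.getD i 0) e.1 (e.2.1.getD i 0) 0 &&ₙ
      lany (fun e' => e'.1 =ₙ e.2.1.getD i 0) Us) 4 &&ₙ T.eq2 z e.1 e.2.2 0 &&ₙ
    (T.eq2 e.1 e.1 0 0 ||ₙ T.eq2 e.1 e.1 z 0) &&ₙ
    ((e.1 =ₙ 0) ||ₙ (e.1 =ₙ z) ||ₙ any (fun i => T.eq2 e.1 (qs.getD i 0) (zs.getD i 0) e.1) 4) &&ₙ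
    ((e.1 =ₙ 0) ||ₙ (e.1 =ₙ z) ||ₙ T.eq2 e.1 e.1 z 0 ||ₙ lall (fun v => (v.1 =ₙ 0) ||ₙ (v.1 =ₙ z) ||ₙ
      (e.1 =ₙ v.1) ||ₙ (e.2.2 =ₙ v.1) ||ₙ T.eq2 v.1 v.1 z 0 ||ₙ T.eq2 e.1 v.1 v.2.2 e.1) Us)) Us

theorem WT.minus [Finite G] (W : WT T G Ω) {z h : ℕ} {qs cs zs : List ℕ}
    {Us : List (ℕ × List ℕ × ℕ)} (o : orderOf (W.ev z) = 2) (hc : T.mChk z h qs cs zs Us = true)
    (hq : 32 ≤ Nat.card (cl (W.gs qs) 4)) {K : Type*} [Group K]
    (φ : centralizer {W.ev z} →* K) (ck : Nat.card φ.ker = 2 ^ 5)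
    (hh : W.ev h ∈ centralizer {W.ev z}) (h1 : φ ⟨_, hh⟩ = 1) :
    IsExtraspecial 2 φ.ker ∧ ∀ E : Subgroup φ.ker, IsElementaryAbelian 2 E → Nat.card E ≤ 2 ^ 2 := by
  simp only [Tb.mChk, all_iff, any_iff, lall_iff, lany_iff, band_eq, bor_eq, Bool.and_eq_true,
    Bool.or_eq_true, n_beq] at hc
  obtain ⟨⟨e0, a0, b0⟩, k0, k1, k2⟩ := hc
  have z1 : W.ev z ≠ 1 := fun e => by simp [e] at o
  have q0 : ∀ {a b c : ℕ}, T.eq2 a b c 0 = true → W.ev a * W.ev b = W.ev c := fun h =>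
    (W.eq2 h).trans (mul_one _)
  have mq : ∀ j < 4, ∃ a : W.ev (qs.getD j 0) ∈ centralizer {W.ev z}, φ ⟨_, a⟩ = 1 := fun j hj => by
    have c : W.ev (cs.getD j 0) ∈ centralizer {W.ev z} := by
      rintro _ rfl; exact W.eq2 (k1 j hj).2.2.1
    have d := eq_mul_inv_of_mul_eq (W.eq2 (k1 j hj).2.2.2).symm
    have f : W.ev (qs.getD j 0) ∈ centralizer {W.ev z} := by
      rw [d]; exact mul_mem (mul_mem c hh) (inv_mem c)
    exact ⟨f, by rw [show (⟨_, f⟩ : centralizer {W.ev z}) = ⟨_, c⟩ * ⟨_, hh⟩ * (⟨_, c⟩)⁻¹ from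
      Subtype.ext d, map_mul, map_mul, h1, mul_one, map_inv, mul_inv_cancel]⟩
  choose ma mb using mq
  let y : ℕ → φ.ker := fun j => if a : j < 4 then ⟨⟨_, ma j a⟩, mb j a⟩ else 1
  let ι : φ.ker →* G := (centralizer {W.ev z}).subtype.comp φ.ker.subtype
  have hι : Function.Injective ι := Subtype.val_injective.comp Subtype.val_injective
  have hy : ∀ j < 4, ι (y j) = W.ev (qs.getD j 0) := fun j a => by simp only [y, dif_pos a]; rfl
  have ht : cl y 4 = ⊤ := eq_top_of_le_card _ (by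
    rw [ck, ← card_map_of_injective (K := cl y 4) hι]
    exact hq.trans (card_le_of_le (cl_le fun j a => ⟨y j, mem_cl y a, hy j a⟩)))
  have m : ∀ g, ∃ e ∈ Us, ι g = W.ev e.1 := fun g => by
    have hg : g ∈ cl y 4 := ht ▸ mem_top g
    have st : ∀ i < 4, ∀ x, (∃ e ∈ Us, ι x = W.ev e.1) → ∃ e ∈ Us, ι (y i * x) = W.ev e.1 := by
      rintro i hi x ⟨e, he, a⟩
      obtain ⟨c, e', he', d⟩ := (k2 e he).1 i hi
      exact ⟨e', he', by rw [d, map_mul, a, hy i hi]; exact q0 c⟩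
    induction hg using closure_induction_left with
    | one => exact ⟨e0, a0, by rw [b0]; rfl⟩
    | mul_left x hx y _ ih => obtain ⟨i, hi, rfl⟩ := hx; exact st i hi y ih
    | inv_mul_cancel x hx y' _ ih =>
      obtain ⟨i, hi, rfl⟩ := hx
      rw [inv_eq_of_mul_eq_one_left (a := y i) (b := y i) (hι (by
        rw [map_mul, hy i hi, map_one]; exact q0 (k1 i hi).1))]
      exact st i hi y' ih
  let z' : φ.ker := ⁅y 0, y 1⁆
  have hz : ι z' = W.ev z := by
    simp only [z']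
    rw [commutatorElement_def, map_mul, map_mul, map_mul, map_inv, map_inv, hy 0 (by norm_num),
      hy 1 (by norm_num), W.eq2 k0, ← q0 (k1 1 (by norm_num)).2.1]
    group
  have nc : ∀ {a b : G}, a * b = b * a → a * b = W.ev z * b * a → False := fun h h' =>
    z1 (by rw [h, mul_assoc] at h'; exact right_eq_mul.mp h')
  refine minus4 ck (z := z') ((orderOf_injective ι hι z').symm.trans ((congrArg orderOf hz).trans o))
    (mem_center_iff.mpr fun g => hι ?_) (fun g => ?_) (fun g hg => ?_) (fun a b ha hb hab => ?_)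
    (commutator_mem_commutator trivial trivial)
  · rw [map_mul, map_mul, hz]; exact (g.1.2 _ rfl).symm
  · obtain ⟨e, he, a⟩ := m g
    refine (k2 e he).2.2.1.imp (fun c => hι ?_) fun c => hι ?_
    · rw [map_mul, a, q0 c, map_one]; rfl
    · rw [map_mul, a, q0 c, hz]
  · obtain ⟨e, he, a⟩ := m g
    rcases (k2 e he).2.2.2.1 with c | c | ⟨i, hi, c⟩
    · exact Or.inl (hι (by rw [a, c, map_one]; rfl))
    · exact Or.inr (hι (by rw [a, c, hz]))
    · have d := congrArg ι (mem_center_iff.mp hg (y i))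
      rw [map_mul, map_mul, a, hy i hi] at d
      exact (nc d.symm (by rw [W.eq2 c, q0 (k1 i hi).2.1])).elim
  · obtain ⟨e, he, a1⟩ := m a
    obtain ⟨v, hv, a2⟩ := m b
    have ha := congrArg ι ha
    have hb := congrArg ι hb
    have hab := congrArg ι hab
    simp only [map_mul, map_one, a1, a2] at ha hb hab
    rcases (k2 e he).2.2.2.2 with c | c | c | c
    · exact Or.inl (hι (by rw [a1, c, map_one]; rfl))
    · exact Or.inr (Or.inl (hι (by rw [a1, c, hz])))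
    · exact (z1 ((q0 c).symm.trans ha)).elim
    · refine Or.inr (Or.inr ?_)
      rcases c v hv with c | c | c | c | c | c
      · exact Or.inl (hι (by rw [a2, c, map_one]; rfl))
      · exact Or.inr (Or.inl (hι (by rw [a2, c, hz])))
      · exact Or.inr (Or.inr (Or.inl (hι (by rw [a1, a2, c]))))
      · exact Or.inr (Or.inr (Or.inr (hι (by rw [map_mul, hz, a1, a2, q0 (k2 e he).2.1, c]))))
      · exact (z1 ((q0 c).symm.trans hb)).elim
      · exact (nc hab (by rw [W.eq2 c, q0 (k2 v hv).2.1])).elim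

/-- a split quotient `A₅` -/
theorem split5 [Finite G] {x : ℕ → G} {y : ℕ → Equiv.Perm (Fin 5)} {R R' : List ℕ}
    (hP : Pres.{u} R 6 1920) (hP' : Pres.{u} R' 4 60) (hx : ∀ r ∈ R, ev8 x r = 1)
    (hx' : ∀ r ∈ R', ev8 x r = 1) (hy : ∀ r ∈ R, ev8 y r = 1) {C : Subgroup G} (e : cl x 6 = C)
    (hC : 1920 ≤ Nat.card C) (cy : 60 ≤ Nat.card (cl y 4)) (hp : _root_.commutator (cl x 6) = ⊤) :
    ∃ φ : C →* alternatingGroup (Fin 5), Nat.card φ.ker = 2 ^ 5 ∧ (∃ H, φ.ker.IsComplement' H) ∧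
      Nonempty (C ⧸ φ.ker ≃* alternatingGroup (Fin 5)) ∧ ∃ h : x 4 ∈ C, (φ ⟨_, h⟩ : Equiv.Perm _) = y 4 := by
  subst e
  obtain ⟨φ, hφ⟩ := exists_phi (x := x) (y := y) (K := cl x 6) (fun i hi => mem_cl x hi) le_rfl
    ((hP _ _ fun r hr => by rw [ev8_prod, hx r hr, hy r hr]; rfl).trans hC)
  have a : φ.range ≤ alternatingGroup (Fin 5) := by
    rw [MonoidHom.range_eq_map, ← hp, _root_.commutator, map_commutator]
    exact (commutator_mono le_top le_top).trans alternatingGroup.commutator_perm_le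
  have c : Nat.card (alternatingGroup (Fin 5)) = 60 := by
    rw [nat_card_alternatingGroup, Nat.card_fin]; rfl
  let H := (cl x 4).subgroupOf (cl x 6)
  have b : cl y 4 ≤ H.map φ := cl_le fun i hi =>
    ⟨⟨x i, mem_cl x (by omega)⟩, mem_cl x hi, hφ i (by omega)⟩
  have e := eq_of_le_of_card_ge a (c.le.trans (cy.trans (card_le_of_le (b.trans (map_le_range _ _)))))
  let ψ := φ.codRestrict _ fun x => a ⟨x, rfl⟩
  have s : Function.Surjective ψ := fun y => by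
    obtain ⟨x, hx⟩ : y.1 ∈ φ.range := e.ge y.2
    exact ⟨x, Subtype.ext hx⟩
  have k : ψ.ker = φ.ker := MonoidHom.ker_codRestrict _ _ _
  have c1 : Nat.card (cl x 6) = 1920 := le_antisymm (hP _ _ hx) hC
  have ck : Nat.card ψ.ker = 2 ^ 5 := by
    have a := ψ.ker.index_mul_card
    rw [index_ker, MonoidHom.range_eq_top.mpr s, card_top, c, c1] at a
    omega
  have h1 : Nat.card H ≤ 60 := (card_sub (by norm_num)).le.trans (hP' _ _ hx')
  have h2 := (φ.comp H.subtype).ker.index_mul_card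
  rw [index_ker, ← MonoidHom.map_range, range_subtype] at h2
  have h3 := cy.trans (card_le_of_le b)
  have h4 : 0 < Nat.card (φ.comp H.subtype).ker := Nat.card_pos
  have h5 : Nat.card (φ.comp H.subtype).ker = 1 := by nlinarith
  refine ⟨ψ, ck, ⟨H, isComplement'_of_card_mul_and_disjoint (by rw [ck, c1]; rw [h5] at h2; omega) ?_⟩,
    ⟨QuotientGroup.quotientKerEquivOfSurjective ψ s⟩, mem_cl x (by norm_num), hφ 4 (by norm_num)⟩
  rw [k, disjoint_iff_inf_le]
  intro g hg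
  have h6 : (⟨g, hg.2⟩ : H) ∈ (φ.comp H.subtype).ker := hg.1
  rw [card_eq_one.mp h5, mem_bot] at h6
  exact mem_bot.mpr (congrArg (fun a : H => a.1) h6)

end CfsgH7
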