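import Cfsg.Agent.H7.Ce

set_option autoImplicit false

/-! Subgroups that centralise or invert an element. -/

namespace CfsgH7

open Cfsg MulAction Subgroup

variable {G : Type*} [Group G] {T : Tb} {Ω : Type*} [MulAction G Ω]

theorem WT.inv_le [Finite G] (W : WT T G Ω) {u m C : ℕ} {ts : List ℕ} (v : ℕ)
    (h1 : Nat.card (centralizer {W.ev u}) ≤ m) (h : (T.eq2 u v 0 0 &&ₙ all (fun i =>
      T.eq2 (ts.getD i 0) u u (ts.getD i 0) ||ₙ T.eq2 (ts.getD i 0) u v (ts.getD i 0)) C) = true) :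
    Nat.card (cl (W.gs ts) C) ≤ 2 * m := by
  simp only [band_eq, bor_eq, Bool.and_eq_true, Bool.or_eq_true, all_iff] at h
  have e : W.ev v = (W.ev u)⁻¹ := eq_inv_of_mul_eq_one_right ((W.eq2 h.1).trans (mul_one _))
  generalize hx : W.ev u = x at h1 e
  let S : Subgroup G := ⟨⟨⟨{g | g * x * g⁻¹ = x ∨ g * x * g⁻¹ = x⁻¹}, fun {a b} ha hb => by
    have k : a * b * x * (a * b)⁻¹ = a * (b * x * b⁻¹) * a⁻¹ := by group
    have l : a * x⁻¹ * a⁻¹ = (a * x * a⁻¹)⁻¹ := by group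
    show _ ∨ _
    rcases hb with hb | hb <;> rw [k, hb]
    · exact ha
    · rw [l]; exact ha.symm.imp (fun h => by rw [h, inv_inv]) fun h => by rw [h]⟩,
    Or.inl (by group)⟩, fun {a} ha => by
    show _ ∨ _
    refine ha.imp (fun h => ?_) fun h => ?_
    · conv_lhs => rw [← h]
      group
    · refine inv_eq_iff_eq_inv.mp ?_
      calc (a⁻¹ * x * a⁻¹⁻¹)⁻¹ = a⁻¹ * x⁻¹ * a := by group
        _ = a⁻¹ * (a * x * a⁻¹) * a := by rw [h]
        _ = x := by group⟩
  have hS : cl (W.gs ts) C ≤ S := cl_le fun i hi => (h.2 i hi).imp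
    (fun c => by have := W.eq2 c; rw [hx] at this; exact mul_inv_eq_of_eq_mul this)
    fun c => by have := W.eq2 c; rw [hx, e] at this; exact mul_inv_eq_of_eq_mul this
  rw [← card_orbit_mul _ (Cj.of x)]
  refine Nat.mul_le_mul ?_ ((card_le_of_le fun g hg => ?_).trans h1)
  · refine (Set.ncard_le_ncard (t := {Cj.of x, Cj.of x⁻¹}) ?_).trans
      ((Set.ncard_insert_le _ _).trans (by rw [Set.ncard_singleton]))
    rintro _ ⟨⟨g, hg⟩, rfl⟩
    exact hS hg
  · have a : g * x * g⁻¹ = x := hg.2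
    exact mem_centralizer_singleton_iff.mpr (eq_mul_of_mul_inv_eq a)

end CfsgH7
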