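import Cfsg.Agent.H7.Orb
import Cfsg.Agent.H7.Srch
import Cfsg.Prelude.Def_Sporadic_a

set_option autoImplicit false
set_option maxRecDepth 100000

/-! The Golay code in bit masks. -/

namespace CfsgH7

open Cfsg
open scoped Pointwise symmDiff

noncomputable section

/-- number of a point -/
def enc : GolayPt → ℕ
  | none => 23
  | some x => x.val

/-- point of a number -/
def dec (i : ℕ) : GolayPt := if i = 23 then none else some (i : ZMod 23)

theorem enc_lt (x : GolayPt) : enc x < 24 := by revert x; decide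
@[simp] theorem dec_enc (x : GolayPt) : dec (enc x) = x := by revert x; decide
theorem enc_dec {i : ℕ} (hi : i < 24) : enc (dec i) = i := by
  have : ∀ i : Fin 24, enc (dec i) = i := by decide
  exact this ⟨i, hi⟩
theorem enc_inj {x y : GolayPt} (h : enc x = enc y) : x = y := by
  rw [← dec_enc x, h, dec_enc]
theorem dec_inj {i j : ℕ} (hi : i < 24) (hj : j < 24) (h : dec i = dec j) : i = j := by
  rw [← enc_dec hi, h, enc_dec hj]
theorem exists_dec (x : GolayPt) : ∃ i < 24, dec i = x := ⟨enc x, enc_lt x, dec_enc x⟩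
theorem forall_pt {P : GolayPt → Prop} : (∀ x, P x) ↔ ∀ i < 24, P (dec i) :=
  ⟨fun h _ _ => h _, fun h x => dec_enc x ▸ h _ (enc_lt x)⟩
theorem card_pt : Fintype.card GolayPt = 24 := by decide

/-- point set of a mask -/
def toFs (m : ℕ) : Finset GolayPt := Finset.univ.filter fun x => m.testBit (enc x) = true

/-- binary word of a mask -/
def toVec (m : ℕ) : GolayPt → ZMod 2 := fun x => if m.testBit (enc x) = true then 1 else 0

@[simp] theorem mem_toFs {m : ℕ} {x : GolayPt} : x ∈ toFs m ↔ m.testBit (enc x) = true := by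
  simp [toFs]

theorem dec_mem_toFs {m i : ℕ} (hi : i < 24) : dec i ∈ toFs m ↔ m.testBit i = true := by
  rw [mem_toFs, enc_dec hi]

theorem support_toVec (m : ℕ) : support₂ (toVec m) = toFs m := by
  ext x
  simp [support₂, toVec]

theorem toFs_inj {a b : ℕ} (ha : a < 2 ^ 24) (hb : b < 2 ^ 24) (h : toFs a = toFs b) : a = b := by
  apply Nat.eq_of_testBit_eq
  intro i
  by_cases hi : i < 24
  · rw [Bool.eq_iff_iff, ← dec_mem_toFs hi, ← dec_mem_toFs hi, h]
  · rw [testBit_false_of_lt ha (not_lt.mp hi), testBit_false_of_lt hb (not_lt.mp hi)]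

theorem toFs_eq_iff {a b : ℕ} (ha : a < 2 ^ 24) (hb : b < 2 ^ 24) : toFs a = toFs b ↔ a = b :=
  ⟨toFs_inj ha hb, fun h => by rw [h]⟩

theorem exists_mask (s : Finset GolayPt) : ∃ m < 2 ^ 24, toFs m = s := by
  classical
  refine ⟨orN (fun i => if dec i ∈ s then 2 ^ i else 0) 24, ?_, ?_⟩
  · apply lt_two_pow_of_testBit
    intro j hj
    rw [← Bool.not_eq_true, testBit_orN]
    rintro ⟨i, hi, h⟩
    split_ifs at h
    · rw [Nat.testBit_two_pow, decide_eq_true_iff] at h; omega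
    · simp at h
  · ext x
    rw [mem_toFs, testBit_orN]
    constructor
    · rintro ⟨i, hi, h⟩
      split_ifs at h with h'
      · rw [Nat.testBit_two_pow, decide_eq_true_iff] at h
        rwa [h, dec_enc] at h'
      · simp at h
    · intro h
      exact ⟨enc x, enc_lt x, by simp [h]⟩

theorem card_toFs' (m : ℕ) : (toFs m).card = (bits 24 m).card := by
  refine Finset.card_bij (fun x _ => enc x) ?_ ?_ ?_
  · intro x hx; exact mem_bits.mpr ⟨enc_lt x, mem_toFs.mp hx⟩
  · intro x _ y _ h; exact enc_inj h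
  · intro i hi
    rw [mem_bits] at hi
    exact ⟨dec i, (dec_mem_toFs hi.1).mpr hi.2, enc_dec hi.1⟩

theorem card_toFs {m : ℕ} (hm : m < 2 ^ 24) : (toFs m).card = pc24 m := by
  rw [card_toFs', pc24_eq hm]

theorem toFs_and (a b : ℕ) : toFs (a &&& b) = toFs a ∩ toFs b := by ext x; simp
theorem toFs_or (a b : ℕ) : toFs (a ||| b) = toFs a ∪ toFs b := by ext x; simp
theorem toFs_xor (a b : ℕ) : toFs (a ^^^ b) = toFs a ∆ toFs b := by
  ext x
  simp only [mem_toFs, Nat.testBit_xor, Finset.mem_symmDiff]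
  cases a.testBit (enc x) <;> cases b.testBit (enc x) <;> simp
@[simp] theorem toFs_zero : toFs 0 = ∅ := by ext x; simp
theorem toFs_full : toFs 16777215 = Finset.univ := by
  ext x
  have := Nat.testBit_two_pow_sub_one 24 (enc x)
  simp only [enc_lt x, decide_true] at this
  simpa using this
theorem toFs_compl (a : ℕ) : toFs (a ^^^ 16777215) = (toFs a)ᶜ := by
  rw [toFs_xor, toFs_full]
  ext x; simp [Finset.mem_symmDiff]
theorem toFs_two_pow {i : ℕ} (hi : i < 24) : toFs (2 ^ i) = {dec i} := by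
  ext x
  rw [mem_toFs, Nat.testBit_two_pow, decide_eq_true_iff, Finset.mem_singleton]
  constructor
  · rintro rfl; simp
  · rintro rfl; rw [enc_dec hi]
theorem toFs_shl {i : ℕ} (hi : i < 24) : toFs (1 <<< i) = {dec i} := by
  rw [Nat.one_shiftLeft, toFs_two_pow hi]
theorem and_lt {a : ℕ} (ha : a < 2 ^ 24) (b : ℕ) : a &&& b < 2 ^ 24 :=
  lt_of_le_of_lt Nat.and_le_left ha
theorem and_lt' (a : ℕ) {b : ℕ} (hb : b < 2 ^ 24) : a &&& b < 2 ^ 24 :=
  lt_of_le_of_lt Nat.and_le_right hb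
theorem or_lt {a b : ℕ} (ha : a < 2 ^ 24) (hb : b < 2 ^ 24) : a ||| b < 2 ^ 24 :=
  Nat.or_lt_two_pow ha hb
theorem xor_lt {a b : ℕ} (ha : a < 2 ^ 24) (hb : b < 2 ^ 24) : a ^^^ b < 2 ^ 24 :=
  Nat.xor_lt_two_pow ha hb
theorem shl_lt {i : ℕ} (hi : i < 24) : 1 <<< i < 2 ^ 24 := by
  rw [Nat.one_shiftLeft]; exact Nat.pow_lt_pow_right (by norm_num) hi
theorem toFs_subset_iff {a b : ℕ} (ha : a < 2 ^ 24) : toFs a ⊆ toFs b ↔ a &&& b = a := by
  rw [← Finset.inter_eq_left, ← toFs_and, toFs_eq_iff (and_lt ha b) ha]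
theorem toFs_disjoint_iff {a b : ℕ} (ha : a < 2 ^ 24) :
    Disjoint (toFs a) (toFs b) ↔ a &&& b = 0 := by
  rw [Finset.disjoint_iff_inter_eq_empty, ← toFs_and, ← toFs_zero,
    toFs_eq_iff (and_lt ha b) (by norm_num)]
theorem card_inter_toFs {a : ℕ} (ha : a < 2 ^ 24) (b : ℕ) :
    (toFs a ∩ toFs b).card = pc24 (a &&& b) := by
  rw [← toFs_and, card_toFs (and_lt ha b)]

theorem toVec_xor (a b : ℕ) : toVec (a ^^^ b) = toVec a + toVec b := by
  ext x
  simp only [toVec, Nat.testBit_xor, Pi.add_apply]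
  cases a.testBit (enc x) <;> cases b.testBit (enc x) <;> simp
  rfl
@[simp] theorem toVec_zero : toVec 0 = 0 := by ext x; simp [toVec]

theorem support_inj {v w : GolayPt → ZMod 2} (h : support₂ v = support₂ w) : v = w := by
  ext x
  have := congrArg (x ∈ ·) h
  simp only [support₂, Finset.mem_filter, Finset.mem_univ, true_and, eq_iff_iff] at this
  revert this
  generalize v x = a
  generalize w x = b
  revert a b
  decide

theorem exists_toVec (w : GolayPt → ZMod 2) : ∃ m < 2 ^ 24, toVec m = w := by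
  obtain ⟨m, hm, h⟩ := exists_mask (support₂ w)
  exact ⟨m, hm, support_inj (by rw [support_toVec, h])⟩

theorem toVec_inj {a b : ℕ} (ha : a < 2 ^ 24) (hb : b < 2 ^ 24) (h : toVec a = toVec b) : a = b :=
  toFs_inj ha hb (by rw [← support_toVec, h, support_toVec])

theorem hammingNorm_eq (w : GolayPt → ZMod 2) : hammingNorm w = (support₂ w).card := by
  simp [hammingNorm, support₂]

theorem hammingNorm_toVec {m : ℕ} (hm : m < 2 ^ 24) : hammingNorm (toVec m) = pc24 m := by
  rw [hammingNorm_eq, support_toVec, card_toFs hm]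

/-- the rows of a systematic generator matrix -/
def row (j : ℕ) : ℕ := nat_lit 0xe3a800b1d4007b42003da1001ed080ecc040b660209b30106e3008d4b00449f002c75001 >>ₙ (nat_lit 24 *ₙ j) &ₙ nat_lit 16777215
def comb (j : ℕ) : ℕ := nat_lit 0x8006258006630000650005430007d08005cd8007978006ba0005788004990001188006a9 >>ₙ (nat_lit 24 *ₙ j) &ₙ nat_lit 16777215
def qm (j : ℕ) : ℕ := nat_lit 0xffffff4299af614cd770a66b7853357c299a3e14cd5f0a662f853357c2996be14c35f0a61af8534d7c2966be14335f0a19af854cd7c2266be15335f0299af814cd7c0a66be05335f >>ₙ (nat_lit 24 *ₙ j) &ₙ nat_lit 16777215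
def cwT0 : ℕ := nat_lit 0x19703fde203e50803d97d03ccdc03b0a903a843039436038774037b010363eb035f9e034a3f03364a032ea00312d503082402f45102ecbb02d0ce02c56f02b91a02a1f0029d85028ec70272b2026a5802562d02438c023ff9022713021b66020af101f68401ee6e01d21b01c7ba01bbcf01a325019f50018c1201706701688d0154f8014159013d2c0125c60119b301034200ff3700e7dd00dba800ce0900b27c00aa960096e30085a10079d400613e005d4b0048ea00349f002c75001000000
def cwT1 : ℕ := nat_lit 0xe68fc00a4f80f85f40149f00db2ec037ee80c5fe40293e009dcdc0710d80831d406fdd00a06cc04cac80bebc40527c00575bc0bb9b80498b40a54b006afac0863a80742a4098ea002c19c0c0d98032c940de090011b8c0fd78800f6840e3a8000527c0e9e7801bf740f737003886c0d44680265640ca96007e65c092a58060b5408c750043c4c0af04805d1440b1d400b4f3c0583380aa234046e3008952c06592809782407b4200cfb1c0237180d161403da100f210c01ed080ecc040000000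

/-- the code word with low twelve bits those of `k` -/
def cw (k : ℕ) : ℕ :=
  (cwT0 >>ₙ (nat_lit 24 *ₙ (k &ₙ nat_lit 63)) ^ₙ
    cwT1 >>ₙ (nat_lit 24 *ₙ (k >>ₙ nat_lit 6 &ₙ nat_lit 63))) &ₙ nat_lit 16777215

/-- `m` is the mask of a code word -/
def isCode (m : ℕ) : Bool := cw m =ₙ m

theorem cw_lt (k : ℕ) : cw k < 2 ^ 24 := and_lt' _ (by norm_num)

theorem cw_mod (k : ℕ) : cw (k % 4096) = cw k := by
  have h6 : ∀ y : ℕ, y &&& 63 = y % 64 := fun y => Nat.and_two_pow_sub_one_eq_mod y 6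
  simp only [cw, n_and, n_shr, n_mul, n_xor, h6, Nat.shiftRight_eq_div_pow]
  rw [show k % 4096 % 64 = k % 64 by omega, show k % 4096 / 2 ^ 6 % 64 = k / 2 ^ 6 % 64 by omega]

theorem cw_aux : all (fun k => (cw k =ₙ lin row 12 k) &&ₙ (cw k %ₙ 4096 =ₙ k)) 4096 = true := by
  decide +kernel

theorem cw_eq_lin {k : ℕ} (hk : k < 4096) : cw k = lin row 12 k := by
  have := (all_iff _ _).mp cw_aux k hk
  simp only [band_eq, Bool.and_eq_true, n_beq] at this
  exact this.1

theorem cw_low {k : ℕ} (hk : k < 4096) : cw k % 4096 = k := by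
  have := (all_iff _ _).mp cw_aux k hk
  simp only [band_eq, Bool.and_eq_true, n_beq] at this
  exact this.2

theorem cw_inj {a b : ℕ} (ha : a < 4096) (hb : b < 4096) (h : cw a = cw b) : a = b := by
  rw [← cw_low ha, h, cw_low hb]

theorem cw_xor (a b : ℕ) : cw (a ^^^ b) = cw a ^^^ cw b := by
  rw [← cw_mod, ← cw_mod a, ← cw_mod b, show 4096 = 2 ^ 12 from rfl, Nat.xor_mod_two_pow,
    cw_eq_lin (Nat.xor_lt_two_pow (n := 12) (Nat.mod_lt _ (by norm_num))
      (Nat.mod_lt _ (by norm_num))), lin_xor, cw_eq_lin (k := a % 2 ^ 12) (Nat.mod_lt _ (by norm_num)),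
    cw_eq_lin (k := b % 2 ^ 12) (Nat.mod_lt _ (by norm_num))]

theorem isCode_iff {m : ℕ} : isCode m = true ↔ ∃ k < 4096, cw k = m := by
  rw [isCode, n_beq]
  constructor
  · intro h; exact ⟨m % 4096, Nat.mod_lt _ (by norm_num), by rw [cw_mod, h]⟩
  · rintro ⟨k, hk, rfl⟩; rw [← cw_mod (cw k), cw_low hk]

theorem isCode_cw (k : ℕ) : isCode (cw k) = true :=
  isCode_iff.mpr ⟨k % 4096, Nat.mod_lt _ (by norm_num), cw_mod k⟩

theorem isCode_lt {m : ℕ} (h : isCode m = true) : m < 2 ^ 24 := by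
  rw [isCode, n_beq] at h
  rw [← h]; exact cw_lt _

theorem isCode_xor {a b : ℕ} (ha : isCode a = true) (hb : isCode b = true) :
    isCode (a ^^^ b) = true := by
  rw [isCode, n_beq] at *
  rw [cw_xor, ha, hb]

theorem isCode_zero : isCode 0 = true := by decide +kernel
theorem isCode_full : isCode 16777215 = true := by decide +kernel

theorem qm_aux : all (fun j => isCode (qm j)) 24 = true := by decide +kernel
theorem row_aux : all (fun j => row j =ₙ lin qm 24 (comb j)) 12 = true := by decide +kernel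

theorem qrWord_eq (t : ZMod 23) : qrWord t = toVec (qm t.val) := by
  have : ∀ (t : ZMod 23) (x : GolayPt), qrWord t x = toVec (qm t.val) x := by decide +kernel
  exact funext (this t)

theorem toVec_full : toVec 16777215 = 1 := by
  have : ∀ x : GolayPt, toVec 16777215 x = 1 := by decide +kernel
  exact funext this

theorem toVec_qm_mem {j : ℕ} (hj : j < 24) : toVec (qm j) ∈ golayCode := by
  apply Submodule.subset_span
  by_cases h : j = 23
  · right
    subst h
    exact toVec_full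
  · left
    refine ⟨(j : ZMod 23), ?_⟩
    rw [qrWord_eq, ZMod.val_cast_of_lt (by omega)]

theorem toVec_mem_of_isCode {m : ℕ} (h : isCode m = true) : toVec m ∈ golayCode := by
  obtain ⟨k, hk, rfl⟩ := isCode_iff.mp h
  rw [cw_eq_lin hk]
  have hx : ∀ a b, toVec a ∈ golayCode → toVec b ∈ golayCode → toVec (a ^^^ b) ∈ golayCode :=
    fun a b ha hb => by rw [toVec_xor]; exact golayCode.add_mem ha hb
  refine lin_induction row (fun m => toVec m ∈ golayCode) (by simp) hx 12 (fun j hj => ?_) k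
  have := (all_iff _ _).mp row_aux j hj
  rw [n_beq] at this
  rw [this]
  exact lin_induction qm (fun m => toVec m ∈ golayCode) (by simp) hx 24
    (fun j hj => toVec_qm_mem hj) _

theorem mem_golay_iff {w : GolayPt → ZMod 2} :
    w ∈ golayCode ↔ ∃ m, isCode m = true ∧ toVec m = w := by
  constructor
  · intro hw
    induction hw using Submodule.span_induction with
    | mem x hx =>
      rcases hx with ⟨t, rfl⟩ | rfl
      · exact ⟨_, (all_iff _ _).mp qm_aux _ (lt_trans t.val_lt (by norm_num)), (qrWord_eq t).symm⟩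
      · exact ⟨_, isCode_full, toVec_full⟩
    | zero => exact ⟨0, isCode_zero, toVec_zero⟩
    | add x y _ _ hx hy =>
      obtain ⟨a, ha, rfl⟩ := hx
      obtain ⟨b, hb, rfl⟩ := hy
      exact ⟨_, isCode_xor ha hb, toVec_xor a b⟩
    | smul c x _ hx =>
      have : c = 0 ∨ c = 1 := by revert c; decide
      rcases this with rfl | rfl
      · exact ⟨0, isCode_zero, by simp⟩
      · simpa using hx
  · rintro ⟨m, hm, rfl⟩
    exact toVec_mem_of_isCode hm

theorem toVec_mem_iff {m : ℕ} (hm : m < 2 ^ 24) : toVec m ∈ golayCode ↔ isCode m = true := by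
  rw [mem_golay_iff]
  constructor
  · rintro ⟨a, ha, h⟩
    rwa [← toVec_inj (isCode_lt ha) hm h]
  · intro h; exact ⟨m, h, rfl⟩

/-- supports of code words -/
abbrev Cw : Set (Finset GolayPt) := supports (golayCode : Set (GolayPt → ZMod 2))

theorem mem_Cw_iff {s : Finset GolayPt} : s ∈ Cw ↔ ∃ m, isCode m = true ∧ toFs m = s := by
  constructor
  · rintro ⟨w, hw, rfl⟩
    obtain ⟨m, hm, rfl⟩ := mem_golay_iff.mp hw
    exact ⟨m, hm, (support_toVec m).symm⟩
  · rintro ⟨m, hm, rfl⟩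
    exact ⟨_, toVec_mem_of_isCode hm, support_toVec m⟩

theorem mem_Cw_iff' {s : Finset GolayPt} : s ∈ Cw ↔ ∃ k < 4096, toFs (cw k) = s := by
  rw [mem_Cw_iff]
  constructor
  · rintro ⟨m, hm, rfl⟩
    obtain ⟨k, hk, rfl⟩ := isCode_iff.mp hm
    exact ⟨k, hk, rfl⟩
  · rintro ⟨k, _, rfl⟩
    exact ⟨_, isCode_cw k, rfl⟩

theorem toFs_mem_Cw {m : ℕ} (hm : m < 2 ^ 24) : toFs m ∈ Cw ↔ isCode m = true := by
  rw [mem_Cw_iff]
  constructor
  · rintro ⟨a, ha, h⟩
    rwa [← toFs_inj (isCode_lt ha) hm h]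
  · intro h; exact ⟨m, h, rfl⟩

theorem support_mem_Cw {w : GolayPt → ZMod 2} : support₂ w ∈ Cw ↔ w ∈ golayCode := by
  constructor
  · rintro ⟨v, hv, h⟩
    rwa [← support_inj h]
  · intro h; exact ⟨w, h, rfl⟩

theorem Cw_symmDiff {s t : Finset GolayPt} (hs : s ∈ Cw) (ht : t ∈ Cw) : s ∆ t ∈ Cw := by
  obtain ⟨a, ha, rfl⟩ := mem_Cw_iff.mp hs
  obtain ⟨b, hb, rfl⟩ := mem_Cw_iff.mp ht
  exact mem_Cw_iff.mpr ⟨_, isCode_xor ha hb, toFs_xor a b⟩

theorem Cw_empty : (∅ : Finset GolayPt) ∈ Cw := mem_Cw_iff.mpr ⟨0, isCode_zero, toFs_zero⟩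
theorem Cw_univ : (Finset.univ : Finset GolayPt) ∈ Cw := mem_Cw_iff.mpr ⟨_, isCode_full, toFs_full⟩
theorem Cw_compl {s : Finset GolayPt} (hs : s ∈ Cw) : sᶜ ∈ Cw := by
  obtain ⟨a, ha, rfl⟩ := mem_Cw_iff.mp hs
  exact mem_Cw_iff.mpr ⟨_, isCode_xor ha isCode_full, toFs_compl a⟩

theorem mem_octads {s : Finset GolayPt} : s ∈ octads ↔ s ∈ Cw ∧ s.card = 8 := Iff.rfl
theorem mem_dodecads {s : Finset GolayPt} : s ∈ dodecads ↔ s ∈ Cw ∧ s.card = 12 := Iff.rfl

/-- `m` is the mask of an octad -/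
def isOct (m : ℕ) : Bool := isCode m &&ₙ (pc24 m =ₙ nat_lit 8)
/-- `m` is the mask of a dodecad -/
def isDod (m : ℕ) : Bool := isCode m &&ₙ (pc24 m =ₙ nat_lit 12)

theorem toFs_mem_octads {m : ℕ} (hm : m < 2 ^ 24) : toFs m ∈ octads ↔ isOct m = true := by
  rw [mem_octads, toFs_mem_Cw hm, card_toFs hm]; simp [isOct]
theorem toFs_mem_dodecads {m : ℕ} (hm : m < 2 ^ 24) : toFs m ∈ dodecads ↔ isDod m = true := by
  rw [mem_dodecads, toFs_mem_Cw hm, card_toFs hm]; simp [isDod]

/-- counting code words with a property -/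
theorem ncard_Cw (P : Finset GolayPt → Prop) (f : ℕ → Bool)
    (h : ∀ m, isCode m = true → (P (toFs m) ↔ f m = true)) :
    {s | s ∈ Cw ∧ P s}.ncard = cnt (fun k => force (cw k) f) 4096 := by
  rw [cnt_eq, ← Set.ncard_coe_finset]
  symm
  refine Set.ncard_congr (fun k _ => toFs (cw k)) ?_ ?_ ?_
  · intro k hk
    simp only [Finset.coe_filter, Finset.mem_range, Set.mem_ofPred, force_eq] at hk
    exact ⟨mem_Cw_iff'.mpr ⟨k, hk.1, rfl⟩, (h _ (isCode_cw k)).mpr hk.2⟩
  · intro a b ha hb hab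
    simp only [Finset.coe_filter, Finset.mem_range, Set.mem_ofPred] at ha hb
    exact cw_inj ha.1 hb.1 (toFs_inj (cw_lt _) (cw_lt _) hab)
  · rintro s ⟨hs, hP⟩
    obtain ⟨k, hk, rfl⟩ := mem_Cw_iff'.mp hs
    refine ⟨k, ?_, rfl⟩
    simp only [Finset.coe_filter, Finset.mem_range, Set.mem_ofPred, force_eq]
    exact ⟨hk, (h _ (isCode_cw k)).mp hP⟩

/-- a property of all code words -/
theorem forall_Cw (P : Finset GolayPt → Prop) (f : ℕ → Bool)
    (h : ∀ m, isCode m = true → f m = true → P (toFs m))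
    (hf : all (fun k => force (cw k) f) 4096 = true) : ∀ s ∈ Cw, P s := by
  intro s hs
  obtain ⟨k, hk, rfl⟩ := mem_Cw_iff'.mp hs
  exact h _ (isCode_cw k) (by simpa using (all_iff _ _).mp hf k hk)

theorem forall_isCode (f : ℕ → Bool) (hf : all (fun k => force (cw k) f) 4096 = true) {m : ℕ}
    (hm : isCode m = true) : f m = true := by
  obtain ⟨k, hk, rfl⟩ := isCode_iff.mp hm
  simpa using (all_iff _ _).mp hf k hk

theorem Cw_card {s : Finset GolayPt} (hs : s ∈ Cw) :
    s.card = 0 ∨ s.card = 8 ∨ s.card = 12 ∨ s.card = 16 ∨ s.card = 24 := by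
  refine forall_Cw (fun s => s.card = 0 ∨ s.card = 8 ∨ s.card = 12 ∨ s.card = 16 ∨ s.card = 24)
    (fun m => force (pc24 m) fun c => (c =ₙ 0) ||ₙ (c =ₙ 8) ||ₙ (c =ₙ 12) ||ₙ (c =ₙ 16) ||ₙ (c =ₙ 24))
    (fun m hm h => ?_) (by decide +kernel) s hs
  rw [card_toFs (isCode_lt hm)]
  simpa using h

theorem ncard_Cw_all : Cw.ncard = 4096 := by
  have := ncard_Cw (fun _ => True) (fun _ => true) (by simp)
  simp only [and_true, Set.ofPred_mem_eq] at this
  rw [this]; decide +kernel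

theorem ncard_octads : octads.ncard = 759 := by
  refine (ncard_Cw (fun s => s.card = 8) (fun m => pc24 m =ₙ 8) fun m hm => ?_).trans
    (by decide +kernel)
  rw [card_toFs (isCode_lt hm), n_beq]

theorem ncard_dodecads : dodecads.ncard = 2576 := by
  refine (ncard_Cw (fun s => s.card = 12) (fun m => pc24 m =ₙ 12) fun m hm => ?_).trans
    (by decide +kernel)
  rw [card_toFs (isCode_lt hm), n_beq]

end

end CfsgH7
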