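import Cfsg.Agent.H7.Iso2

set_option autoImplicit false

/-! A variant of the rank 3 criterion for 3-transpositions. -/

namespace CfsgH7

open Subgroup MulAction Cfsg

variable {G Ω : Type*} [Group G] [MulAction G Ω]

theorem t3_rk2 (W : WX G Ω) {HL : List ℕ} {I : List (ℕ × ℕ × ℕ)}
    (rk : W.toWG.Rk HL I) (stab : W.toWG.clL HL = stabilizer G (W.pt 0))
    (co : IsCoatom (stabilizer G (W.pt 0))) {e : Ex} {q : ℕ}
    (top : normalClosure {W.wt.E e} = ⊤)
    (h : (lall (fun x => W.tb.eq (.m (.l x) e) (.m e (.l x))) HL &&ₙ lall (fun x => Nat.succ x ≤ₙ 16) HL &&ₙ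
      W.tb.moves (.k (.l q) e) 0 &&ₙ W.tb.one (.p e 2) &&ₙ
      lall (fun i => W.tb.one (.p (.m e (.c (.w i.2.2) e)) 2) ||ₙ
        W.tb.one (.p (.m e (.c (.w i.2.2) e)) 3)) I) = true) :
    IsThreeTranspositionClass (conjugatesOf (W.wt.E e)) ∧
      Nat.card (conjugatesOf (W.wt.E e)) = W.N ∧
      stabilizer G (W.pt 0) = centralizer {W.wt.E e} := by
  simp only [band_eq, bor_eq, Bool.and_eq_true, Bool.or_eq_true, lall_iff, n_ble] at h
  obtain ⟨h1, h2, h3, h5, h6⟩ := h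
  generalize ht : W.wt.E e = t at top ⊢
  have hle : stabilizer G (W.pt 0) ≤ centralizer {t} := by
    rw [← stab, WG.clL, closure_le]
    rintro _ ⟨x, hx, rfl⟩
    have := W.wt.eq_spec (h1 x hx)
    rw [WT0.E, WT0.E, Ex.ev_m, Ex.ev_m, Ex.ev_l _ (h2 x hx)] at this
    exact mem_centralizer_singleton_iff.mpr (ht ▸ this)
  have hnc : ¬ Commute (W.wt.E (.l q)) t := fun hc => W.wt.ne_one h3 (by
    rw [WT0.E, Ex.ev_k, commutatorElement_eq_one_iff_commute]; rw [← ht] at hc; exact hc)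
  have hst : stabilizer G (W.pt 0) = centralizer {t} := by
    by_contra h
    have := co.2 _ (lt_of_le_of_ne hle h)
    exact hnc (mem_centralizer_singleton_iff.mp (this ▸ mem_top _))
  have hiff : ∀ a b : G, a • W.pt 0 = b • W.pt 0 ↔ a * t * a⁻¹ = b * t * b⁻¹ := fun a b => by
    rw [← inv_smul_eq_iff, ← mul_smul, ← mem_stabilizer_iff, hst, mem_centralizer_singleton_iff]
    constructor
    · intro h; calc _ = b * (b⁻¹ * a * t) * a⁻¹ := by group
        _ = _ := by rw [h]; group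
    · intro h; calc _ = b⁻¹ * (a * t * a⁻¹) * a := by group
        _ = _ := by rw [h]; group
  have ht2 : t * t = 1 := by rw [← ht, ← pow_two]; exact W.wt.one_spec h5
  have ht1 : t ≠ 1 := fun h => hnc (h ▸ Commute.one_right _)
  refine ⟨⟨⟨fun x hx => ?_, fun x hx y hy => ?_⟩, ⟨t, IsConj.refl t, rfl⟩, ?_⟩, ?_, hst⟩
  · obtain ⟨g, rfl⟩ := isConj_iff.mp hx
    rw [← MulAut.conj_apply, MulEquiv.orderOf_eq]
    exact orderOf_eq_prime (by rw [pow_two, ht2]) ht1
  · obtain ⟨a, rfl⟩ := isConj_iff.mp hx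
    obtain ⟨b, rfl⟩ := isConj_iff.mp hy
    have e : a * t * a⁻¹ * (b * t * b⁻¹) = a * (t * (a⁻¹ * b * t * (a⁻¹ * b)⁻¹)) * a⁻¹ := by group
    rw [e, conj_pow, conj_pow, conj_eq_one_iff, conj_eq_one_iff]
    obtain ⟨p, hp, e⟩ := rk.exists_pt (a⁻¹ * b) rk.pos
    rcases rk.exists_sub hp with rfl | ⟨i, hi, -, -, g, hg, e'⟩
    · rw [(hiff _ 1).mp (e.trans (one_smul _ _).symm)]
      left; simp [ht2]
    · have e1 : (a⁻¹ * b) • W.pt 0 = (g * W.wt.ev i.2.2) • W.pt 0 := by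
        rw [mul_smul g]; exact e.trans (e'.symm.trans (congrArg _ (rk.rep hi).symm))
      have e2 : g * t * g⁻¹ = t := by
        simpa using (hiff g 1).mp ((rk.le_stab hg).trans (one_smul _ _).symm)
      have e3 : t * (g * W.wt.ev i.2.2 * t * (g * W.wt.ev i.2.2)⁻¹) =
          g * (t * (W.wt.ev i.2.2 * t * (W.wt.ev i.2.2)⁻¹)) * g⁻¹ := by
        nth_rewrite 1 [← e2]; group
      rw [(hiff _ _).mp e1, e3, conj_pow, conj_pow, conj_eq_one_iff, conj_eq_one_iff, ← ht]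
      refine (h6 i hi).imp (fun h => ?_) fun h => ?_ <;>
      · have := W.wt.one_spec h
        rwa [WT0.E, Ex.ev_p, Ex.ev_m, Ex.ev_c] at this
  · rw [← top, normalClosure, Group.conjugatesOfSet]; simp
  · have a : stabilizer G (Cj.of t) = centralizer {t} := by
      ext g
      rw [mem_stabilizer_iff, Cj.smul_eq, mem_centralizer_singleton_iff]
      exact mul_inv_eq_iff_eq_mul
    rw [← rk.index_stab, hst, ← a, index_stabilizer, Nat.card_coe_set_eq]
    congr 1
    ext x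
    exact isConj_iff

end CfsgH7
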