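import Cfsg.Agent.H7.Kl

set_option autoImplicit false

/-! Bounds for multipliers through subgroups that are not perfect. -/

namespace CfsgH7

open Cfsg Subgroup
open scoped commutatorElement

universe u

variable {G : Type u} [Group G] {K : Subgroup G} {N e n : ℕ}

theorem abel_of {x : ℕ → G} {RK : List ℕ} {c : ℕ} (m : ℕ) (hr : ∀ r ∈ RK, ev8 x r = 1)
    (A : List (List (ℕ × ℤ)))
    (h : ∀ i < c, (∀ p ∈ A.getD i [], p.1 ∈ RK ∧ TC.ltrs c (p.1 >>> 8) (p.1 &&& 255) = true) ∧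
      ∀ j < c, cmb (A.getD i []) j = if i = j then (m : ℤ) else 0) (k : cl x c) :
    k ^ m ∈ commutator (cl x c) := by
  have key : (⊤ : Subgroup (cl x c)) ≤ ((powMonoidHom m).comp Abelianization.of).ker := by
    refine sg_top x c ▸ cl_le fun i hi => ?_
    have := cmb_spec (C := c) (fun j => Abelianization.of (sg x c j)) (A.getD i []) fun p hp =>
      ⟨((h i hi).1 p hp).2, by
        rw [ev8, ← map_evN, show evN (sg x c) _ _ = 1 from Subtype.ext
          ((sg_ev x (TC.ltrs_spec ((h i hi).1 p hp).2)).trans (hr _ ((h i hi).1 p hp).1)), map_one]⟩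
    rw [Finset.prod_eq_single_of_mem i (Finset.mem_range.mpr hi) fun j hj hne => by
      rw [(h i hi).2 j (Finset.mem_range.mp hj), if_neg hne.symm, zpow_zero], (h i hi).2 i hi,
      if_pos rfl, zpow_natCast] at this
    exact this
  have : Abelianization.of k ^ m = 1 := key (mem_top k)
  rw [← map_pow] at this
  exact (QuotientGroup.eq_one_iff _).mp this

theorem Kl.res (hK : Kl K N e n) {Γ : Type u} [Group Γ] [Finite Γ] {σ : Γ →* G}
    (hσ : IsStemExtension σ) (hN : ∀ z ∈ σ.ker, z ^ N = 1) {K' : Subgroup Γ} (h1 : K'.map σ = K)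
    (h2 : σ.ker ⊓ K' ≤ ⁅K', K'⁆) :
    Nat.card ↥(σ.ker ⊓ K') ≤ n ∧ ∀ z ∈ σ.ker, z ∈ K' → z ^ e = 1 := by
  let τ : K' →* K := (σ.comp K'.subtype).codRestrict K fun x => h1.le ⟨x, x.2, rfl⟩
  have h4 : τ.ker = σ.ker.subgroupOf K' :=
    Subgroup.ext fun x => ⟨fun h => congrArg Subtype.val h, fun h => Subtype.ext h⟩
  have h3 : IsStemExtension τ := by
    refine ⟨fun k => ?_, fun x hx => mem_center_iff.mpr fun g =>
      Subtype.ext (stem_comm hσ (congrArg Subtype.val hx) _), fun x hx => ?_⟩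
    · obtain ⟨x, hx, h⟩ := h1.ge k.2
      exact ⟨⟨x, hx⟩, Subtype.ext h⟩
    · have := h2 ⟨congrArg Subtype.val hx, x.2⟩
      rw [← map_subtype_commutator] at this
      obtain ⟨y, hy, e⟩ := this
      exact (Subtype.ext e : y = x) ▸ hy
  obtain ⟨h7, h8⟩ := hK _ τ h3 fun z hz => Subtype.ext (hN _ (h4 ▸ hz : z ∈ σ.ker.subgroupOf K'))
  rw [h4] at h7 h8
  rw [← inf_subgroupOf_right, Nat.card_congr (subgroupOfEquivOfLe inf_le_right).toEquiv] at h7
  exact ⟨h7, fun z hz hz' => congrArg Subtype.val (h8 ⟨z, hz'⟩ hz)⟩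

theorem Kl.sub2 (hK : Kl K N e n) (hc : N.Coprime K.index) : Kl G N e n := fun Γ _ _ σ hσ hN => by
  have h1 := map_comap_eq_self_of_surjective hσ.1 K
  have h2 : σ.ker ≤ K.comap σ := ker_le_comap σ K
  obtain ⟨a, b⟩ := hK.res hσ hN h1 fun z hz => mem_of_pow (stem_pow hσ h1.ge hz.1) (hN z hz.1) hc
  rw [inf_eq_left.mpr h2] at a
  exact ⟨a, fun z hz => b z hz (h2 hz)⟩

theorem Kl.nsp2 {e' k m : ℕ} (h : Ls K (Nat.gcd N K.index) e n)
    (hab : ∀ g : K, g ^ m ∈ commutator K) (hm : N.Coprime m) (hK : Kl K N e' k) :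
    Kl G N (e * e') (k * n) := fun Γ _ _ σ hσ hN => by
  let H := K.comap σ
  let P : Subgroup H := ((powMonoidHom m).comp Abelianization.of).ker
  have hP : ∀ x : H, x ∈ P ↔ (x : Γ) ^ m ∈ ⁅H, H⁆ := fun x => by
    rw [← map_subtype_commutator]
    change Abelianization.of x ^ m = 1 ↔ _
    rw [← map_pow]
    refine (QuotientGroup.eq_one_iff _).trans ⟨fun a => ⟨_, a, rfl⟩, fun ⟨y, a, b⟩ => ?_⟩
    exact (Subtype.ext b : y = x ^ m) ▸ a
  have h1 : (P.map H.subtype).map σ = K := by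
    refine le_antisymm (by rintro _ ⟨_, ⟨x, -, rfl⟩, rfl⟩; exact x.2) fun g hg => ?_
    obtain ⟨x, rfl⟩ := hσ.1 g
    have a : σ x ^ m ∈ (⁅H, H⁆ : Subgroup Γ).map σ := by
      rw [map_commutator, map_comap_eq_self_of_surjective hσ.1, ← map_subtype_commutator]
      exact ⟨_, hab ⟨_, hg⟩, rfl⟩
    obtain ⟨d, hd, a⟩ := a
    have hz : d⁻¹ * x ^ m ∈ σ.ker := by simp [MonoidHom.mem_ker, a]
    obtain ⟨i, hi⟩ := mem_of_pow (H := zpowers ((d⁻¹ * x ^ m) ^ m)) (mem_zpowers _) (hN _ hz) hm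
    have hw : (d⁻¹ * x ^ m) ^ (-i) ∈ σ.ker := zpow_mem hz _
    refine ⟨x * (d⁻¹ * x ^ m) ^ (-i), ⟨⟨_, mul_mem hg (ker_le_comap σ K hw)⟩, (hP _).mpr ?_, rfl⟩,
      by rw [map_mul, hw, mul_one]⟩
    change (x * _) ^ m ∈ _
    rw [Commute.mul_pow (stem_comm hσ hw x), ← zpow_natCast (_ ^ (-i)), ← zpow_mul, mul_comm (-i),
      zpow_mul, zpow_natCast, zpow_neg]
    simp only at hi
    rw [hi, mul_inv_rev, inv_inv, mul_inv_cancel_left]
    exact hd
  obtain ⟨h5, h6⟩ := h.quot hσ hN h1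
  obtain ⟨h7, h8⟩ := hK.res hσ hN h1 (by
    rintro _ ⟨hz, x, hx, rfl⟩
    exact stem_comm_le hσ h1.ge (mem_of_pow ((hP x).mp hx) (hN _ hz) hm))
  exact ⟨h5.trans (Nat.mul_le_mul_right _ h7), fun z hz => by
    rw [pow_mul]; exact h8 _ (pow_mem hz e) (h6 z hz)⟩

theorem LT.Tab.Cert.kln2 [Finite G] {x : ℕ → G} {T : LT.Tab} {r0 : ℕ} (h : T.Cert r0)
    {ns : List ℕ} (hn : T.Kills ns) (hr : T.Rel x) {m : ℕ} (h0 : Nat.card (cl x T.c0) = m)
    (hc : Nat.card (cl x T.C) = T.M * m) {a : ℕ}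
    (hp : ∀ g : cl x T.c0, g ^ a ∈ commutator (cl x T.c0)) (ha : N.Coprime a) {e' k : ℕ}
    (hK : Kl (cl x T.c0) N e' k) (e f j : ℕ)
    (he : (∀ n ∈ ns, 0 < n ∧ n ∣ e) ∧ T.q = e * f ∧ Nat.gcd N T.M ∣ e * f ^ j) :
    Kl (cl x T.C) N (e * e') (k * ns.prod) :=
  have e0 := (subgroupOfEquivOfLe (cl_mono x (c0_le T))).symm
  Kl.nsp2 ((index_sub (c0_le T) h0 hc).symm ▸ h.ls hn hr h0 hc _ e f j he) (fun g => by
    obtain ⟨g, rfl⟩ := e0.surjective g
    rw [← map_pow]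
    have : (commutator (cl x T.c0)).map e0.toMonoidHom = commutator _ := by
      rw [commutator_def, map_commutator, map_top_of_surjective _ e0.surjective]; rfl
    exact this.le ⟨_, hp g, rfl⟩) ha (hK.congr e0)

end CfsgH7
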