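import Cfsg.Agent.H7.Kl2

set_option autoImplicit false

/-! A four-group and a square root kill the 2-part of a multiplier. -/

namespace CfsgH7

open Cfsg Subgroup
open scoped commutatorElement

universe u

variable {G : Type u} [Group G]

theorem Kg.klein [Finite G] {a b : G} (hc : Nat.card G = 60) (ha : a ^ 2 = 1) (hb : b ^ 2 = 1)
    (hab : Commute a b) (h1 : a ≠ 1) (h2 : b ≠ 1) (h3 : a ≠ b) (k : ℕ) : Kg (2 ^ k) a b := by
  have oa : orderOf a = 2 := orderOf_eq_prime ha h1
  have ob : orderOf b = 2 := orderOf_eq_prime hb h2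
  have m : ∀ {c x : G}, orderOf c = 2 → x ∈ zpowers c → x = 1 ∨ x = c := fun {c x} o h => by
    classical
    rw [mem_zpowers_iff_mem_range_orderOf, o, Finset.mem_image] at h
    obtain ⟨i, hi, rfl⟩ := h
    have := Finset.mem_range.mp hi
    interval_cases i <;> simp
  let φ : zpowers a × zpowers b →* G := (zpowers a).subtype.noncommCoprod (zpowers b).subtype (by
    rintro ⟨_, i, rfl⟩ ⟨_, j, rfl⟩
    exact hab.zpow_zpow i j)
  have hφ : Function.Injective φ := (MonoidHom.noncommCoprod_injective _ _ _).mpr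
    ⟨subtype_injective _, subtype_injective _, by
      rw [range_subtype, range_subtype, disjoint_def]
      intro x p q
      rcases m oa p with rfl | rfl
      · rfl
      · exact ((m ob q).resolve_right h3)⟩
  refine Kg.base (K := φ.range) hab ?_ ?_
  · rintro _ ⟨⟨⟨_, i, rfl⟩, ⟨_, j, rfl⟩⟩, rfl⟩
    exact mul_mem (zpow_mem (subset_closure (by simp)) i) (zpow_mem (subset_closure (by simp)) j)
  · have := φ.range.index_mul_card
    rw [← Nat.card_congr (MonoidHom.ofInjective hφ).toEquiv, Nat.card_prod, Nat.card_zpowers,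
      Nat.card_zpowers, oa, ob, hc] at this
    rw [show φ.range.index = 15 by omega]
    exact Nat.Coprime.pow_left k (by norm_num)

theorem Kg.root {a b r : G} {k : ℕ} (h : Kg (2 ^ k) a b) (hr : r ^ 2 = a) (hb : r * b = b * r) :
    Kl G (2 ^ k) 1 1 := fun Γ _ _ σ hσ hN => by
  obtain ⟨x, rfl⟩ := hσ.1 r
  obtain ⟨y, rfl⟩ := hσ.1 b
  have hm : ⁅x, y⁆ ∈ σ.ker := by
    rw [MonoidHom.mem_ker, map_commutatorElement]
    exact commutatorElement_eq_one_iff_mul_comm.mpr hb
  have e := h Γ σ hσ hN (x ^ 2) y (by rw [map_pow, hr]) rfl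
  rw [comm_pow_left (stem_comm hσ hm)] at e
  have o : orderOf ⁅x, y⁆ = 1 := Nat.Coprime.eq_one_of_dvd
    (Nat.Coprime.pow_right k (Nat.Coprime.symm (mem_zpowers_pow_iff.mp (e hm))))
    (orderOf_dvd_of_pow_eq_one (hN _ hm))
  rw [orderOf_eq_one_iff.mp o, one_pow, zpowers_one_eq_bot] at e
  exact Kl.one Γ σ hσ fun z hz => (pow_one z).trans (mem_bot.mp (e hz))

end CfsgH7
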