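import Cfsg.Agent.H7.Kl3

set_option autoImplicit false

/-! A product of two squares kills the 2-part of a multiplier. -/

namespace CfsgH7

open Cfsg Subgroup
open scoped commutatorElement

universe u

variable {G : Type u} [Group G]

theorem Kg.root2 {a b r s : G} {k : ℕ} (h : Kg (2 ^ k) a b) (hr : r * r * (s * s) = a)
    (hb : r * b = b * r) (hs : s * b = b * s) : Kl G (2 ^ k) 1 1 := fun Γ _ _ σ hσ hN => by
  obtain ⟨x, rfl⟩ := hσ.1 r
  obtain ⟨x', rfl⟩ := hσ.1 s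
  obtain ⟨y, rfl⟩ := hσ.1 b
  have hm : ∀ {u : Γ}, σ u * σ y = σ y * σ u → ⁅u, y⁆ ∈ σ.ker := fun h => by
    rw [MonoidHom.mem_ker, map_commutatorElement]
    exact commutatorElement_eq_one_iff_mul_comm.mpr h
  have mul : ∀ {u v : Γ}, ⁅v, y⁆ ∈ σ.ker → ⁅u * v, y⁆ = ⁅v, y⁆ * ⁅u, y⁆ := fun {u v} h => by
    calc ⁅u * v, y⁆ = u * ⁅v, y⁆ * u⁻¹ * ⁅u, y⁆ := by simp only [commutatorElement_def]; group
      _ = _ := by rw [stem_comm hσ h, mul_inv_cancel_right]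
  have e := h Γ σ hσ hN (x * x * (x' * x')) y (by simpa using hr) rfl
  have m := mul_mem (hm hs) (hm hb)
  rw [mul (by rw [mul (hm hs)]; exact mul_mem (hm hs) (hm hs)), mul (hm hs), mul (hm hb),
    show ⁅x', y⁆ * ⁅x', y⁆ * (⁅x, y⁆ * ⁅x, y⁆) = (⁅x', y⁆ * ⁅x, y⁆) ^ 2 by
      rw [Commute.mul_pow (stem_comm hσ (hm hb) _), pow_two, pow_two]] at e
  have o := Nat.Coprime.eq_one_of_dvd
    (Nat.Coprime.pow_right k (Nat.Coprime.symm (mem_zpowers_pow_iff.mp (e m))))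
    (orderOf_dvd_of_pow_eq_one (hN _ m))
  rw [orderOf_eq_one_iff.mp o, one_pow, zpowers_one_eq_bot] at e
  exact Kl.one Γ σ hσ fun z hz => (pow_one z).trans (mem_bot.mp (e hz))

end CfsgH7
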