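import Mathlib

set_option autoImplicit false

/-! Short vectors modulo two in an even lattice of rank 24 without roots. -/

namespace CfsgH7

/-- double counting for sets -/
theorem ldc {α β : Type*} {s : Set α} {t : Set β} (hs : s.Finite) (ht : t.Finite) (r : α → β → Prop)
    {m n : ℕ} (hm : ∀ a ∈ s, {b | b ∈ t ∧ r a b}.ncard = m) (hn : ∀ b ∈ t, {a | a ∈ s ∧ r a b}.ncard = n) :
    s.ncard * m = t.ncard * n := by
  classical
  rw [Set.ncard_eq_toFinset_card _ hs, Set.ncard_eq_toFinset_card _ ht]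
  apply Finset.card_mul_eq_card_mul r
  · intro a ha
    rw [← hm a (by simpa using ha), ← Set.ncard_coe_finset]
    congr 1; ext b; simp [Finset.mem_bipartiteAbove]
  · intro b hb
    rw [← hn b (by simpa using hb), ← Set.ncard_coe_finset]
    congr 1; ext b; simp [Finset.mem_bipartiteBelow]

theorem ldc_le {α β : Type*} {s : Set α} {t : Set β} (hs : s.Finite) (ht : t.Finite) (r : α → β → Prop)
    {m n : ℕ} (hm : ∀ a ∈ s, m ≤ {b | b ∈ t ∧ r a b}.ncard) (hn : ∀ b ∈ t, {a | a ∈ s ∧ r a b}.ncard ≤ n) :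
    s.ncard * m ≤ t.ncard * n := by
  classical
  rw [Set.ncard_eq_toFinset_card _ hs, Set.ncard_eq_toFinset_card _ ht]
  apply Finset.card_mul_le_card_mul r
  · intro a ha
    refine (hm a (by simpa using ha)).trans (le_of_eq ?_)
    rw [← Set.ncard_coe_finset]
    congr 1; ext b; simp [Finset.mem_bipartiteAbove]
  · intro b hb
    refine (le_of_eq ?_).trans (hn b (by simpa using hb))
    rw [← Set.ncard_coe_finset]
    congr 1; ext b; simp [Finset.mem_bipartiteBelow]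

theorem lfib_eq {α β : Type*} {s : Set α} {t : Set β} (hs : s.Finite) (ht : t.Finite) (f : α → β)
    {n : ℕ} (hf : ∀ a ∈ s, f a ∈ t) (h : ∀ b ∈ t, {a | a ∈ s ∧ f a = b}.ncard ≤ n)
    (he : t.ncard * n ≤ s.ncard) : ∀ b ∈ t, {a | a ∈ s ∧ f a = b}.ncard = n := by
  classical
  have e : ∀ b, {a | a ∈ s ∧ f a = b}.ncard = (hs.toFinset.filter (f · = b)).card := fun b => by
    rw [← Set.ncard_coe_finset]; congr 1; ext; simp
  have h1 := Finset.card_eq_sum_card_fiberwise (s := hs.toFinset) (t := ht.toFinset) (f := f)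
    (fun a ha => by simpa using hf a (by simpa using ha))
  rw [Set.ncard_eq_toFinset_card _ hs, Set.ncard_eq_toFinset_card _ ht, h1, ← smul_eq_mul,
    ← Finset.sum_const] at he
  have h2 : ∀ b ∈ ht.toFinset, (hs.toFinset.filter (f · = b)).card ≤ n := fun b hb => by
    rw [← e]; exact h b (by simpa using hb)
  have := (Finset.sum_eq_sum_iff_of_le h2).1 (le_antisymm (Finset.sum_le_sum h2) he)
  intro b hb
  rw [e]; exact this b (by simpa using hb)

theorem lncard_fib {α β : Type*} {s : Set α} {t : Set β} (hs : s.Finite) (ht : t.Finite) (f : α → β)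
    {n : ℕ} (hf : ∀ a ∈ s, f a ∈ t) (h : ∀ b ∈ t, {a | a ∈ s ∧ f a = b}.ncard = n) :
    s.ncard = t.ncard * n := by
  rw [← ldc hs ht (fun a b => f a = b) (m := 1) (fun a ha => ?_) h, mul_one]
  rw [Set.ncard_eq_one]
  exact ⟨f a, by ext b; simp only [Set.mem_setOf_eq, Set.mem_singleton_iff]; exact
    ⟨fun h => h.2.symm, fun h => ⟨h ▸ hf a ha, h.symm⟩⟩⟩

open Finset

/-- an even lattice without roots, scaled by `s` -/
structure Lat {M : Type*} [AddCommGroup M] (b : M →+ M →+ ℤ) (s : ℤ) : Prop where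
  sym : ∀ x y, b x y = b y x
  pos : 0 < s
  min : ∀ x, x ≠ 0 → 4 * s ≤ b x x
  ev : ∀ x, 2 * s ∣ b x x

namespace Lat

variable {M : Type*} [AddCommGroup M] {b : M →+ M →+ ℤ} {s : ℤ} (h : Lat b s)
include h

theorem two {z : M} (hz : (2 : ℤ) • z ≠ 0) : 16 * s ≤ b ((2 : ℤ) • z) ((2 : ℤ) • z) := by
  have := h.min z fun e => hz (by rw [e, smul_zero])
  simp only [map_zsmul, AddMonoidHom.smul_apply, smul_eq_mul]
  omega

theorem cong {x y z : M} (hx : b x x ≤ 8 * s) (hy : b y y ≤ 8 * s) (e : x - y = (2 : ℤ) • z) :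
    x = y ∨ x = -y ∨ (b x x = 8 * s ∧ b y y = 8 * s ∧ b x y = 0) := by
  by_cases p : x = y
  · exact Or.inl p
  by_cases q : x = -y
  · exact Or.inr (Or.inl q)
  have e' : x + y = (2 : ℤ) • (z + y) := by rw [smul_add, ← e, two_smul]; abel
  have a := h.two (z := z) (by rw [← e]; exact sub_ne_zero.mpr p)
  have c := h.two (z := z + y) (by rw [← e']; exact fun r => q (eq_neg_of_add_eq_zero_left r))
  rw [← e] at a
  rw [← e'] at c
  simp only [map_sub, map_add, AddMonoidHom.sub_apply, AddMonoidHom.add_apply, h.sym y x] at a c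
  omega

theorem fib_le [Module.Finite ℤ M] (hr : Module.finrank ℤ M = 24) {x : M} {F : Set M}
    (hF : F.Finite) (hx : ∀ y ∈ F, b y y = 8 * s ∧ ∃ z, x - y = (2 : ℤ) • z) : F.ncard ≤ 48 := by
  classical
  have : Countable M := Finsupp.Countable.of_moduleFinite (R := ℤ)
  obtain ⟨f, hf⟩ := exists_injective_nat M
  have hs := h.pos
  let T : Set M := {y | (b y y = 8 * s ∧ ∃ z, x - y = (2 : ℤ) • z) ∧ f y < f (-y) ∧ (y ∈ F ∨ -y ∈ F)}
  have hT : T.Finite := (hF.union hF.neg).subset fun y hy => hy.2.2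
  have h1 : LinearIndependent ℤ (fun y : hT.toFinset => (y : M)) := by
    rw [linearIndependent_iff']
    intro S g e i hi
    have a := congrArg (b i) e
    have hi' := hT.mem_toFinset.mp i.2
    rw [map_sum, map_zero, sum_eq_single i (fun j _ hj => ?_) (fun r => absurd hi r), map_zsmul,
      hi'.1.1, smul_eq_mul] at a
    · exact (mul_eq_zero.mp a).resolve_right (by omega)
    · have hj' := hT.mem_toFinset.mp j.2
      obtain ⟨z, hz⟩ := hi'.1.2
      obtain ⟨w, hw⟩ := hj'.1.2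
      rcases h.cong hi'.1.1.le hj'.1.1.le (z := w - z) (by rw [smul_sub, ← hz, ← hw]; abel)
        with r | r | r
      · exact absurd (Subtype.ext r).symm hj
      · have p := hi'.2.1
        have q := hj'.2.1
        rw [r, neg_neg] at p
        omega
      · rw [map_zsmul, r.2.2, smul_zero]
  have h2 := h1.fintype_card_le_finrank
  rw [hr, Fintype.card_coe, ← Set.ncard_eq_toFinset_card _ hT] at h2
  have h3 : F ⊆ T ∪ -T := fun y hy => by
    obtain ⟨p, z, hz⟩ := hx y hy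
    have : f y ≠ f (-y) := fun e => by
      have := congrArg (b y) (hf e)
      rw [map_neg] at this
      omega
    rcases lt_or_gt_of_ne this with r | r
    · exact Or.inl ⟨⟨p, z, hz⟩, r, Or.inl hy⟩
    · refine Or.inr ⟨⟨by simpa using p, z + y, ?_⟩, by rwa [neg_neg], Or.inr (by rwa [neg_neg])⟩
      rw [smul_add, ← hz, two_smul]; abel
  have := (Set.ncard_le_ncard h3 (hT.union hT.neg)).trans (Set.ncard_union_le _ _)
  rw [Set.ncard_neg] at this
  omega

theorem main [Module.Finite ℤ M] [Module.Free ℤ M] (hr : Module.finrank ℤ M = 24)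
    (h4 : {x | b x x = 4 * s}.ncard = 196560) (h6 : {x | b x x = 6 * s}.ncard = 16773120)
    (h8 : {x | b x x = 8 * s}.ncard = 398034000) :
    (∀ x, ∃ y, b y y ≤ 8 * s ∧ ∃ z, x - y = (2 : ℤ) • z) ∧ ∀ x, b x x = 8 * s →
      {y | b y y = 8 * s ∧ ∃ z, x - y = (2 : ℤ) • z}.ncard = 48 := by
  classical
  let T := (nsmulAddMonoidHom (α := M) 2).range
  have hT : Nat.card (M ⧸ T) = 2 ^ 24 := hr ▸ AddSubgroup.index_range_nsmul M 2
  have : Finite (M ⧸ T) := Nat.finite_of_card_ne_zero (by rw [hT]; norm_num)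
  let q : M → M ⧸ T := QuotientAddGroup.mk
  have hq : ∀ x y, q x = q y ↔ ∃ z, x - y = (2 : ℤ) • z := fun x y => by
    rw [QuotientAddGroup.eq_iff_sub_mem]
    exact exists_congr fun z => by rw [eq_comm, two_smul, nsmulAddMonoidHom_apply, two_smul]
  have hs := h.pos
  have f4 := Set.finite_of_ncard_ne_zero (by rw [h4]; norm_num : _ ≠ 0)
  have f6 := Set.finite_of_ncard_ne_zero (by rw [h6]; norm_num : _ ≠ 0)
  have f8 := Set.finite_of_ncard_ne_zero (by rw [h8]; norm_num : _ ≠ 0)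
  have le : ∀ (X : Set M) (n : ℕ), X.Finite → (∀ x ∈ X, {a | a ∈ X ∧ q a = q x}.ncard ≤ n) →
      X.ncard ≤ (q '' X).ncard * n := fun X n hX hn => by
    have := ldc_le hX (hX.image q) (fun a c => q a = c) (m := 1) (n := n) (fun a ha => by
      rw [show {c | c ∈ q '' X ∧ q a = c} = {q a} from Set.ext fun c =>
        ⟨fun r => r.2.symm, fun r => ⟨⟨a, ha, r.symm⟩, r.symm⟩⟩, Set.ncard_singleton])
      (by rintro _ ⟨x, hx, rfl⟩; exact hn x hx)
    simpa using this
  have two : ∀ k : ℤ, k < 8 → ∀ x ∈ {x | b x x = k * s},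
      {a | a ∈ {x | b x x = k * s} ∧ q a = q x}.ncard ≤ 2 := fun k hk x hx => by
    refine le_trans (Set.ncard_le_ncard (t := {x, -x}) ?_) ((Set.ncard_insert_le _ _).trans (by simp))
    rintro a ⟨ha, e⟩
    obtain ⟨z, hz⟩ := (hq _ _).mp e
    have hx' : b x x = k * s := hx
    have ha' : b a a = k * s := ha
    rcases h.cong (by nlinarith) (by nlinarith) hz with r | r | r
    · exact Or.inl r
    · exact Or.inr r
    · nlinarith
  have e48 : ∀ x ∈ {x | b x x = 8 * s}, {a | a ∈ {x | b x x = 8 * s} ∧ q a = q x}.ncard ≤ 48 :=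
    fun x _ => h.fib_le hr (x := x) (f8.subset fun _ r => r.1) fun y hy => ⟨hy.1, (hq _ _).mp hy.2.symm⟩
  have l4 := le _ _ f4 (two 4 (by norm_num))
  have l6 := le _ _ f6 (two 6 (by norm_num))
  have l8 := le _ _ f8 e48
  have dj : ∀ k l : ℤ, k < l → l ≤ 8 →
      Disjoint (q '' {x | b x x = k * s}) (q '' {x | b x x = l * s}) := fun k l p r => by
    rw [Set.disjoint_left]
    rintro _ ⟨x, hx, rfl⟩ ⟨y, hy, e⟩
    obtain ⟨z, hz⟩ := (hq _ _).mp e
    have hx' : b x x = k * s := hx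
    have hy' : b y y = l * s := hy
    rcases h.cong (by nlinarith) (by nlinarith) hz with rfl | rfl | t
    · nlinarith
    · simp only [map_neg, AddMonoidHom.neg_apply, neg_neg] at hy'; nlinarith
    · nlinarith
  have l0 : 1 ≤ (q '' {x | b x x = 0 * s}).ncard :=
    (Set.ncard_pos (Set.toFinite _)).mpr ⟨_, 0, by simp, rfl⟩
  have tot := Set.ncard_union_eq (s := q '' {x | b x x = 0 * s} ∪ q '' {x | b x x = 4 * s} ∪
    q '' {x | b x x = 6 * s}) (t := q '' {x | b x x = 8 * s}) (by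
      simp only [Set.disjoint_union_left]
      exact ⟨⟨dj _ _ (by norm_num) le_rfl, dj _ _ (by norm_num) le_rfl⟩, dj _ _ (by norm_num) le_rfl⟩)
  have t2 := Set.ncard_union_eq (s := q '' {x | b x x = 0 * s} ∪ q '' {x | b x x = 4 * s})
    (t := q '' {x | b x x = 6 * s}) (by
      simp only [Set.disjoint_union_left]
      exact ⟨dj _ _ (by norm_num) (by norm_num), dj _ _ (by norm_num) (by norm_num)⟩)
  have t3 := Set.ncard_union_eq (dj 0 4 (by norm_num) (by norm_num))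
  have ub := Set.ncard_le_card (q '' {x | b x x = 0 * s} ∪ q '' {x | b x x = 4 * s} ∪
    q '' {x | b x x = 6 * s} ∪ q '' {x | b x x = 8 * s})
  rw [h4] at l4
  rw [h6] at l6
  refine ⟨fun x => ?_, fun x hx => ?_⟩
  · have := (Set.eq_univ_iff_ncard (q '' {x | b x x = 0 * s} ∪ q '' {x | b x x = 4 * s} ∪
      q '' {x | b x x = 6 * s} ∪ q '' {x | b x x = 8 * s})).mpr (by rw [h8] at l8; omega)
    rcases Set.eq_univ_iff_forall.mp this (q x) with ((⟨y, p, e⟩ | ⟨y, p, e⟩) | ⟨y, p, e⟩) | ⟨y, p, e⟩ <;>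
      exact ⟨y, by have : b y y = _ := p; omega, (hq _ _).mp e.symm⟩
  · rw [← lfib_eq f8 (f8.image q) q (n := 48) (fun a ha => ⟨a, ha, rfl⟩)
      (by rintro _ ⟨x, hx, rfl⟩; exact e48 x hx) (by rw [h8] at l8 ⊢; omega) (q x) ⟨x, hx, rfl⟩]
    congr 1
    ext y
    exact and_congr_right fun _ => by rw [← hq, eq_comm]

end Lat

open Matrix in
/-- the form of a matrix -/
def matForm (B : Matrix (Fin 24) (Fin 24) ℤ) : (Fin 24 → ℤ) →+ (Fin 24 → ℤ) →+ ℤ :=
  AddMonoidHom.mk' (fun x => AddMonoidHom.mk' (fun y => x ⬝ᵥ (B *ᵥ y)) fun y z => by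
    rw [Matrix.mulVec_add, dotProduct_add]) fun x y => by ext z; simp [add_dotProduct]

open Matrix in
theorem lat_mat {B : Matrix (Fin 24) (Fin 24) ℤ} (hsymm : B.IsSymm)
    (hpos : ∀ x : Fin 24 → ℤ, x ≠ 0 → 0 < x ⬝ᵥ (B *ᵥ x))
    (heven : ∀ x : Fin 24 → ℤ, (2 : ℤ) ∣ x ⬝ᵥ (B *ᵥ x)) (h2 : ∀ x : Fin 24 → ℤ, x ⬝ᵥ (B *ᵥ x) ≠ 2) :
    Lat (matForm B) 1 where
  sym := fun x y => by
    show x ⬝ᵥ (B *ᵥ y) = y ⬝ᵥ (B *ᵥ x)
    rw [dotProduct_mulVec, ← mulVec_transpose, hsymm.eq, dotProduct_comm]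
  pos := one_pos
  min := fun x hx => by
    show 4 * 1 ≤ x ⬝ᵥ (B *ᵥ x)
    have := hpos x hx
    have := heven x
    have := h2 x
    omega
  ev := heven

theorem two_dvd_iff (x : Fin 24 → ℤ) : (∀ i, (2 : ℤ) ∣ x i) ↔ ∃ z, x = (2 : ℤ) • z :=
  ⟨fun h => ⟨fun i => (h i).choose, funext fun i => (h i).choose_spec⟩,
    by rintro ⟨z, rfl⟩ i; exact ⟨z i, rfl⟩⟩

end CfsgH7
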