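import Cfsg.Agent.H7.M24b
import Cfsg.Prelude.Def_Spor_Conway
import Cfsg.Prelude.Def_SporadicCombinatorics

set_option autoImplicit false
set_option maxRecDepth 100000
set_option Elab.async false

/-! The Leech lattice: membership, evenness, counting vectors. -/

namespace CfsgH7

open Cfsg Finset
open scoped symmDiff

noncomputable section

abbrev V24 := GolayPt → ℤ

/-- `x` has parity `m` and pattern `s` modulo four -/
def Lx (x : V24) (m : ℤ) (s : Finset GolayPt) : Prop :=
  (m = 0 ∨ m = 1) ∧ s ∈ Cw ∧ (∀ i, x i % 4 = m + if i ∈ s then 2 else 0) ∧ (∑ i, x i) % 8 = 4 * m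

theorem mem_leechSet {x : V24} : x ∈ leechSet ↔ ∃ m s, Lx x m s := by
  constructor
  · rintro ⟨m, h1, h2, h3⟩
    refine ⟨m % 2, _, by omega, h3 (m % 2 + 2), fun i => ?_, ?_⟩
    · have := h1 i
      split_ifs with h <;> rw [mem_filter] at h <;>
        simp only [mem_univ, true_and, Int.ModEq] at this h <;> omega
    · simp only [Int.ModEq] at h2
      omega
  · rintro ⟨m, s, h0, hs, h1, h2⟩
    refine ⟨m, fun i => ?_, ?_, fun k => ?_⟩
    · have := h1 i
      simp only [Int.ModEq]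
      split_ifs at this <;> omega
    · simp only [Int.ModEq]; omega
    · by_cases a : k % 4 = m + 2
      · have : (univ.filter fun i => x i ≡ k [ZMOD 4]) = s := by
          ext i
          have := h1 i
          rw [mem_filter]
          simp only [mem_univ, true_and, Int.ModEq]
          split_ifs at this with h <;> simp only [h, iff_true, iff_false] <;> omega
        rw [this]; exact hs
      · by_cases b : k % 4 = m
        · have : (univ.filter fun i => x i ≡ k [ZMOD 4]) = sᶜ := by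
            ext i
            have := h1 i
            rw [mem_filter]
            simp only [mem_univ, true_and, Int.ModEq, mem_compl]
            split_ifs at this with h <;>
              simp only [h, iff_true, iff_false, not_true_eq_false, not_false_eq_true] <;> omega
          rw [this]; exact Cw_compl hs
        · have : (univ.filter fun i => x i ≡ k [ZMOD 4]) = ∅ := by
            ext i
            have := h1 i
            rw [mem_filter]
            simp only [mem_univ, true_and, Int.ModEq, notMem_empty, iff_false]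
            split_ifs at this with h <;> omega
          rw [this]; exact Cw_empty

theorem Lx.add {x y : V24} {m m' : ℤ} {s s' : Finset GolayPt} (h : Lx x m s) (h' : Lx y m' s') :
    ∃ m s, Lx (x + y) m s := by
  obtain ⟨h0, hs, h1, h2⟩ := h
  obtain ⟨h0', hs', h1', h2'⟩ := h'
  by_cases e : m = 1 ∧ m' = 1
  · refine ⟨0, (s ∆ s')ᶜ, Or.inl rfl, Cw_compl (Cw_symmDiff hs hs'), fun i => ?_, ?_⟩
    · have a := h1 i
      have b := h1' i
      simp only [Pi.add_apply, mem_compl, mem_symmDiff]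
      by_cases p : i ∈ s <;> by_cases q : i ∈ s' <;> simp only [p, q] at a b ⊢ <;>
        simp at a b ⊢ <;> omega
    · simp only [Pi.add_apply, sum_add_distrib]; omega
  · refine ⟨m + m', s ∆ s', by omega, Cw_symmDiff hs hs', fun i => ?_, ?_⟩
    · have a := h1 i
      have b := h1' i
      simp only [Pi.add_apply, mem_symmDiff]
      by_cases p : i ∈ s <;> by_cases q : i ∈ s' <;> simp only [p, q] at a b ⊢ <;>
        simp at a b ⊢ <;> omega
    · simp only [Pi.add_apply, sum_add_distrib]; omega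

theorem Lx.neg {x : V24} {m : ℤ} {s : Finset GolayPt} (h : Lx x m s) : ∃ m s, Lx (-x) m s := by
  obtain ⟨h0, hs, h1, h2⟩ := h
  rcases h0 with rfl | rfl
  · refine ⟨0, s, Or.inl rfl, hs, fun i => ?_, ?_⟩
    · have a := h1 i
      simp only [Pi.neg_apply]
      split_ifs at a ⊢ <;> omega
    · simp only [Pi.neg_apply, sum_neg_distrib]; omega
  · refine ⟨1, sᶜ, Or.inr rfl, Cw_compl hs, fun i => ?_, ?_⟩
    · have a := h1 i
      simp only [Pi.neg_apply, mem_compl]
      by_cases p : i ∈ s <;> simp only [p] at a ⊢ <;> simp at a ⊢ <;> omega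
    · simp only [Pi.neg_apply, sum_neg_distrib]; omega

/-- the lattice as a subgroup with the defining set as carrier -/
def leechSub : AddSubgroup V24 where
  carrier := leechSet
  zero_mem' := mem_leechSet.mpr ⟨0, ∅, Or.inl rfl, Cw_empty, by simp, by simp⟩
  add_mem' := fun ha hb => by
    obtain ⟨_, _, h⟩ := mem_leechSet.mp ha
    obtain ⟨_, _, h'⟩ := mem_leechSet.mp hb
    exact mem_leechSet.mpr (h.add h')
  neg_mem' := fun ha => by
    obtain ⟨_, _, h⟩ := mem_leechSet.mp ha
    exact mem_leechSet.mpr h.neg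

theorem leech_eq : leechLattice = leechSub := AddSubgroup.closure_eq leechSub

theorem mem_leech {x : V24} : x ∈ leechLattice ↔ ∃ m s, Lx x m s := by
  rw [leech_eq, ← mem_leechSet]; rfl

theorem Lx.mem {x : V24} {m : ℤ} {s : Finset GolayPt} (h : Lx x m s) : x ∈ leechLattice :=
  mem_leech.mpr ⟨m, s, h⟩

theorem sum_ind (s : Finset GolayPt) (c : ℤ) :
    ∑ i, (if i ∈ s then c else 0) = c * s.card := by
  rw [← sum_filter, filter_mem_eq_inter, univ_inter, sum_const, nsmul_eq_mul, mul_comm]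

theorem Cw_four {s : Finset GolayPt} (hs : s ∈ Cw) : (s.card : ℤ) % 4 = 0 := by
  rcases Cw_card hs with h | h | h | h | h <;> rw [h] <;> rfl

theorem leech_even {x : V24} (hx : x ∈ leechLattice) : (16 : ℤ) ∣ sqNorm x := by
  obtain ⟨m, s, h0, hs, h1, h2⟩ := mem_leech.mp hx
  have a : (16 : ℤ) ∣ ∑ i, (x i ^ 2 - (2 * m * x i - m + if i ∈ s then 4 else 0)) := by
    refine dvd_sum fun i _ => ?_
    have := h1 i
    have e : x i = 4 * (x i / 4) + x i % 4 := by omega
    generalize x i / 4 = q at e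
    rw [this] at e
    rw [e]
    rcases h0 with rfl | rfl <;> split_ifs
    · exact ⟨q ^ 2 + q, by ring⟩
    · exact ⟨q ^ 2, by ring⟩
    · exact ⟨q ^ 2 + q, by ring⟩
    · exact ⟨q ^ 2, by ring⟩
  rw [sum_sub_distrib, sum_add_distrib, sum_sub_distrib, ← mul_sum, sum_ind, sum_const,
    card_univ, card_pt] at a
  have := Cw_four hs
  unfold sqNorm
  rcases h0 with rfl | rfl <;> simp only [nsmul_eq_mul] at a <;> omega

theorem sq_nonneg' (x : V24) : 0 ≤ sqNorm x := sum_nonneg fun _ _ => sq_nonneg _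

theorem sq_le_sqNorm (x : V24) (i : GolayPt) : x i ^ 2 ≤ sqNorm x :=
  single_le_sum (f := fun i => x i ^ 2) (fun _ _ => sq_nonneg _) (mem_univ i)

theorem sqNorm_eq_zero {x : V24} (h : sqNorm x = 0) : x = 0 := by
  funext i
  have := sq_le_sqNorm x i
  rw [h] at this
  exact pow_eq_zero_iff (n := 2) (by norm_num) |>.mp (le_antisymm this (sq_nonneg _))

theorem abs_le_of_sqNorm {x : V24} (h : sqNorm x ≤ 80) (i : GolayPt) : -8 ≤ x i ∧ x i ≤ 8 := by
  have := sq_le_sqNorm x i
  constructor <;> nlinarith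

theorem dot_self (x : V24) : dotInt x x = sqNorm x := by simp [dotInt, sqNorm, sq]

theorem dot_comm (x y : V24) : dotInt x y = dotInt y x := by simp [dotInt, mul_comm]

theorem dot_add (x y z : V24) : dotInt x (y + z) = dotInt x y + dotInt x z := by
  simp [dotInt, mul_add, sum_add_distrib]

theorem add_dot (x y z : V24) : dotInt (x + y) z = dotInt x z + dotInt y z := by
  simp [dotInt, add_mul, sum_add_distrib]

theorem dot_neg (x y : V24) : dotInt x (-y) = -dotInt x y := by simp [dotInt]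

theorem neg_dot (x y : V24) : dotInt (-x) y = -dotInt x y := by simp [dotInt]

theorem dot_sub (x y z : V24) : dotInt x (y - z) = dotInt x y - dotInt x z := by
  simp [dotInt, mul_sub, sum_sub_distrib]

theorem sub_dot (x y z : V24) : dotInt (x - y) z = dotInt x z - dotInt y z := by
  simp [dotInt, sub_mul, sum_sub_distrib]

theorem dot_smul (k : ℤ) (x y : V24) : dotInt x (k • y) = k * dotInt x y := by
  simp only [dotInt, mul_sum, Pi.smul_apply, smul_eq_mul, mul_left_comm]

theorem smul_dot (k : ℤ) (x y : V24) : dotInt (k • x) y = k * dotInt x y := by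
  simp only [dotInt, mul_sum, Pi.smul_apply, smul_eq_mul, mul_assoc]

theorem sqNorm_add (x y : V24) : sqNorm (x + y) = sqNorm x + 2 * dotInt x y + sqNorm y := by
  simp only [← dot_self, dot_add, add_dot, dot_comm y x]; ring

theorem sqNorm_sub (x y : V24) : sqNorm (x - y) = sqNorm x - 2 * dotInt x y + sqNorm y := by
  simp only [← dot_self, dot_sub, sub_dot, dot_comm y x]; ring

theorem sqNorm_neg (x : V24) : sqNorm (-x) = sqNorm x := by simp [sqNorm]

theorem sqNorm_smul (k : ℤ) (x : V24) : sqNorm (k • x) = k ^ 2 * sqNorm x := by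
  simp only [sqNorm, mul_sum, Pi.smul_apply, smul_eq_mul, mul_pow]

theorem leech_dot {x y : V24} (hx : x ∈ leechLattice) (hy : y ∈ leechLattice) :
    (8 : ℤ) ∣ dotInt x y := by
  have a := leech_even hx
  have b := leech_even hy
  have c := leech_even (add_mem hx hy)
  rw [sqNorm_add] at c
  omega

/-! ### digits of generating functions -/

theorem get_sum {α : Type*} (S : Finset α) (e : α → ℕ) (b j K : ℕ) (h : S.card < 2 ^ b)
    (hj : j < K) :
    get b (2 ^ b - 1) ((∑ x ∈ S, 2 ^ (b * e x)) % 2 ^ (b * K)) j =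
      (S.filter fun x => e x = j).card := by
  classical
  have e0 : ∀ t, get b (2 ^ b - 1) t j = t / 2 ^ (b * j) % 2 ^ b := fun t => by
    show (t >>> (b * j)) &&& (2 ^ b - 1) = _
    rw [Nat.and_two_pow_sub_one_eq_mod, Nat.shiftRight_eq_div_pow]
  have e1 : ∀ t, t % 2 ^ (b * K) / 2 ^ (b * j) % 2 ^ b = t / 2 ^ (b * j) % 2 ^ b := fun t => by
    obtain ⟨d, rfl⟩ := Nat.exists_eq_add_of_lt hj
    rw [show b * (j + d + 1) = b * j + (b + b * d) by ring, pow_add, Nat.mod_mul_right_div_self,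
      pow_add, Nat.mod_mul_right_mod]
  rw [e0, e1]
  set lo := ∑ x ∈ S.filter (fun x => e x < j), 2 ^ (b * e x)
  set hi := ∑ x ∈ S.filter (fun x => j < e x), 2 ^ (b * (e x - j - 1))
  have hc : (S.filter fun x => e x = j).card < 2 ^ b := lt_of_le_of_lt (card_filter_le _ _) h
  have hs : ∑ x ∈ S, 2 ^ (b * e x) =
      lo + 2 ^ (b * j) * ((S.filter fun x => e x = j).card + 2 ^ b * hi) := by
    rw [← sum_filter_add_sum_filter_not S (fun x => e x < j),
      ← sum_filter_add_sum_filter_not (S.filter fun x => ¬ e x < j) (fun x => e x = j),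
      filter_filter, filter_filter, mul_add, ← mul_assoc, mul_sum]
    congr 2
    · rw [card_eq_sum_ones, mul_sum]
      refine sum_congr (filter_congr fun x _ => by omega) fun x hx => ?_
      rw [(mem_filter.mp hx).2, mul_one]
    · refine sum_congr (filter_congr fun x _ => by omega) fun x hx => ?_
      have := (mem_filter.mp hx).2
      rw [← pow_add, ← pow_add]
      congr 1
      obtain ⟨d, hd⟩ := Nat.exists_eq_add_of_lt this
      rw [hd, show j + d + 1 - j - 1 = d by omega]; ring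
  have hlo : lo < 2 ^ (b * j) := by
    rcases j with _ | j
    · simp [lo]
    · have : lo ≤ (S.filter (fun x => e x < j + 1)).card • 2 ^ (b * j) :=
        sum_le_card_nsmul _ _ _ fun x hx => Nat.pow_le_pow_right (by norm_num)
          (Nat.mul_le_mul_left _ (by have := (mem_filter.mp hx).2; omega))
      rw [smul_eq_mul] at this
      refine lt_of_le_of_lt this ?_
      rw [mul_add, mul_one, pow_add, mul_comm]
      exact Nat.mul_lt_mul_of_pos_left (lt_of_le_of_lt (card_filter_le _ _) h) (by positivity)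
  rw [hs, Nat.add_mul_div_left _ _ (by positivity), Nat.div_eq_of_lt hlo, zero_add,
    Nat.add_mul_mod_self_left, Nat.mod_eq_of_lt hc]

/-! ### counting lattice vectors -/

/-- the class of a coordinate -/
def cls (i : GolayPt) : ℕ := if i = dec 23 then 0 else if i = dec 0 then 1 else 2

def sqz (z : ℕ) : ℕ := Nat.pow ((z -ₙ 8) +ₙ (8 -ₙ z)) 2

theorem sqz_eq (z : ℕ) : (sqz z : ℤ) = ((z : ℤ) - 8) ^ 2 := by
  show (((z - 8 + (8 - z)) ^ 2 : ℕ) : ℤ) = _
  rcases le_total z 8 with h | h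
  · rw [Nat.sub_eq_zero_of_le h, zero_add]; push_cast [h]; ring
  · rw [Nat.sub_eq_zero_of_le h, add_zero]; push_cast [h]; ring

def phi (D : ℕ) (ψ : ℕ → ℕ → ℕ) (c z : ℕ) : ℕ := (sqz z /ₙ 4 *ₙ 25 +ₙ z %ₙ 8 /ₙ 4) *ₙ D +ₙ ψ c z

def okz (n r z : ℕ) : Bool := (sqz z ≤ₙ n) &&ₙ (z %ₙ 4 =ₙ r)

def th (n D : ℕ) (ψ : ℕ → ℕ → ℕ) (c r : ℕ) : ℕ :=
  sum1 (fun z => ite' (okz n r z) (Nat.pow 2 (56 *ₙ phi D ψ c z)) 0) 17

def Fk (n D : ℕ) (ψ : ℕ → ℕ → ℕ) (m k : ℕ) : ℕ :=
  th n D ψ 0 (m +ₙ 2 *ₙ (k %ₙ 2)) *ₙ th n D ψ 1 (m +ₙ 2 *ₙ (k /ₙ 2 %ₙ 2)) *ₙ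
    Nat.pow (th n D ψ 2 m) (22 -ₙ k /ₙ 4) *ₙ Nat.pow (th n D ψ 2 (m +ₙ 2)) (k /ₙ 4)

def cK (n n' D : ℕ) (ψ : ℕ → ℕ → ℕ) (ls : List ℕ) (m k : ℕ) : ℕ :=
  force (Fk n D ψ m k %ₙ Nat.pow 2 (56 *ₙ ((n' +ₙ 1) *ₙ 25 *ₙ D))) fun F =>
    sum1 (fun q => ite' (q %ₙ 2 =ₙ m)
      (List.rec 0 (fun l _ r => get 56 0xffffffffffffff F ((n' *ₙ 25 +ₙ q) *ₙ D +ₙ l) +ₙ r) ls) 0) 25

def keyc (c : ℕ) : ℕ := (c >>ₙ 23 &ₙ 1) +ₙ 2 *ₙ (c &ₙ 1) +ₙ 4 *ₙ pc24 (c &ₙ 0x7ffffe)

def hist : ℕ := 0x100000000000000000000000000000000000000000000000000000000000000000000000000000000000000000000000000000000004d000000b000b00000014a00000000000000000000000000000000000000000268000002a002a0000002680000000000000000000000000000000000000000014a000000b000b00000004d000000000000000000000000000000000000000000000000000000000000000000000000000000000000000000000000000000000001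

theorem hist_eq : sum (fun k => Nat.pow 2 (16 *ₙ force (cw k) keyc)) 4096 = hist := by
  decide +kernel

def cL (n D : ℕ) (ψ : ℕ → ℕ → ℕ) (ls : List ℕ) : ℕ :=
  sum1 (fun m => ite' (24 *ₙ m ≤ₙ n) (sum1 (fun j => force (get 16 0xffff hist j) fun a =>
    ite' (a =ₙ 0) 0 (a *ₙ cK n (n /ₙ 4 -ₙ 6 *ₙ m) D ψ ls m j)) 92) 0) 2

theorem keyc_lt (c : ℕ) : keyc c < 92 := by
  have a : c >>> 23 &&& 1 ≤ 1 := Nat.and_le_right
  have b : c &&& 1 ≤ 1 := Nat.and_le_right
  have d : pc24 (c &&& 0x7ffffe) ≤ 22 := by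
    rw [← card_toFs (and_lt' _ (by norm_num)), toFs_and]
    refine le_trans (card_le_card inter_subset_right) ?_
    rw [card_toFs (by norm_num)]
    decide +kernel
  simp only [keyc, n_add, n_mul, n_and, n_shr]
  omega

theorem sum_key (G : ℕ → ℕ) : ∑ k ∈ range 4096, G (keyc (cw k)) =
    ∑ j ∈ range 92, get 16 0xffff hist j * G j := by
  rw [← sum_fiberwise_of_maps_to (s := range 4096) (t := range 92) (g := fun k => keyc (cw k))
    (fun k _ => mem_range.mpr (keyc_lt _))]
  refine sum_congr rfl fun j hj => ?_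
  have := get_sum (range 4096) (fun k => keyc (cw k)) 16 j 92 (by simp) (mem_range.mp hj)
  have e : ∑ x ∈ range 4096, 2 ^ (16 * keyc (cw x)) = hist := by
    rw [← hist_eq, sum_eq]
    simp only [force_eq]; rfl
  rw [e, Nat.mod_eq_of_lt (by decide +kernel)] at this
  rw [show (0xffff : ℕ) = 2 ^ 16 - 1 by norm_num, this, card_eq_sum_ones, sum_mul, one_mul]
  exact sum_congr rfl fun k hk => by rw [(mem_filter.mp hk).2]

/-- allowed digits -/
def Tz (n r : ℕ) : Finset ℕ := (range 17).filter fun z => okz n r z = true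

theorem card_Tz (n r : ℕ) : (Tz n r).card ≤ 5 := by
  have : Tz n r ⊆ (range 17).filter fun z => z % 4 = r := fun z hz => by
    simp only [Tz, okz, mem_filter, band_eq, Bool.and_eq_true, n_beq, n_mod] at hz ⊢
    exact ⟨hz.1, hz.2.2⟩
  refine le_trans (card_le_card this) ?_
  by_cases h : r < 4
  · interval_cases r <;> decide
  · rw [filter_false_of_mem fun z _ => by omega]; simp

def Sz (n m : ℕ) (s : Finset GolayPt) : Finset (GolayPt → ℕ) :=
  Fintype.piFinset fun i => Tz n (m + if i ∈ s then 2 else 0)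

theorem th_eq (n D : ℕ) (ψ : ℕ → ℕ → ℕ) (c r : ℕ) :
    th n D ψ c r = ∑ z ∈ Tz n r, 2 ^ (56 * phi D ψ c z) := by
  rw [th, sum1_eq, Tz, sum_filter]
  exact sum_congr rfl fun z _ => by rw [ite'_eq]; rfl

theorem prod_cls (f : ℕ → Bool → ℕ) (c : ℕ) :
    ∏ i, f (cls i) (decide (i ∈ toFs c)) = f 0 (c.testBit 23) * f 1 (c.testBit 0) *
      f 2 false ^ (22 - pc24 (c &&& 0x7ffffe)) * f 2 true ^ pc24 (c &&& 0x7ffffe) := by
  have h1 : (univ : Finset GolayPt) = insert (dec 23) (insert (dec 0) (toFs 0x7ffffe)) := by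
    decide +kernel
  have h2 : ∀ i ∈ toFs 0x7ffffe, cls i = 2 := by decide +kernel
  have h3 : (toFs 0x7ffffe).card = 22 := by decide +kernel
  rw [h1, prod_insert (by decide +kernel), prod_insert (by decide +kernel),
    prod_congr rfl fun i hi => by rw [h2 i hi], ← mul_assoc, mul_assoc (_ * _),
    ← prod_filter_mul_prod_filter_not (toFs 0x7ffffe) (fun i => i ∉ toFs c),
    prod_congr rfl (g := fun _ => f 2 false) (fun i hi => by simp [(mem_filter.mp hi).2]),
    prod_congr (s₁ := filter (fun i => ¬ i ∉ toFs c) _) rfl (g := fun _ => f 2 true)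
      (fun i hi => by have := (mem_filter.mp hi).2; simp [not_not.mp this]),
    prod_const, prod_const]
  have h4 : (filter (fun i => ¬ i ∉ toFs c) (toFs 0x7ffffe)).card = pc24 (c &&& 0x7ffffe) := by
    rw [← card_toFs (and_lt' _ (by norm_num)), toFs_and]
    congr 1; ext i; simp [and_comm]
  have h5 := card_filter_add_card_filter_not (s := toFs 0x7ffffe) (fun i => i ∉ toFs c)
  rw [h4, h3] at h5
  rw [h4, Nat.eq_sub_of_add_eq h5]
  have a : cls (dec 23) = 0 := by decide
  have b : cls (dec 0) = 1 := by decide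
  simp only [a, b, dec_mem_toFs (show 23 < 24 by norm_num), dec_mem_toFs (show 0 < 24 by norm_num),
    Bool.decide_eq_true]

theorem Fk_eq (n D : ℕ) (ψ : ℕ → ℕ → ℕ) (m c : ℕ) :
    Fk n D ψ m (keyc c) = ∑ z ∈ Sz n m (toFs c), 2 ^ (56 * ∑ i, phi D ψ (cls i) (z i)) := by
  have := prod_univ_sum (fun i => Tz n (m + if i ∈ toFs c then 2 else 0))
    (fun i z => 2 ^ (56 * phi D ψ (cls i) z))
  simp only [prod_pow_eq_pow_sum, ← mul_sum, ← th_eq] at this
  rw [Sz, ← this]
  have e := prod_cls (fun k b => th n D ψ k (m + if b = true then 2 else 0)) c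
  simp only [decide_eq_true_eq] at e
  rw [e]
  have a : c >>> 23 &&& 1 = if c.testBit 23 then 1 else 0 := by
    have := bit_mul c 23 1; simpa using this
  have b : c &&& 1 = if c.testBit 0 then 1 else 0 := by
    have := bit_mul c 0 1; simpa using this
  have k1 : 2 * (keyc c % 2) = if c.testBit 23 = true then 2 else 0 := by
    simp only [keyc, n_add, n_mul, n_and, n_shr, a, b]; split_ifs <;> omega
  have k2 : 2 * (keyc c / 2 % 2) = if c.testBit 0 = true then 2 else 0 := by
    simp only [keyc, n_add, n_mul, n_and, n_shr, a, b]; split_ifs <;> omega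
  have k3 : keyc c / 4 = pc24 (c &&& 0x7ffffe) := by
    simp only [keyc, n_add, n_mul, n_and, n_shr, a, b]; split_ifs <;> omega
  simp only [Fk, n_add, n_mul, n_mod, n_div, n_sub, k1, k2, k3, Nat.pow_eq]
  simp

/-- the condition picked out by the digits -/
def Cz (n : ℕ) (ψ : ℕ → ℕ → ℕ) (ls : List ℕ) (m : ℕ) (z : GolayPt → ℕ) : Prop :=
  ∑ i, sqz (z i) / 4 = n ∧ (∑ i, z i % 8 / 4) % 2 = m ∧ ∑ i, ψ (cls i) (z i) ∈ ls

instance (n : ℕ) (ψ : ℕ → ℕ → ℕ) (ls : List ℕ) (m : ℕ) : DecidablePred (Cz n ψ ls m) :=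
  fun _ => by unfold Cz; infer_instance

theorem radix {a b c d D : ℕ} (hb : b < D) (hd : d < D) (h : a * D + b = c * D + d) :
    a = c ∧ b = d := by
  have h1 := congrArg (· / D) h
  have h2 := congrArg (· % D) h
  have hD : 0 < D := by omega
  simp only [mul_comm _ D, Nat.mul_add_div hD, Nat.div_eq_of_lt hb, Nat.div_eq_of_lt hd,
    Nat.mul_add_mod, Nat.mod_eq_of_lt hb, Nat.mod_eq_of_lt hd] at h1 h2
  exact ⟨h1, h2⟩

theorem cK_eq {n n' D : ℕ} {ψ : ℕ → ℕ → ℕ} {ls : List ℕ} (hn : ls.Nodup) (hl : ∀ l ∈ ls, l < D)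
    (m c : ℕ) (hψ : ∀ z ∈ Sz n m (toFs c), ∑ i, ψ (cls i) (z i) < D) :
    cK n n' D ψ ls m (keyc c) = ((Sz n m (toFs c)).filter (Cz n' ψ ls m)).card := by
  have hq : ∀ z : GolayPt → ℕ, ∑ i, z i % 8 / 4 < 25 := fun z => by
    have := sum_le_card_nsmul univ (fun i => z i % 8 / 4) 1 fun i _ => by omega
    rw [card_univ, card_pt, smul_eq_mul] at this
    omega
  have hS : (Sz n m (toFs c)).card < 2 ^ 56 := by
    rw [Sz, Fintype.card_piFinset]
    refine lt_of_le_of_lt (prod_le_pow_card _ _ 5 fun i _ => card_Tz _ _) ?_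
    rw [card_univ, card_pt]; norm_num
  have he : ∀ z : GolayPt → ℕ, ∑ i, phi D ψ (cls i) (z i) =
      ((∑ i, sqz (z i) / 4) * 25 + ∑ i, z i % 8 / 4) * D + ∑ i, ψ (cls i) (z i) := fun z => by
    simp only [phi, n_add, n_mul, n_mod, n_div, sum_add_distrib, ← sum_mul]
  rw [cK, force_eq, sum1_eq, Fk_eq]
  rw [card_eq_sum_card_fiberwise (f := fun z => ∑ i, z i % 8 / 4) (t := range 25)
    (fun z _ => by simpa using hq z)]
  refine sum_congr rfl fun q hq' => ?_
  rw [ite'_eq, filter_filter]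
  simp only [n_beq, n_mod]
  split_ifs with hm
  · have : ∀ L : List ℕ, L.Nodup → (∀ l ∈ L, l < D) →
        (List.rec 0 (fun l _ r => get 56 0xffffffffffffff ((∑ z ∈ Sz n m (toFs c),
          2 ^ (56 * ∑ i, phi D ψ (cls i) (z i))) % Nat.pow 2 (56 *ₙ ((n' +ₙ 1) *ₙ 25 *ₙ D)))
          ((n' *ₙ 25 +ₙ q) *ₙ D +ₙ l) +ₙ r) L : ℕ) =
        ((Sz n m (toFs c)).filter fun z => Cz n' ψ L m z ∧ ∑ i, z i % 8 / 4 = q).card := by
      intro L hL hD
      induction L with
      | nil => simp [Cz]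
      | cons l L ih =>
        have h1 := hD l List.mem_cons_self
        have h2 := mem_range.mp hq'
        rw [List.nodup_cons] at hL
        show get _ _ _ _ + _ = _
        rw [ih hL.2 fun l hl => hD l (List.mem_cons_of_mem _ hl)]
        have := get_sum (Sz n m (toFs c)) (fun z => ∑ i, phi D ψ (cls i) (z i)) 56
          ((n' * 25 + q) * D + l) ((n' + 1) * 25 * D) hS (by nlinarith)
        simp only [n_add, n_mul, Nat.pow_eq]
        rw [show (0xffffffffffffff : ℕ) = 2 ^ 56 - 1 by norm_num, this,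
          ← card_union_of_disjoint, ← filter_or]
        · refine congrArg _ (filter_congr fun z hz => ?_)
          rw [he]
          simp only [Cz, List.mem_cons]
          constructor
          · rintro (h | h)
            · obtain ⟨a, b⟩ := radix (hψ z hz) h1 h
              obtain ⟨a1, a2⟩ := radix (hq z) h2 a
              exact ⟨⟨a1, a2 ▸ hm, Or.inl b⟩, a2⟩
            · exact ⟨⟨h.1.1, h.1.2.1, Or.inr h.1.2.2⟩, h.2⟩
          · rintro ⟨⟨a, b, d | d⟩, e⟩
            · exact Or.inl (by rw [a, d, e])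
            · exact Or.inr ⟨⟨a, b, d⟩, e⟩
        · rw [disjoint_filter]
          rintro z hz h h'
          rw [he] at h
          exact hL.1 ((radix (hψ z hz) h1 h).2 ▸ h'.1.2.2)
    exact this ls hn hl
  · rw [filter_false_of_mem, card_empty]
    rintro z - ⟨h1, h2⟩
    exact hm (h2 ▸ h1.2.1)

theorem mem_Sz {n m : ℕ} {s : Finset GolayPt} {z : GolayPt → ℕ} : z ∈ Sz n m s ↔
    ∀ i, z i < 17 ∧ sqz (z i) ≤ n ∧ z i % 4 = m + if i ∈ s then 2 else 0 := by
  simp [Sz, Tz, okz]

theorem sum_mod8 {x : V24} {m : ℤ} {s : Finset GolayPt} (hs : s ∈ Cw)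
    (h : ∀ i, x i % 4 = m + if i ∈ s then 2 else 0) :
    (∑ i, x i) % 8 = 4 * ((∑ i, x i % 8 / 4) % 2) := by
  have : ∑ i, x i = ∑ i, (8 * (x i / 8) + 4 * (x i % 8 / 4) + (m + if i ∈ s then 2 else 0)) :=
    sum_congr rfl fun i _ => by rw [← h i]; omega
  rw [sum_add_distrib, sum_add_distrib, sum_add_distrib, ← mul_sum, ← mul_sum, sum_ind,
    sum_const, card_univ, card_pt, nsmul_eq_mul] at this
  have := Cw_four hs
  push_cast at *
  omega

theorem sum_sqz {n m : ℕ} {s : Finset GolayPt} {z : GolayPt → ℕ} (hm : m < 2) (hz : z ∈ Sz n m s) :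
    ∑ i, sqz (z i) = 4 * ∑ i, sqz (z i) / 4 + 24 * m := by
  have a : ∀ z < 17, sqz z % 4 = z % 2 := by decide
  rw [mul_sum, show 24 * m = ∑ i : GolayPt, m by rw [sum_const, card_univ, card_pt, smul_eq_mul],
    ← sum_add_distrib]
  refine sum_congr rfl fun i _ => ?_
  obtain ⟨b, -, c⟩ := mem_Sz.mp hz i
  have := a _ b
  split_ifs at c <;> omega

/-- the statistic of a vector -/
def stat (ψ : ℕ → ℕ → ℕ) (x : V24) : ℕ := ∑ i, ψ (cls i) (x i + 8).toNat

theorem finite_norm (n : ℤ) : {x : V24 | sqNorm x = n}.Finite := by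
  refine (Set.Finite.pi' (fun _ : GolayPt => Set.finite_Icc (-n) n)).subset fun x hx i => ?_
  have := sq_le_sqNorm x i
  rw [show sqNorm x = n from hx] at this
  constructor <;> nlinarith [sq_nonneg (x i - 1), sq_nonneg (x i + 1), sq_nonneg (x i)]

theorem ncard_leech (n D : ℕ) (ψ : ℕ → ℕ → ℕ) (ls : List ℕ) (M : ℕ → ℕ) (hn : n ≤ 80 ∧ n % 4 = 0)
    (h : ls.Nodup ∧ (∀ l ∈ ls, l < D) ∧ (∀ c < 3, ∀ z < 17, sqz z ≤ n → ψ c z ≤ M c) ∧
      M 0 + M 1 + 22 * M 2 < D) :
    {x : V24 | x ∈ leechLattice ∧ sqNorm x = n ∧ stat ψ x ∈ ls}.ncard = cL n D ψ ls := by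
  obtain ⟨h1, h2, h3, h4⟩ := h
  have hψ : ∀ m s, ∀ z ∈ Sz n m s, ∑ i, ψ (cls i) (z i) < D := fun m s z hz => by
    refine lt_of_le_of_lt (sum_le_sum (g := fun i => M (cls i)) fun i _ =>
      h3 _ (by unfold cls; split_ifs <;> norm_num) _ (mem_Sz.mp hz i).1 (mem_Sz.mp hz i).2.1) ?_
    have := prod_cls (fun k _ => 2 ^ M k) 0
    rw [prod_pow_eq_pow_sum, show pc24 (0 &&& 0x7ffffe) = 0 by decide +kernel, pow_zero, mul_one,
      ← pow_mul, ← pow_add, ← pow_add] at this
    rw [Nat.pow_right_injective (le_refl 2) this]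
    omega
  let A := (range 2 ×ˢ range 4096).sigma fun p =>
    (Sz n p.1 (toFs (cw p.2))).filter fun z => 24 * p.1 ≤ n ∧ Cz (n / 4 - 6 * p.1) ψ ls p.1 z
  have hA : A.card = cL n D ψ ls := by
    rw [card_sigma, sum_product, cL, sum1_eq]
    refine sum_congr rfl fun m _ => ?_
    rw [ite'_eq]
    simp only [n_ble, n_mul]
    split_ifs with h0
    · simp only [h0, true_and]
      rw [sum1_eq, sum_congr rfl fun k _ => (cK_eq h1 h2 m (cw k) (hψ _ _)).symm, sum_key]
      refine sum_congr rfl fun j _ => ?_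
      rw [force_eq, ite'_eq]
      simp only [n_beq]
      split_ifs with h
      · rw [h, zero_mul]
      · rfl
    · simp [h0]
  rw [← hA, ← Set.ncard_coe_finset]
  symm
  refine Set.ncard_congr (fun a _ => fun i => (a.2 i : ℤ) - 8) ?_ ?_ ?_
  · rintro ⟨⟨m, k⟩, z⟩ ha
    simp only [A, coe_sigma, Set.mem_sigma_iff, mem_coe, mem_product, mem_range, mem_filter,
      mem_Sz] at ha
    obtain ⟨⟨a1, a2⟩, a3, a0, a4, a5, a6⟩ := ha
    have hs : toFs (cw k) ∈ Cw := mem_Cw_iff'.mpr ⟨k, a2, rfl⟩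
    have b : ∀ i, ((z i : ℤ) - 8) % 4 = m + if i ∈ toFs (cw k) then 2 else 0 := fun i => by
      have := (a3 i).2.2
      split_ifs at this ⊢ <;> omega
    refine ⟨Lx.mem (m := m) ⟨by omega, hs, b, ?_⟩, ?_, ?_⟩
    · rw [sum_mod8 hs b, sum_congr rfl (g := fun i => ((z i % 8 / 4 : ℕ) : ℤ)) fun i _ => by omega,
        ← Nat.cast_sum]
      omega
    · have := sum_sqz a1 (mem_Sz.mpr a3)
      rw [show n = ∑ i, sqz (z i) by omega]; push_cast; simp only [sqz_eq]; rfl
    · simpa [stat] using a6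
  · rintro ⟨⟨m, k⟩, z⟩ ⟨⟨m', k'⟩, z'⟩ ha ha' e
    simp only [A, coe_sigma, Set.mem_sigma_iff, mem_coe, mem_product, mem_range, mem_filter,
      mem_Sz] at ha ha'
    have e1 : z = z' := funext fun i => by have := congrFun e i; simp only at this; omega
    subst e1
    have e2 : m = m' := by
      have a := (ha.2.1 none).2.2
      have b := (ha'.2.1 none).2.2
      have := ha.1.1
      have := ha'.1.1
      split_ifs at a b <;> omega
    subst e2
    have e3 : toFs (cw k) = toFs (cw k') := by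
      ext i
      have a := (ha.2.1 i).2.2
      have b := (ha'.2.1 i).2.2
      split_ifs at a b with p q q <;> simp only [p, q] <;> omega
    rw [cw_inj ha.1.2 ha'.1.2 (toFs_inj (cw_lt _) (cw_lt _) e3)]
  · rintro x ⟨hx, hx2, hx3⟩
    obtain ⟨m, s, h0, hs, a1, a2⟩ := mem_leech.mp hx
    obtain ⟨k, hk, rfl⟩ := mem_Cw_iff'.mp hs
    have hb := abs_le_of_sqNorm (x := x) (by omega)
    have e : ∀ i, (((x i + 8).toNat : ℕ) : ℤ) - 8 = x i := fun i => by have := hb i; omega
    refine ⟨⟨⟨m.toNat, k⟩, fun i => (x i + 8).toNat⟩, ?_, funext e⟩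
    simp only [A, coe_sigma, Set.mem_sigma_iff, mem_coe, mem_product, mem_range, mem_filter,
      mem_Sz]
    have a3 : ∀ i, (x i + 8).toNat < 17 ∧ sqz (x i + 8).toNat ≤ n ∧ (x i + 8).toNat % 4 =
        m.toNat + if i ∈ toFs (cw k) then 2 else 0 := fun i => by
      refine ⟨by have := hb i; omega, ?_, ?_⟩
      · have := sq_le_sqNorm x i
        zify
        rw [sqz_eq, e, ← hx2]; exact this
      · have := a1 i
        have := hb i
        split_ifs at * <;> omega
    have a4 : ∑ i, sqz (x i + 8).toNat = n := by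
      zify
      simp only [sqz_eq, e]; exact hx2
    have a5 := sum_sqz (z := fun i => (x i + 8).toNat) (by omega) (mem_Sz.mpr a3)
    refine ⟨⟨by omega, hk⟩, a3, by omega, by simp only at a5 ⊢; omega, ?_, hx3⟩
    · rw [sum_mod8 hs a1] at a2
      zify
      rw [sum_congr rfl (g := fun i => x i % 8 / 4) fun i _ => by have := hb i; omega]
      omega

theorem ncard_norm (n : ℕ) (hn : n ≤ 80 ∧ n % 4 = 0) :
    {x : V24 | x ∈ leechLattice ∧ sqNorm x = n}.ncard = cL n 1 (fun _ _ => 0) [0] := by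
  rw [← ncard_leech n 1 (fun _ _ => 0) [0] (fun _ => 0) hn (by simp)]
  simp [stat]

theorem ncard16 : {x : V24 | x ∈ leechLattice ∧ sqNorm x = 16}.ncard = 0 :=
  (ncard_norm 16 (by norm_num)).trans (by decide +kernel)
theorem ncard32 : {x : V24 | x ∈ leechLattice ∧ sqNorm x = 32}.ncard = 196560 :=
  (ncard_norm 32 (by norm_num)).trans (by decide +kernel)
theorem ncard48 : {x : V24 | x ∈ leechLattice ∧ sqNorm x = 48}.ncard = 16773120 :=
  (ncard_norm 48 (by norm_num)).trans (by decide +kernel)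
theorem ncard64 : {x : V24 | x ∈ leechLattice ∧ sqNorm x = 64}.ncard = 398034000 :=
  (ncard_norm 64 (by norm_num)).trans (by decide +kernel)

theorem leech_min {x : V24} (hx : x ∈ leechLattice) (h0 : x ≠ 0) : 32 ≤ sqNorm x := by
  have a := leech_even hx
  have b := sq_nonneg' x
  have c : sqNorm x ≠ 0 := fun h => h0 (sqNorm_eq_zero h)
  have d : sqNorm x ≠ 16 := fun h => by
    have := (Set.ncard_eq_zero ((finite_norm 16).subset fun y hy => hy.2)).mp ncard16
    exact Set.eq_empty_iff_forall_notMem.mp this x ⟨hx, h⟩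
  omega

end

end CfsgH7
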