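import Cfsg.Agent.H7.Le1
import Cfsg.Agent.H7.M24c

set_option autoImplicit false
set_option maxRecDepth 100000
set_option Elab.async false

/-! Automorphisms of the Leech lattice: matrices, monomial maps, the standard cross. -/

namespace CfsgH7

open Cfsg Finset MulAction
open scoped symmDiff Pointwise

noncomputable section

abbrev LL := ↥leechLattice

instance co0Distrib : DistribMulAction Co0 LL :=
  { (inferInstance : MulAction Co0 LL) with
    smul_add := fun g v w => g.2.1 v w
    smul_zero := fun g => by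
      have : g • ((0 : LL) + 0) = g • (0 : LL) + g • (0 : LL) := g.2.1 0 0
      rw [add_zero] at this
      exact left_eq_add.mp this }

theorem co_norm (g : Co0) (v : LL) : sqNorm ((g • v : LL) : V24) = sqNorm (v : V24) := g.2.2 v

theorem co_dot (g : Co0) (v w : LL) :
    dotInt ((g • v : LL) : V24) ((g • w : LL) : V24) = dotInt (v : V24) (w : V24) := by
  have a := co_norm g (v + w)
  rw [smul_add] at a
  simp only [AddSubgroup.coe_add, sqNorm_add, co_norm] at a
  omega

theorem co_zsmul (g : Co0) (k : ℤ) (v : LL) : g • k • v = k • g • v :=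
  map_zsmul (DistribSMul.toAddMonoidHom LL g) k v

theorem co_ext {g h : Co0} (e : ∀ v : LL, g • v = h • v) : g = h :=
  Subtype.ext (Equiv.ext e)

theorem Lx.of_all {x : V24} (h : ∀ i, x i % 4 = 0) (h' : (∑ i, x i) % 8 = 0) : Lx x 0 ∅ :=
  ⟨Or.inl rfl, Cw_empty, by simpa using h, by simpa using h'⟩

theorem single_mem (i : GolayPt) : (Pi.single i 8 : V24) ∈ leechLattice :=
  (Lx.of_all (fun j => by rw [Pi.single_apply]; split_ifs <;> rfl) (by simp)).mem

theorem four_mem (i j : GolayPt) {a b : ℤ} (ha : a % 8 = 4) (hb : b % 8 = 4) :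
    (Pi.single i a + Pi.single j b : V24) ∈ leechLattice :=
  (Lx.of_all (fun k => by
    simp only [Pi.add_apply, Pi.single_apply]; split_ifs <;> omega) (by
    simp only [Pi.add_apply, sum_add_distrib, Finset.sum_pi_single', mem_univ, if_true]
    omega)).mem

/-- twice the indicator of a set -/
def two (s : Finset GolayPt) : V24 := fun i => if i ∈ s then 2 else 0

theorem Lx_two {s : Finset GolayPt} (hs : s ∈ Cw) : Lx (two s) 0 s :=
  ⟨Or.inl rfl, hs, fun i => by unfold two; split_ifs <;> rfl, by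
    unfold two; rw [sum_ind]; have := Cw_four hs; omega⟩

theorem sqNorm_two (s : Finset GolayPt) : sqNorm (two s) = 4 * s.card := by
  rw [← sum_ind]
  exact sum_congr rfl fun i _ => by unfold two; split_ifs <;> rfl

/-- the vector `(-3, 1^23)` -/
def w3 : V24 := fun i => if i = none then -3 else 1

theorem Lx_w3 : Lx w3 1 ∅ := ⟨Or.inr rfl, Cw_empty, by decide, by decide⟩

theorem sum_single_mul (x : V24) (k : ℤ) : ∑ i, x i • (Pi.single i k : V24) = k • x := by
  funext j
  simp only [Finset.sum_apply, Pi.smul_apply, Pi.single_apply, smul_eq_mul, mul_ite, mul_zero]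
  rw [Finset.sum_ite_eq]; simp [mul_comm]

theorem leech_ind {A : AddSubgroup V24} (h1 : w3 ∈ A) (h2 : ∀ j < 12, two (toFs (row j)) ∈ A)
    (h3 : ∀ i, (Pi.single i 4 + Pi.single none (-4) : V24) ∈ A)
    (h4 : (Pi.single none 8 : V24) ∈ A) : leechLattice ≤ A := by
  have a0 : ∀ x : V24, Lx x 0 ∅ → x ∈ A := fun x hx => by
    obtain ⟨-, -, a, b⟩ := hx
    simp only [notMem_empty, if_false, add_zero, mul_zero] at a b
    have e : x = ∑ i, (x i / 4) • (Pi.single i 4 + Pi.single none (-4) : V24) +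
        ((∑ i, x i) / 8) • (Pi.single none 8 : V24) := by
      simp only [smul_add, sum_add_distrib, sum_single_mul, ← sum_smul]
      have : ∑ i, x i = 4 * ∑ i, x i / 4 := by
        rw [mul_sum]; exact sum_congr rfl fun i _ => by have := a i; omega
      funext j
      have := a j
      simp only [Pi.add_apply, Pi.smul_apply, Pi.single_apply, smul_eq_mul]
      split_ifs <;> omega
    rw [e]
    exact add_mem (sum_mem fun i _ => A.zsmul_mem (h3 i) _) (A.zsmul_mem h4 _)
  have a1 : ∀ k < 4096, ∃ y ∈ A, Lx y 0 (toFs (cw k)) := fun k hk => by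
    rw [cw_eq_lin hk]
    refine lin_induction row (fun c => ∃ y ∈ A, Lx y 0 (toFs c)) ⟨0, A.zero_mem, ?_⟩ ?_ 12 ?_ k
    · rw [toFs_zero]; exact Lx.of_all (by simp) (by simp)
    · rintro a b ⟨y, hy, -, y1, y2, y3⟩ ⟨z, hz, -, z1, z2, z3⟩
      refine ⟨y + z, add_mem hy hz, Or.inl rfl, toFs_xor a b ▸ Cw_symmDiff y1 z1, fun i => ?_, ?_⟩
      · have p := y2 i
        have q := z2 i
        simp only [Pi.add_apply, toFs_xor, mem_symmDiff]
        by_cases u : i ∈ toFs a <;> by_cases v : i ∈ toFs b <;> simp only [u, v] at p q ⊢ <;>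
          simp at p q ⊢ <;> omega
      · simp only [Pi.add_apply, sum_add_distrib]; omega
    · intro j hj
      refine ⟨_, h2 j hj, Lx_two (mem_Cw_iff.mpr ⟨_, ?_, rfl⟩)⟩
      revert j; decide +kernel
  have a2 : ∀ x s, Lx x 0 s → x ∈ A := fun x s hx => by
    obtain ⟨k, hk, rfl⟩ := mem_Cw_iff'.mp hx.2.1
    obtain ⟨y, hy, hy'⟩ := a1 k hk
    have : x - y ∈ A := a0 _ (Lx.of_all (fun i => by
      have := hx.2.2.1 i
      have := hy'.2.2.1 i
      simp only [Pi.sub_apply]; omega) (by
      have := hx.2.2.2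
      have := hy'.2.2.2
      simp only [Pi.sub_apply, sum_sub_distrib]; omega))
    simpa using add_mem this hy
  intro x hx
  obtain ⟨m, s, h⟩ := mem_leech.mp hx
  rcases h.1 with rfl | rfl
  · exact a2 x s h
  · have : x - w3 ∈ A := a2 _ s ⟨Or.inl rfl, h.2.1, fun i => by
      have := h.2.2.1 i
      have := Lx_w3.2.2.1 i
      simp only [Pi.sub_apply, notMem_empty, if_false] at *; omega, by
      have := h.2.2.2
      have := Lx_w3.2.2.2
      simp only [Pi.sub_apply, sum_sub_distrib]; omega⟩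
    simpa using add_mem this h1

theorem sqNorm_single (i : GolayPt) (a : ℤ) : sqNorm (Pi.single i a : V24) = a ^ 2 := by
  simp only [sqNorm, Pi.single_apply, ite_pow, ne_eq, OfNat.ofNat_ne_zero, not_false_eq_true,
    zero_pow, Finset.sum_ite_eq', mem_univ, if_true]

theorem dot_single (i : GolayPt) (a : ℤ) (x : V24) : dotInt (Pi.single i a) x = a * x i := by
  simp only [dotInt, Pi.single_apply, ite_mul, zero_mul, Finset.sum_ite_eq', mem_univ, if_true]

theorem sqNorm_pair {i j : GolayPt} (h : i ≠ j) (a b : ℤ) :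
    sqNorm (Pi.single i a + Pi.single j b : V24) = a ^ 2 + b ^ 2 := by
  rw [sqNorm_add, sqNorm_single, sqNorm_single, dot_single, Pi.single_eq_of_ne h]; ring

theorem closure_min :
    AddSubgroup.closure {x : V24 | x ∈ leechLattice ∧ sqNorm x = 32} = leechLattice := by
  refine le_antisymm ((AddSubgroup.closure_le _).mpr fun x hx => hx.1) ?_
  have a : ∀ i j : GolayPt, i ≠ j → ∀ a b : ℤ, (a = 4 ∨ a = -4) → (b = 4 ∨ b = -4) →
      (Pi.single i a + Pi.single j b : V24) ∈
        AddSubgroup.closure {x : V24 | x ∈ leechLattice ∧ sqNorm x = 32} :=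
    fun i j h a b ha hb => AddSubgroup.subset_closure ⟨four_mem i j (by omega) (by omega), by
      rw [sqNorm_pair h]; rcases ha with rfl | rfl <;> rcases hb with rfl | rfl <;> rfl⟩
  refine leech_ind (AddSubgroup.subset_closure ⟨Lx_w3.mem, by decide⟩) (fun j hj => ?_)
    (fun i => ?_) ?_
  · have : isOct (row j) = true := by revert j; decide +kernel
    have h := mem_octads.mp (oct_of this)
    exact AddSubgroup.subset_closure ⟨(Lx_two h.1).mem, by rw [sqNorm_two, h.2]; rfl⟩
  · by_cases h : i = none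
    · rw [h, ← Pi.single_add]; simp
    · exact a _ _ h _ _ (Or.inl rfl) (Or.inr rfl)
  · convert add_mem (a none (some 0) (by simp) 4 4 (Or.inl rfl) (Or.inl rfl))
      (a none (some 0) (by simp) 4 (-4) (Or.inl rfl) (Or.inr rfl)) using 1
    decide

/-- the minimal vectors -/
def Mn : Set LL := {v | sqNorm (v : V24) = 32}

theorem ncard_LL (P : V24 → Prop) :
    {v : LL | P v}.ncard = {x : V24 | x ∈ leechLattice ∧ P x}.ncard := by
  rw [← Set.ncard_image_of_injective _ Subtype.val_injective]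
  congr 1
  ext x
  simp [and_comm]

theorem finite_LL (n : ℤ) : {v : LL | sqNorm (v : V24) = n}.Finite :=
  (finite_norm n).preimage Subtype.val_injective.injOn

theorem finite_LL' {n : ℤ} {P : LL → Prop} : {v : LL | sqNorm (v : V24) = n ∧ P v}.Finite :=
  (finite_LL n).subset fun _ h => h.1

theorem LL_ind {P : LL → Prop} (h1 : ∀ v ∈ Mn, P v) (h0 : P 0) (ha : ∀ v w, P v → P w → P (v + w))
    (hn : ∀ v, P v → P (-v)) (v : LL) : P v := by
  obtain ⟨x, hx⟩ := v
  have hx' := hx
  rw [← closure_min] at hx'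
  induction hx' using AddSubgroup.closure_induction with
  | mem x h => exact h1 _ h.2
  | zero => exact h0
  | add x y a b p q => exact ha _ _ (p (closure_min ▸ a)) (q (closure_min ▸ b))
  | neg x a p => exact hn _ (p (closure_min ▸ a))

theorem exists_co0 (f : LL → LL) (ha : ∀ v w, f (v + w) = f v + f w)
    (hn : ∀ v, sqNorm (f v : V24) = sqNorm (v : V24)) : ∃ g : Co0, ∀ v, g • v = f v := by
  let φ : LL →+ LL := AddMonoidHom.mk' f ha
  have hi : Function.Injective f := (injective_iff_map_eq_zero φ).mpr fun v hv => by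
    have := hn v
    rw [show f v = 0 from hv] at this
    exact Subtype.ext (sqNorm_eq_zero (by rw [← this]; simp [sqNorm]))
  have hm : Set.BijOn f Mn Mn :=
    ((finite_LL 32).injOn_iff_bijOn_of_mapsTo (fun v hv => (hn v).trans hv)).mp hi.injOn
  have hs : Function.Surjective f := LL_ind (P := fun v => ∃ u, f u = v)
    (fun v hv => (hm.surjOn hv).imp fun _ h => h.2) ⟨0, φ.map_zero⟩
    (fun _ _ ⟨u, hu⟩ ⟨u', hu'⟩ => ⟨u + u', by rw [ha, hu, hu']⟩)
    (fun _ ⟨u, hu⟩ => ⟨-u, by rw [← hu]; exact φ.map_neg u⟩)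
  exact ⟨⟨Equiv.ofBijective f ⟨hi, hs⟩, ha, hn⟩, fun _ => rfl⟩

/-! ### matrices -/

/-- the matrix with columns `Y` applied to `x` -/
def mvY (Y : GolayPt → V24) (x : V24) : V24 := ∑ j, x j • Y j

theorem mvY_add (Y : GolayPt → V24) (x y : V24) : mvY Y (x + y) = mvY Y x + mvY Y y := by
  simp only [mvY, Pi.add_apply, add_smul, sum_add_distrib]

theorem mvY_neg (Y : GolayPt → V24) (x : V24) : mvY Y (-x) = -mvY Y x := by
  simp only [mvY, Pi.neg_apply, neg_smul, sum_neg_distrib]

theorem mvY_dot (Y : GolayPt → V24) (x y : V24) :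
    dotInt (mvY Y x) y = ∑ j, x j * dotInt (Y j) y := by
  simp only [mvY, dotInt, Finset.sum_apply, Pi.smul_apply, smul_eq_mul, sum_mul, mul_sum, mul_assoc]
  rw [sum_comm]

theorem mvY_norm {Y : GolayPt → V24} (h : ∀ i j, dotInt (Y i) (Y j) = if i = j then 64 else 0)
    (x : V24) : sqNorm (mvY Y x) = 64 * sqNorm x := by
  rw [← dot_self, mvY_dot, sqNorm, mul_sum]
  refine sum_congr rfl fun j _ => ?_
  rw [dot_comm, mvY_dot]
  simp only [h, mul_ite, mul_zero, Finset.sum_ite_eq', mem_univ, if_true]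
  ring

theorem mvY_eq {Y : GolayPt → V24} (h : ∀ i j, dotInt (Y i) (Y j) = if i = j then 64 else 0)
    {x y : V24} (h1 : ∀ j, dotInt (Y j) y = 8 * x j) (h2 : sqNorm y = sqNorm x) :
    mvY Y x = (8 : ℤ) • y := by
  rw [← sub_eq_zero]
  apply sqNorm_eq_zero
  rw [sqNorm_sub, mvY_norm h, sqNorm_smul, dot_smul, mvY_dot, h2,
    sum_congr rfl (g := fun j => 8 * x j ^ 2) fun j _ => by rw [h1]; ring, ← mul_sum]
  unfold sqNorm; ring

theorem eight_inj {x y : V24} (h : (8 : ℤ) • x = (8 : ℤ) • y) : x = y :=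
  smul_right_injective _ (by norm_num) h

theorem exists_co0_mat {Y : GolayPt → V24}
    (h : ∀ i j, dotInt (Y i) (Y j) = if i = j then 64 else 0)
    (h' : ∀ x ∈ leechLattice, ∃ y ∈ leechLattice, mvY Y x = (8 : ℤ) • y) :
    ∃ g : Co0, ∀ v : LL, (8 : ℤ) • ((g • v : LL) : V24) = mvY Y v := by
  choose f hf using fun v : LL => h' v v.2
  obtain ⟨g, hg⟩ := exists_co0 (fun v => ⟨f v, (hf v).1⟩) (fun v w => Subtype.ext (eight_inj (by
    simp only [AddSubgroup.coe_add, smul_add, ← (hf _).2, mvY_add]))) (fun v => by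
    have := mvY_norm h v
    rw [(hf v).2, sqNorm_smul] at this
    simp only; omega)
  exact ⟨g, fun v => by rw [hg]; exact (hf v).2.symm⟩

/-- the vectors that a matrix maps into `8 Λ` -/
def pre8 (Y : GolayPt → V24) : AddSubgroup V24 where
  carrier := {x | ∃ y ∈ leechLattice, mvY Y x = (8 : ℤ) • y}
  zero_mem' := ⟨0, zero_mem _, by simp [mvY]⟩
  add_mem' := fun ⟨y, a, b⟩ ⟨z, c, d⟩ => ⟨y + z, add_mem a c, by rw [mvY_add, b, d, smul_add]⟩
  neg_mem' := fun ⟨y, a, b⟩ => ⟨-y, neg_mem a, by rw [mvY_neg, b, smul_neg]⟩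

/-- `8 e_i` -/
def e8 (i : GolayPt) : LL := ⟨Pi.single i 8, single_mem i⟩

theorem eight_smul (g : Co0) (v : LL) :
    (8 : ℤ) • ((g • v : LL) : V24) = mvY (fun j => ((g • e8 j : LL) : V24)) v := by
  have : (8 : ℤ) • v = ∑ j, (v : V24) j • e8 j := Subtype.ext (by
    simp only [AddSubgroupClass.coe_zsmul, AddSubmonoidClass.coe_finsetSum, e8, sum_single_mul])
  rw [← AddSubgroupClass.coe_zsmul, ← co_zsmul, this, Finset.smul_sum]
  simp only [co_zsmul, AddSubgroupClass.coe_zsmul, AddSubmonoidClass.coe_finsetSum, mvY]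

theorem co_ext8 {g h : Co0} (e : ∀ j, g • e8 j = h • e8 j) : g = h :=
  co_ext fun v => Subtype.ext (eight_inj (by simp only [eight_smul, e]))

/-! ### monomial maps -/

theorem mem_smul_fs (σ : Equiv.Perm GolayPt) (s : Finset GolayPt) (i : GolayPt) :
    i ∈ σ • s ↔ σ.symm i ∈ s := by
  rw [← Finset.inv_smul_mem_iff]; rfl

theorem Lx.perm {x : V24} {m : ℤ} {s : Finset GolayPt} (h : Lx x m s) {σ : Equiv.Perm GolayPt}
    (hσ : σ ∈ M24) : Lx (fun i => x (σ.symm i)) m (σ • s) :=
  ⟨h.1, (smul_mem_Cw hσ).mpr h.2.1, fun i => by simp only [mem_smul_fs]; exact h.2.2.1 _,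
    by rw [Equiv.sum_comp σ.symm x]; exact h.2.2.2⟩

theorem Cw_inter_even {s c : Finset GolayPt} (hs : s ∈ Cw) (hc : c ∈ Cw) :
    ((s ∩ c).card : ℤ) % 2 = 0 := by
  have a := card_symmDiff' s c
  have := Cw_four hs
  have := Cw_four hc
  have := Cw_four (Cw_symmDiff hs hc)
  omega

theorem Lx.sign {x : V24} {m : ℤ} {s : Finset GolayPt} (h : Lx x m s) {c : Finset GolayPt}
    (hc : c ∈ Cw) : Lx (fun i => if i ∈ c then -x i else x i) m (if m = 0 then s else s ∆ c) := by
  obtain ⟨h0, hs, h1, h2⟩ := h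
  refine ⟨h0, by split_ifs; exacts [hs, Cw_symmDiff hs hc], fun i => ?_, ?_⟩
  · have := h1 i
    rcases h0 with rfl | rfl
    · simp only [if_true]
      split_ifs at this ⊢ <;> omega
    · simp only [one_ne_zero, if_false, mem_symmDiff]
      by_cases p : i ∈ s <;> by_cases q : i ∈ c <;> simp only [p, q] at this ⊢ <;>
        simp at this ⊢ <;> omega
  · have : ∑ i, (if i ∈ c then -x i else x i) = ∑ i, (x i - 8 * (if i ∈ c then x i / 4 else 0) -
        (if i ∈ c then 2 * m else 0) - if i ∈ s ∩ c then 4 else 0) :=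
      sum_congr rfl fun i _ => by
        have := h1 i
        simp only [mem_inter]
        by_cases p : i ∈ s <;> by_cases q : i ∈ c <;> simp only [p, q] at this ⊢ <;>
          simp at this ⊢ <;> omega
    rw [this, sum_sub_distrib, sum_sub_distrib, sum_sub_distrib, ← mul_sum, sum_ind, sum_ind]
    have := Cw_four hc
    have := Cw_inter_even hs hc
    rcases h0 with rfl | rfl <;> omega

theorem sp_mem {σ : Equiv.Perm GolayPt} (hσ : σ ∈ M24) {c : Finset GolayPt} (hc : c ∈ Cw)
    {x : V24} (hx : x ∈ leechLattice) : signedPerm σ c x ∈ leechLattice := by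
  obtain ⟨m, s, h⟩ := mem_leech.mp hx
  exact ((h.perm hσ).sign hc).mem

theorem sp_norm (σ : Equiv.Perm GolayPt) (c : Finset GolayPt) (x : V24) :
    sqNorm (signedPerm σ c x) = sqNorm x := by
  rw [sqNorm, sqNorm, ← Equiv.sum_comp σ.symm fun i => x i ^ 2]
  exact sum_congr rfl fun i _ => by unfold signedPerm; split_ifs <;> ring

theorem exists_mon (σ : M24) (c : Cw) :
    ∃ g : Co0, ∀ v : LL, ((g • v : LL) : V24) = signedPerm σ c v := by
  obtain ⟨g, hg⟩ := exists_co0 (fun v => ⟨_, sp_mem σ.2 c.2 v.2⟩) (fun v w => Subtype.ext (by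
    funext i
    simp only [signedPerm, AddSubgroup.coe_add, Pi.add_apply]
    split_ifs <;> ring)) (fun v => sp_norm _ _ _)
  exact ⟨g, fun v => by rw [hg]⟩

/-- the monomial automorphism -/
def mon (σ : M24) (c : Cw) : Co0 := (exists_mon σ c).choose

theorem mon_smul (σ : M24) (c : Cw) (v : LL) :
    ((mon σ c • v : LL) : V24) = signedPerm σ c v := (exists_mon σ c).choose_spec v

theorem mon_apply (σ : M24) (c : Cw) (v : LL) (i : GolayPt) :
    ((mon σ c • v : LL) : V24) (σ • i) = if σ • i ∈ (c : Finset GolayPt) then -(v : V24) i else (v : V24) i := by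
  rw [mon_smul]
  show signedPerm σ c v ((σ : Equiv.Perm GolayPt) i) = _
  simp only [signedPerm, Equiv.symm_apply_apply]; rfl

theorem mon_e8 (σ : M24) (c : Cw) (j : GolayPt) : ((mon σ c • e8 j : LL) : V24) =
    Pi.single (σ • j) (if σ • j ∈ (c : Finset GolayPt) then -8 else 8) := by
  funext i
  obtain ⟨k, rfl⟩ := exists_smul' σ i
  rw [mon_apply]
  by_cases h : k = j
  · subst h; simp [e8]
  · have : σ • k ≠ σ • j := fun e => h (smul_left_cancel _ e)
    simp [e8, h, this]

theorem single_inj {i j : GolayPt} {a b : ℤ} (ha : a ≠ 0)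
    (h : (Pi.single i a : V24) = Pi.single j b) : i = j ∧ a = b := by
  have := congrFun h i
  by_cases e : i = j
  · subst e; simpa using this
  · simp [e, ha] at this

theorem mon_inj {σ σ' : M24} {c c' : Cw} (h : mon σ c = mon σ' c') : σ = σ' ∧ c = c' := by
  have a : ∀ j, σ • j = σ' • j ∧ ((if σ • j ∈ (c : Finset GolayPt) then -8 else 8 : ℤ) =
      if σ' • j ∈ (c' : Finset GolayPt) then -8 else 8) := fun j =>
    single_inj (by split_ifs <;> norm_num) (by rw [← mon_e8, ← mon_e8, h])
  have b : σ = σ' := Subtype.ext (Equiv.ext fun j => (a j).1)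
  subst b
  refine ⟨rfl, Subtype.ext (Finset.ext fun i => ?_)⟩
  obtain ⟨k, rfl⟩ := exists_smul' σ i
  have := (a k).2
  split_ifs at this with p q q <;> simp only [p, q] <;> omega

/-! ### the standard cross -/

theorem mem_cross_of {y z : V24} (hy : sqNorm y = 64) (hz : z ∈ leechLattice) {i : GolayPt}
    {a : ℤ} (ha : a % 8 = 0) (h : y = Pi.single i a + (2 : ℤ) • z) : y ∈ stdCross := by
  obtain ⟨m, s, h0, hs, h1, -⟩ := mem_leech.mp hz
  have h2 : ∀ j, y j % 8 = 2 * m + if j ∈ s then 4 else 0 := fun j => by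
    have := h1 j
    rw [h]
    simp only [Pi.add_apply, Pi.single_apply, Pi.smul_apply, smul_eq_mul]
    split_ifs at this ⊢ <;> omega
  have hm : m = 0 := by
    refine h0.resolve_right fun e => ?_
    have := card_nsmul_le_sum univ (fun j => y j ^ 2) 4 fun j _ => by
      have := h2 j
      have : y j ≤ -2 ∨ 2 ≤ y j := by split_ifs at this <;> omega
      rcases this with h | h <;> nlinarith
    rw [card_univ, card_pt] at this
    unfold sqNorm at hy
    simp only [nsmul_eq_mul] at this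
    omega
  have hs0 : s = ∅ := by
    have : ∑ j, (if j ∈ s then (16 : ℤ) else 0) ≤ sqNorm y := sum_le_sum fun j _ => by
      have := h2 j
      split_ifs at this ⊢
      · have : y j ≤ -4 ∨ 4 ≤ y j := by omega
        rcases this with h | h <;> nlinarith
      · exact sq_nonneg _
    rw [sum_ind] at this
    rw [← card_eq_zero]
    rcases Cw_card hs with h | h | h | h | h <;> omega
  simp only [hm, hs0, notMem_empty, if_false] at h2
  obtain ⟨j, hj⟩ : ∃ j, y j ≠ 0 := by
    by_contra! e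
    rw [show y = 0 from funext e] at hy
    simp [sqNorm] at hy
  have h3 : y j = 8 ∨ y j = -8 := by
    have := abs_le_of_sqNorm (x := y) (by omega) j
    have := h2 j
    omega
  refine ⟨j, y j, h3, ?_⟩
  rw [← sub_eq_zero]
  apply sqNorm_eq_zero
  rw [sqNorm_sub, sqNorm_single, dot_comm, dot_single, hy]
  rcases h3 with h | h <;> rw [h] <;> rfl

theorem norm_cross {y : V24} (h : y ∈ stdCross) : sqNorm y = 64 := by
  obtain ⟨i, s, hs, rfl⟩ := h
  rw [sqNorm_single]; rcases hs with rfl | rfl <;> rfl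

theorem norm_e8 (i : GolayPt) : sqNorm (e8 i : V24) = 64 := sqNorm_single _ _

theorem cross_all {g : Co0} {i : GolayPt} (h : ((g • e8 i : LL) : V24) ∈ stdCross) (j : GolayPt) :
    ((g • e8 j : LL) : V24) ∈ stdCross := by
  obtain ⟨k, s, hs, h⟩ := h
  let z : LL := ⟨_, four_mem j i (a := 4) (b := -4) rfl rfl⟩
  have : e8 j = e8 i + (2 : ℤ) • z := Subtype.ext (by
    funext l
    simp only [e8, z, AddSubgroup.coe_add, AddSubgroupClass.coe_zsmul, Pi.add_apply,
      Pi.smul_apply, Pi.single_apply, smul_eq_mul]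
    split_ifs <;> omega)
  refine mem_cross_of ((co_norm _ _).trans (norm_e8 _)) (g • z).2 (i := k) (a := s) (by omega) ?_
  rw [this, smul_add, co_zsmul, AddSubgroup.coe_add, h]; rfl

theorem Lx.unique {x : V24} {m : ℤ} {s : Finset GolayPt} (hx : x ∈ leechLattice)
    (hm : m = 0 ∨ m = 1) (h : ∀ i, x i % 4 = m + if i ∈ s then 2 else 0) : s ∈ Cw := by
  obtain ⟨m', s', h0, hs, h1, -⟩ := mem_leech.mp hx
  convert hs
  ext i
  have a := h i
  have b := h1 i
  split_ifs at a b with p q q <;> simp only [p, q] <;> omega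

theorem exists_mon_of_cross {g : Co0} {i : GolayPt} (h : ((g • e8 i : LL) : V24) ∈ stdCross) :
    ∃ σ c, g = mon σ c := by
  choose π s hs hπ using cross_all h
  have hi : Function.Injective π := fun j k e => by
    by_contra hne
    have := co_dot g (e8 j) (e8 k)
    rw [hπ, hπ, e, dot_single, Pi.single_eq_same, show (e8 j : V24) = Pi.single j 8 from rfl,
      dot_single, show (e8 k : V24) j = 0 from Pi.single_eq_of_ne hne _] at this
    rcases hs j with a | a <;> rcases hs k with b | b <;> rw [a, b] at this <;> omega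
  let σ : Equiv.Perm GolayPt := Equiv.ofBijective π (Finite.injective_iff_bijective.mp hi)
  let c : Finset GolayPt := univ.filter fun i => s (σ.symm i) = -8
  have hg : ∀ v : LL, ((g • v : LL) : V24) = signedPerm σ c v := fun v => eight_inj (by
    rw [eight_smul]
    funext l
    obtain ⟨k, rfl⟩ := σ.surjective l
    have : ∀ j, σ k = π j ↔ j = k := fun j => ⟨fun e => (hi e).symm, fun e => e ▸ rfl⟩
    simp only [mvY, hπ, Finset.sum_apply, Pi.smul_apply, Pi.single_apply, this, smul_eq_mul,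
      mul_ite, mul_zero, Finset.sum_ite_eq', mem_univ, if_true, signedPerm, c, mem_filter,
      true_and, Equiv.symm_apply_apply]
    rcases hs k with a | a <;> rw [a] <;> simp [mul_comm])
  have hσ : σ ∈ M24 := mem_M24_iff.mpr fun t ht =>
    Lx.unique (g • (⟨_, (Lx_two ht).mem⟩ : LL)).2 (Or.inl rfl) fun i => by
      rw [hg]
      simp only [signedPerm, two, mem_smul_fs]
      split_ifs <;> rfl
  have hc : c ∈ Cw := Lx.unique (g • (⟨_, Lx_w3.mem⟩ : LL)).2 (Or.inr rfl) fun i => by
    rw [hg]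
    simp only [signedPerm, w3]
    split_ifs <;> rfl
  exact ⟨⟨σ, hσ⟩, ⟨c, hc⟩, co_ext fun v => Subtype.ext (by rw [hg, mon_smul])⟩

theorem mon_cross (σ : M24) (c : Cw) {v : LL} (hv : (v : V24) ∈ stdCross) :
    ((mon σ c • v : LL) : V24) ∈ stdCross := by
  obtain ⟨i, s, hs, h⟩ := hv
  have : ((mon σ c • e8 i : LL) : V24) ∈ stdCross :=
    ⟨_, _, by split_ifs <;> simp, mon_e8 σ c i⟩
  rcases hs with rfl | rfl
  · rwa [show v = e8 i from Subtype.ext h]
  · rw [show v = -e8 i from Subtype.ext (by rw [h, Pi.single_neg]; rfl), smul_neg]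
    obtain ⟨j, t, ht, e⟩ := this
    exact ⟨j, -t, by omega, by rw [NegMemClass.coe_neg, e, Pi.single_neg]⟩

theorem card_Cw : Nat.card Cw = 4096 := by rw [Nat.card_coe_set_eq, ncard_Cw_all]

instance : Finite Cw := Nat.finite_of_card_ne_zero (by rw [card_Cw]; norm_num)

theorem bd_mon {H : Subgroup Co0} (K : Subgroup M24) (P : Finset GolayPt → Prop)
    (h : ∀ g ∈ H, ∃ σ ∈ K, ∃ c : Cw, P c ∧ g = mon σ c) :
    Finite H ∧ Nat.card H ≤ Nat.card K * {s | s ∈ Cw ∧ P s}.ncard := by
  choose σ hσ c hc e using h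
  let f : H → K × {s | s ∈ Cw ∧ P s} := fun g => (⟨σ g g.2, hσ g g.2⟩, ⟨c g g.2, (c g g.2).2, hc g g.2⟩)
  have hf : Function.Injective f := fun a b hab => Subtype.ext (by
    simp only [f, Prod.mk.injEq, Subtype.mk.injEq] at hab
    rw [e a a.2, e b b.2, hab.1, Subtype.ext hab.2])
  refine ⟨Finite.of_injective f hf, ?_⟩
  rw [← Nat.card_coe_set_eq, ← Nat.card_prod]
  exact Nat.card_le_card_of_injective f hf

end

end CfsgH7
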