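import Cfsg.Agent.H7.Le2
import Cfsg.Agent.H7.TB

set_option autoImplicit false
set_option maxRecDepth 100000
set_option Elab.async false

/-! Codes for vectors of the Leech lattice and tables for subgroups of its automorphism group. -/

namespace CfsgH7

open Cfsg Finset MulAction
open scoped symmDiff Pointwise

noncomputable section

namespace Le

/-- digit `j` of a code -/
def dg (c j : ℕ) : ℕ := c >>ₙ (5 *ₙ j) &ₙ 31

/-- the vector with code `c` -/
def dv (c : ℕ) : V24 := fun i => (dg c (enc i) : ℤ) - 8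

theorem dg_eq (c j : ℕ) : dg c j = c / 32 ^ j % 32 := by
  show (c >>> (5 * j)) &&& (2 ^ 5 - 1) = _
  rw [Nat.and_two_pow_sub_one_eq_mod, Nat.shiftRight_eq_div_pow, pow_mul]
  rfl

theorem dg_lt (c j : ℕ) : dg c j < 32 := by rw [dg_eq]; exact Nat.mod_lt _ (by norm_num)

theorem dv_dec (c : ℕ) {j : ℕ} (hj : j < 24) : dv c (dec j) = (dg c j : ℤ) - 8 := by
  rw [dv, enc_dec hj]

theorem sum_pt {M : Type*} [AddCommMonoid M] (f : GolayPt → M) :
    ∑ i, f i = ∑ j ∈ range 24, f (dec j) := by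
  symm
  refine sum_bij (fun j _ => dec j) (fun _ _ => mem_univ _) (fun a ha b hb h =>
    dec_inj (mem_range.mp ha) (mem_range.mp hb) h) (fun x _ => ?_) fun _ _ => rfl
  obtain ⟨i, hi, rfl⟩ := exists_dec x
  exact ⟨i, mem_range.mpr hi, rfl⟩

theorem mod_pow_eq (c : ℕ) : ∀ n, c % 32 ^ n = ∑ j ∈ range n, dg c j * 32 ^ j
  | 0 => by simp [Nat.mod_one]
  | n + 1 => by rw [sum_range_succ, ← mod_pow_eq c n, dg_eq, pow_succ, Nat.mod_mul, mul_comm]

/-- the linear part of the code -/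
def Zc (x : V24) : ℤ := ∑ j ∈ range 24, x (dec j) * 32 ^ j

def O8 : ℕ := 0x210842108421084210842108421084

theorem code_eq {c : ℕ} (hc : c < 2 ^ 120) : (c : ℤ) = Zc (dv c) + 2 * O8 := by
  have := mod_pow_eq c 24
  rw [Nat.mod_eq_of_lt (by norm_num at hc ⊢; exact hc)] at this
  rw [Zc, sum_congr rfl (g := fun j => (dg c j : ℤ) * 32 ^ j - 8 * 32 ^ j) fun j hj => by
    rw [dv_dec _ (mem_range.mp hj)]; ring, sum_sub_distrib,
    show ∑ j ∈ range 24, (8 : ℤ) * 32 ^ j = 2 * O8 by decide +kernel]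
  conv_lhs => rw [this]
  push_cast; ring

theorem dv_inj {a b : ℕ} (ha : a < 2 ^ 120) (hb : b < 2 ^ 120) (h : dv a = dv b) : a = b := by
  have := code_eq ha
  rw [h, ← code_eq hb] at this
  exact_mod_cast this

theorem Zc_add (x y : V24) : Zc (x + y) = Zc x + Zc y := by
  simp only [Zc, Pi.add_apply, add_mul, sum_add_distrib]

theorem Zc_sub (x y : V24) : Zc (x - y) = Zc x - Zc y := by
  simp only [Zc, Pi.sub_apply, sub_mul, sum_sub_distrib]

theorem Zc_smul (k : ℤ) (x : V24) : Zc (k • x) = k * Zc x := by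
  simp only [Zc, Pi.smul_apply, smul_eq_mul, mul_sum, mul_assoc]

theorem Zc_mvY (Y : GolayPt → V24) (x : V24) :
    Zc (mvY Y x) = ∑ j ∈ range 24, x (dec j) * Zc (Y (dec j)) := by
  simp only [Zc, mvY, Finset.sum_apply, Pi.smul_apply, smul_eq_mul, sum_mul, mul_sum, mul_assoc]
  rw [sum_comm, sum_pt]

theorem exists_code {x : V24} (h : ∀ i, -8 ≤ x i ∧ x i ≤ 23) : ∃ c < 2 ^ 120, dv c = x := by
  let f : ℕ → ℕ := fun j => (x (dec j) + 8).toNat
  have hf : ∀ j < 24, f j < 2 ^ 5 := fun j _ => by have := h (dec j); simp only [f]; omega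
  refine ⟨pack 5 f 24 % 2 ^ 120, Nat.mod_lt _ (by positivity), funext fun i => ?_⟩
  have a : dg (pack 5 f 24) (enc i) = f (enc i) := get_pack 5 24 f hf (enc_lt i)
  have b : dg (pack 5 f 24 % 2 ^ 120) (enc i) = dg (pack 5 f 24) (enc i) := by
    obtain ⟨d, hd⟩ := Nat.exists_eq_add_of_lt (enc_lt i)
    rw [dg_eq, dg_eq, show (2 : ℕ) ^ 120 = 32 ^ 24 by norm_num, hd, add_assoc, pow_add,
      Nat.mod_mul_right_div_self, pow_succ, Nat.mod_mul_left_mod]
  have := h i
  simp only [dv, b, a, f, dec_enc]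
  omega

/-- inner product, shifted by `4608` -/
def ip (a b : ℕ) : ℕ :=
  sum (fun j => force (dg a j) fun d => force (dg b j) fun e =>
    d *ₙ e +ₙ 256 -ₙ 8 *ₙ (d +ₙ e)) 24

theorem ip_eq (a b : ℕ) : (ip a b : ℤ) = dotInt (dv a) (dv b) + 4608 := by
  rw [ip, sum_eq, dotInt, sum_pt, show (4608 : ℤ) = ∑ j ∈ range 24, 192 by simp, ← sum_add_distrib]
  push_cast
  refine sum_congr rfl fun j hj => ?_
  rw [dv_dec _ (mem_range.mp hj), dv_dec _ (mem_range.mp hj)]
  simp only [force_eq, n_add, n_mul, n_sub]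
  have h1 := dg_lt a j
  have h2 := dg_lt b j
  generalize dg a j = d at *
  generalize dg b j = e at *
  have : 8 * (d + e) ≤ d * e + 256 := by
    rcases le_total d 8 with p | p <;> rcases le_total e 8 with q | q <;> nlinarith
  push_cast [this]; ring

theorem ip_spec {a b k : ℕ} (h : (ip a b =ₙ k) = true) : dotInt (dv a) (dv b) = k - 4608 := by
  rw [n_beq] at h
  rw [← h, ip_eq]; ring

def isL (c : ℕ) : Bool :=
  force (c &ₙ 1) fun m => force (orN (fun j => (dg c j /ₙ 2 %ₙ 2) <<ₙ j) 24) fun s =>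
    isCode s &&ₙ all (fun j => dg c j %ₙ 4 =ₙ m +ₙ 2 *ₙ (s >>ₙ j &ₙ 1)) 24 &&ₙ
      (sum (dg c) 24 %ₙ 8 =ₙ 4 *ₙ m)

theorem isL_spec {c : ℕ} (h : isL c = true) : dv c ∈ leechLattice := by
  simp only [isL, force_eq, band_eq, Bool.and_eq_true, all_iff, n_beq, n_mod, n_add, n_mul,
    n_and, n_shr, sum_eq] at h
  generalize orN _ _ = s at h
  obtain ⟨h1, h2, h3⟩ := h
  have hm : c &&& 1 ≤ 1 := Nat.and_le_right
  refine Lx.mem (m := (c &&& 1 : ℕ)) (s := toFs s) ⟨by omega, mem_Cw_iff.mpr ⟨s, h1, rfl⟩,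
    forall_pt.mpr fun j hj => ?_, ?_⟩
  · have := h2 j hj
    have a : s >>> j &&& 1 = if s.testBit j then 1 else 0 := by
      have := bit_mul s j 1; simpa using this
    rw [a] at this
    rw [dv_dec _ hj]
    simp only [dec_mem_toFs hj]
    split_ifs at this ⊢ <;> omega
  · rw [sum_pt, sum_congr rfl fun j hj => dv_dec c (mem_range.mp hj), sum_sub_distrib,
      ← Nat.cast_sum]
    simp only [sum_const, card_range, nsmul_eq_mul]
    omega

/-- codes of short lattice vectors -/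
def Good (c : ℕ) : Prop := c < 2 ^ 120 ∧ dv c ∈ leechLattice ∧ sqNorm (dv c) ≤ 80

def gd (c : ℕ) : Bool := (c >>ₙ 120 =ₙ 0) &&ₙ isL c &&ₙ (ip c c ≤ₙ 4688)

theorem gd_spec {c : ℕ} (h : gd c = true) : Good c := by
  simp only [gd, band_eq, Bool.and_eq_true, n_beq, n_shr, n_ble, Nat.shiftRight_eq_div_pow] at h
  refine ⟨(Nat.div_eq_zero_iff.mp h.1).resolve_left (by positivity), isL_spec h.2.1, ?_⟩
  have := ip_eq c c
  rw [dot_self] at this
  omega

open Classical in
/-- the lattice vector with code `c` -/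
def vec (c : ℕ) : LL := if h : dv c ∈ leechLattice then ⟨dv c, h⟩ else 0

theorem Good.coe {c : ℕ} (h : Good c) : (vec c : V24) = dv c := by rw [vec, dif_pos h.2.1]

theorem Good.inj {a b : ℕ} (ha : Good a) (hb : Good b) (h : vec a = vec b) : a = b :=
  dv_inj ha.1 hb.1 (by rw [← ha.coe, ← hb.coe, h])

theorem exists_good (v : LL) (h : sqNorm (v : V24) ≤ 80) : ∃ c, Good c ∧ vec c = v := by
  obtain ⟨c, hc, e⟩ := exists_code (x := v) fun i => by have := abs_le_of_sqNorm h i; omega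
  have : Good c := ⟨hc, e ▸ v.2, e ▸ h⟩
  exact ⟨c, this, Subtype.ext (this.coe.trans e)⟩

theorem Good.dot {a b k : ℕ} (ha : Good a) (hb : Good b) (h : (ip a b =ₙ k) = true) :
    dotInt (vec a : V24) (vec b : V24) = k - 4608 := by rw [ha.coe, hb.coe, ip_spec h]

theorem Good.dot_iff {a b : ℕ} (ha : Good a) (hb : Good b) (k : ℤ) :
    dotInt (vec a : V24) (vec b : V24) = k ↔ ip a b = (k + 4608).toNat ∧ 0 ≤ k + 4608 := by
  rw [ha.coe, hb.coe]; have := ip_eq a b; omega

theorem Good.norm {a k : ℕ} (ha : Good a) (h : (ip a a =ₙ k) = true) :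
    sqNorm (vec a : V24) = k - 4608 := by rw [← dot_self, ha.dot ha h]

theorem vec_eq {c : ℕ} {v : LL} (h : dv c = v) : vec c = v := by
  have : dv c ∈ leechLattice := h ▸ v.2
  exact Subtype.ext (by rw [vec, dif_pos this]; exact h)

/-! ### matrices -/

def dsum (L : List ℕ) (c : ℕ) : ℕ → ℕ :=
  List.rec (fun _ => nat_lit 0) (fun k _ r i => (c >>ₙ i &ₙ nat_lit 31) *ₙ k +ₙ r (i +ₙ nat_lit 5)) L

theorem dsum_eq (c : ℕ) : ∀ (L : List ℕ) (i : ℕ),
    dsum L c (5 * i) = ∑ j ∈ range L.length, dg c (i + j) * L.getD j 0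
  | [], _ => rfl
  | k :: L, i => by
    show (c >>> (5 * i) &&& 31) * k + dsum L c (5 * (i + 1)) = _
    rw [dsum_eq c L, List.length_cons, sum_range_succ', add_comm]
    simp only [List.getD_cons_succ, List.getD_cons_zero, add_assoc, add_comm 1]
    rfl

def Mq : ℕ := 0x400000000000000000000000000000000
def Qq : ℕ := 0x3ffbdef7bdef7bdef7bdef7bdef7bdef8

/-- image of a code under a matrix -/
def app (K : List ℕ) (c : ℕ) : ℕ :=
  List.rec (nat_lit 0) (fun C L _ => ((dsum L c (nat_lit 0) +ₙ C) %ₙ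
    nat_lit 0x400000000000000000000000000000000) >>ₙ nat_lit 3) K

def col (K : List ℕ) (j : ℕ) : ℕ := K.getD (j + 1) 0 -ₙ Qq

def ar (K : List ℕ) : Bool := (K.length =ₙ 25) &&ₙ
  all (fun j => (Qq ≤ₙ K.getD (j + 1) 0) &&ₙ (col K j >>ₙ 120 =ₙ 0)) 24 &&ₙ
  ((K.getD 0 0 +ₙ 8 *ₙ sum (col K) 24) %ₙ Mq =ₙ 400 *ₙ O8 %ₙ Mq)

def YK (K : List ℕ) : GolayPt → V24 := fun j => dv (col K (enc j))

theorem app_eq {K : List ℕ} (h : ar K = true) {c c' : ℕ} (hc' : c' < 2 ^ 120)
    (e : mvY (YK K) (dv c) = (8 : ℤ) • dv c') : app K c = c' := by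
  simp only [ar, band_eq, Bool.and_eq_true, n_beq, all_iff, n_ble, n_shr, n_add, n_mul, n_mod,
    sum_eq, Nat.shiftRight_eq_div_pow] at h
  obtain ⟨h1, h2, h3⟩ := h
  rcases K with _ | ⟨C, L⟩
  · simp at h1
  have hL : L.length = 24 := by simpa using h1
  have a := congrArg Zc e
  have b : ∀ j ∈ range 24, dv c (dec j) * Zc (YK (C :: L) (dec j)) =
      (dg c j * L.getD j 0 : ℕ) - Mq * dg c j - 8 * col (C :: L) j + 16 * O8 := fun j hj => by
    have hj := mem_range.mp hj
    have p := code_eq ((Nat.div_eq_zero_iff.mp (h2 j hj).2).resolve_left (by positivity))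
    have q : (L.getD j 0 : ℤ) = col (C :: L) j + Qq := by
      have := (h2 j hj).1
      simp only [col, n_sub, List.getD_cons_succ] at this ⊢
      omega
    have r : (Qq : ℤ) = Mq - 2 * O8 := by decide +kernel
    rw [YK, enc_dec hj, dv_dec _ hj, eq_sub_of_add_eq p.symm]
    push_cast
    rw [q, r]; ring
  rw [Zc_mvY, Zc_smul, sum_congr rfl b, sum_add_distrib, sum_sub_distrib, sum_sub_distrib,
    ← mul_sum, ← mul_sum, ← Nat.cast_sum, ← Nat.cast_sum, ← Nat.cast_sum,
    eq_sub_of_add_eq (code_eq hc').symm] at a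
  have d := dsum_eq c L 0
  simp only [hL, zero_add, mul_zero] at d
  rw [← d] at a
  show ((dsum L c 0 + C) % 0x400000000000000000000000000000000 : ℕ) >>> (3 : ℕ) = c'
  simp only [List.getD_cons_zero, Mq, O8, sum_const, card_range, nsmul_eq_mul] at a h3
  rw [Nat.shiftRight_eq_div_pow]
  generalize dsum L c 0 = S at *
  generalize ∑ j ∈ range 24, dg c j = T at *
  generalize ∑ j ∈ range 24, col (C :: L) j = R at *
  omega

/-- `K` describes `g` -/
def Rep (g : Co0) (K : List ℕ) : Prop :=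
  ar K = true ∧ ∀ v : LL, (8 : ℤ) • ((g • v : LL) : V24) = mvY (YK K) v

theorem Rep.app {g : Co0} {K : List ℕ} (h : Rep g K) {c : ℕ} (hc : Good c) :
    Good (app K c) ∧ g • vec c = vec (app K c) := by
  obtain ⟨c', h1, h2⟩ := exists_good (g • vec c) (by rw [co_norm, hc.coe]; exact hc.2.2)
  rw [app_eq h.1 h1.1 (by rw [← hc.coe, ← h.2, ← h2, h1.coe])]
  exact ⟨h1, h2.symm⟩

def gens : List ℕ := [0x2a5294a5294a5294a5294a5294a529, 0x529084294a4290a42108421084210a, 0x429085210a5294a421084210842148, 0x5290a429085214a421084210842908, 0x42948529484214a421084210852108, 0x5210a5214a4214a421084210a42108, 0x5214a4294842948421084214842108, 0x529485290852908421084290842108, 0x4210a529485290a421085210842108, 0x4214a5290a521484210a4210842108, 0x4294a5214a42908421484210842108, 0x5214a4210a5290a429084210842108, 0x529484214a52148521084210842108, 0x22108421084210842108421084210c, 0x221084210842108421084210842188, 0x221084210842108421084210843108, 0x221084210842108421084210862108,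 0x221084210842108421084210c42108, 0x221084210842108421084218842108, 0x221084210842108421084310842108, 0x221084210842108421086210842108, 0x2210842108421084210c4210842108, 0x221084210842108421884210842108, 0x221084210842108431084210842108, 0x221084210842108621084210842108, 0x22108421084210c421084210842108, 0x221084210842188421084210842108, 0x221084210843108421084210842108, 0x221084210862108421084210842108, 0x221084210c42108421084210842108, 0x221084218842108421084210842108, 0x221084310842108421084210842108, 0x221086210842108421084210842108, 0x2210c4210842108421084210842108, 0x221884210842108421084210842108, 0x231084210842108421084210842108, 0x821084210842108421084210842108]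

def genOk (K : List ℕ) (b : ℕ) : Bool := force (app K b) fun y =>
  isL y &&ₙ (ip y y =ₙ ip b b) &&ₙ all (fun j => ip (col K j) y =ₙ 8 *ₙ dg b j +ₙ 4544) 24

/-- `K` describes an automorphism -/
def mOk (K : List ℕ) : Bool := ar K &&ₙ
  all (fun i => force (col K i) fun a => (ip a a =ₙ 4672) &&ₙ
    all1 (fun j => ip a (col K j) =ₙ 4608) i) 24 &&ₙ lall (genOk K) gens

theorem gens_spec : (∃ b ∈ gens, dv b = w3) ∧ (∀ j < 12, ∃ b ∈ gens, dv b = two (toFs (row j))) ∧
    (∀ j < 23, ∃ b ∈ gens, dv b = Pi.single (dec j) 4 + Pi.single none (-4)) ∧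
    ∃ b ∈ gens, dv b = Pi.single none 8 := by
  decide +kernel

theorem exists_rep {K : List ℕ} (h : mOk K = true) : ∃ g, Rep g K := by
  simp only [mOk, band_eq, Bool.and_eq_true, all_iff, all1_iff, force_eq, lall_iff] at h
  obtain ⟨h1, h2, h3⟩ := h
  have hG : ∀ i j, dotInt (YK K i) (YK K j) = if i = j then 64 else 0 := fun i j => by
    rcases lt_trichotomy (enc i) (enc j) with p | p | p
    · rw [if_neg (by rintro rfl; omega), dot_comm]
      exact ip_spec ((h2 _ (enc_lt j)).2 _ p)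
    · rw [enc_inj p, if_pos rfl]
      exact ip_spec (h2 _ (enc_lt j)).1
    · rw [if_neg (by rintro rfl; omega)]
      exact ip_spec ((h2 _ (enc_lt i)).2 _ p)
  have hb : ∀ x, (∃ b ∈ gens, dv b = x) → x ∈ pre8 (YK K) := by
    rintro _ ⟨b, hb, rfl⟩
    have := h3 b hb
    simp only [genOk, force_eq, band_eq, Bool.and_eq_true, all_iff] at this
    refine ⟨_, isL_spec this.1, mvY_eq hG (fun j => ?_) ?_⟩
    · rw [YK, ip_spec (this.2.2 _ (enc_lt j))]
      simp only [n_add, n_mul, dv]; push_cast; ring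
    · have a := ip_spec this.2.1
      rw [ip_eq, dot_self, dot_self] at a
      omega
  obtain ⟨a, b, c, d⟩ := gens_spec
  obtain ⟨g, hg⟩ := exists_co0_mat hG (leech_ind (A := pre8 (YK K)) (hb _ a)
    (fun j hj => hb _ (b j hj)) (forall_pt.mpr fun j hj => by
      by_cases e : j < 23
      · exact hb _ (c j e)
      · rw [show j = 23 by omega, show dec 23 = none from rfl, ← Pi.single_add]
        simp) (hb _ d))
  exact ⟨g, h1, hg⟩

open Classical in
/-- the automorphism described by `K` -/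
def el (K : List ℕ) : Co0 := if h : ∃ g, Rep g K then h.choose else 1

theorem rep_el {K : List ℕ} (h : mOk K = true) : Rep (el K) K := by
  rw [el, dif_pos (exists_rep h)]; exact (exists_rep h).choose_spec

theorem el_smul {K : List ℕ} {a b : ℕ} (h : mOk K = true) (h' : (gd a &&ₙ (app K a =ₙ b)) = true) :
    el K • vec a = vec b := by
  simp only [band_eq, Bool.and_eq_true, n_beq] at h'
  rw [← h'.2]; exact ((rep_el h).app (gd_spec h'.1)).2

/-! ### tables -/

/-- the subgroup fixing the vectors with the given codes -/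
def Fx (F : List ℕ) : Subgroup Co0 := ⨅ c ∈ F, stabilizer Co0 (vec c)

theorem mem_Fx {F : List ℕ} {g : Co0} : g ∈ Fx F ↔ ∀ c ∈ F, g • vec c = vec c := by
  simp [Fx, Subgroup.mem_iInf]

def fxOk (F : List ℕ) (K : List ℕ) : Bool := lall (fun c => gd c &&ₙ (app K c =ₙ c)) F

theorem el_mem {F K : List ℕ} (h : mOk K = true) (h' : fxOk F K = true) : el K ∈ Fx F :=
  mem_Fx.mpr fun c hc => el_smul h ((lall_iff _ _).mp h' c hc)

/-- rows: a code of 120 bits, then images of 16 bits each; letter `2i` is the matrix `i`,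
letter `2i+1` its inverse, the others act trivially -/
structure VT where
  N : ℕ
  k : ℕ
  row : ℕ → ℕ
  K : ℕ → List ℕ
  F : List ℕ
  B : List ℕ
  r0 : List ℕ

namespace VT

variable (T : VT)

def P (p : ℕ) : ℕ := T.row p &ₙ nat_lit 0xffffffffffffffffffffffffffffff
def U (x p : ℕ) : ℕ := ite' (nat_lit 2 *ₙ T.k ≤ₙ x) p
  (T.row p >>ₙ (nat_lit 120 +ₙ x *ₙ nat_lit 16) &ₙ nat_lit 0xffff)
def tb : Tb := ⟨T.N, 16, T.U, 0xefcdab8967452301, 0xffff, T.B⟩

/-- the check at a point; `R a b` compares a computed code with a stored one, `S a b` is the order -/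
def ptOk (R S : ℕ → ℕ → Bool) (p : ℕ) : Bool := force (T.P p) fun c =>
  ((T.N ≤ₙ Nat.succ p) ||ₙ S c (T.P (Nat.succ p))) &&ₙ
  all1 (fun i => force (T.U (nat_lit 2 *ₙ i) p) fun q => (Nat.succ q ≤ₙ T.N) &&ₙ
    R (app (T.K i) c) (T.P q) &&ₙ force (T.U (nat_lit 2 *ₙ i +ₙ nat_lit 1) p) fun q' =>
      (Nat.succ q' ≤ₙ T.N) &&ₙ (T.U (nat_lit 2 *ₙ i) q' =ₙ p)) T.k

def conn : Bool := lall (fun r => (Nat.succ r ≤ₙ T.N) &&ₙ gd (T.P r)) T.r0 &&ₙ
  (bfs T.U (fun c => c) ((List.range T.k).map (2 * ·)) (Nat.succ T.N)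
    (List.rec 0 (fun r _ V => V |ₙ 1 <<ₙ r) T.r0) T.r0 =ₙ (1 <<ₙ T.N) -ₙ 1)

structure Ok (R S : ℕ → ℕ → Bool) : Prop where
  m : ∀ i < T.k, mOk (T.K i) = true
  f : all1 (fun i => fxOk T.F (T.K i)) T.k = true
  p : ∀ p < T.N, T.ptOk R S p = true
  c : T.conn = true

open Classical in
def g0 (i : ℕ) : Fx T.F := if h : i < T.k ∧ el (T.K i) ∈ Fx T.F then ⟨_, h.2⟩ else 1

def gen (x : ℕ) : Fx T.F := if x % 2 = 0 then T.g0 (x / 2) else (T.g0 (x / 2))⁻¹

variable {T} {R S : ℕ → ℕ → Bool}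

theorem Ok.g0 (h : T.Ok R S) {i : ℕ} (hi : i < T.k) : (T.g0 i : Co0) = el (T.K i) := by
  rw [VT.g0, dif_pos ⟨hi, el_mem (h.m i hi) ((all1_iff _ _).mp h.f i hi)⟩]

theorem Ok.pt (h : T.Ok R S) {p : ℕ} (hp : p < T.N) :
    (p + 1 < T.N → S (T.P p) (T.P (p + 1)) = true) ∧ ∀ i < T.k, T.U (2 * i) p < T.N ∧
      R (app (T.K i) (T.P p)) (T.P (T.U (2 * i) p)) = true ∧ T.U (2 * i + 1) p < T.N ∧
        T.U (2 * i) (T.U (2 * i + 1) p) = p := by
  have := h.p p hp
  simp only [ptOk, force_eq, band_eq, bor_eq, Bool.and_eq_true, Bool.or_eq_true, n_ble, all1_iff,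
    n_beq, n_mul, n_add] at this
  exact ⟨fun a => this.1.resolve_left (by omega), this.2⟩

theorem Ok.inv (h : T.Ok R S) (I : ℕ → Prop) (h0 : ∀ r ∈ T.r0, Good (T.P r) → I (T.P r))
    (hR : ∀ i < T.k, ∀ a b, I a → b < 2 ^ 120 → R (app (T.K i) a) b = true → I b)
    {p : ℕ} (hp : p < T.N) : I (T.P p) := by
  have hc := h.c
  simp only [conn, band_eq, Bool.and_eq_true, lall_iff, n_ble, n_beq] at hc
  have := bfs_spec (act := T.U) (key := fun c => c) (S := (List.range T.k).map (2 * ·))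
    (R := fun d => d < T.N ∧ I (T.P d)) (by
      simp only [List.mem_map, List.mem_range]
      rintro _ ⟨i, hi, rfl⟩ d ⟨h1, h2⟩
      obtain ⟨a, b, -⟩ := (h.pt h1).2 i hi
      refine ⟨a, hR i hi _ _ h2 ?_ b⟩
      exact Nat.and_lt_two_pow _ (by norm_num)) (Nat.succ T.N)
    (List.rec 0 (fun r _ V => V |ₙ 1 <<ₙ r) T.r0) T.r0
    (fun d hd => ⟨(hc.1 d hd).1, h0 d hd (gd_spec (hc.1 d hd).2)⟩) (fun j hj => by
      have : j ∈ T.r0 := by
        generalize T.r0 = l at hj
        induction l with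
        | nil => simp at hj
        | cons a l ih =>
          have hj' : ((List.rec 0 (fun r _ V => V |ₙ 1 <<ₙ r) l : ℕ) ||| 1 <<< a).testBit j = true := hj
          rw [Nat.testBit_or, Bool.or_eq_true, Nat.one_shiftLeft, Nat.testBit_two_pow,
            decide_eq_true_iff] at hj'
          rcases hj' with a | a
          · exact List.mem_cons_of_mem _ (ih a)
          · exact a ▸ List.mem_cons_self
      exact ⟨j, ⟨(hc.1 j this).1, h0 j this (gd_spec (hc.1 j this).2)⟩, rfl, Or.inl this⟩)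
  rw [hc.2] at this
  have e : (1 <<ₙ T.N -ₙ 1).testBit p = true := by
    simp [Nat.one_shiftLeft, Nat.testBit_two_pow_sub_one, hp]
  rcases this with h0 | ⟨-, h2⟩
  · rw [h0] at e; simp at e
  · obtain ⟨d, a, rfl, -⟩ := h2 p e
    exact a.2

theorem Ok.mono (h : T.Ok R S) (hS : ∀ a b, S a b = true → a < b) {p q : ℕ} (hp : p < T.N)
    (hq : q < T.N) (e : T.P p = T.P q) : p = q := by
  have : ∀ d p, p + d + 1 < T.N → T.P p < T.P (p + d + 1) := fun d p => by
    induction d with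
    | zero => exact fun a => hS _ _ ((h.pt (by omega)).1 a)
    | succ d ih => exact fun a => (ih (by omega)).trans (hS _ _ ((h.pt (by omega)).1 a))
  rcases lt_trichotomy p q with a | a | a
  · obtain ⟨d, rfl⟩ := Nat.exists_eq_add_of_lt a
    exact absurd e (this d p hq).ne
  · exact a
  · obtain ⟨d, rfl⟩ := Nat.exists_eq_add_of_lt a
    exact absurd e (this d q hp).ne'

/-- a table from its points -/
def Ok.mk0 (h : T.Ok R S) {Ω : Type*} [MulAction (Fx T.F) Ω] (pt : ℕ → Ω)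
    (inj : ∀ p < T.N, ∀ q < T.N, pt p = pt q → p = q)
    (sp : ∀ i < T.k, ∀ p < T.N, T.g0 i • pt p = pt (T.U (2 * i) p)) : WT0 T.tb (Fx T.F) Ω where
  gen := T.gen
  pt := pt
  inj := inj
  spec := fun x _ p hp => by
    show T.U x p < T.N ∧ _ = pt (T.U x p)
    by_cases hx : x / 2 < T.k
    · obtain ⟨a, -, b, c⟩ := (h.pt hp).2 _ hx
      unfold gen
      split_ifs with e
      · have e' : x = 2 * (x / 2) := by omega
        rw [sp _ hx p hp, ← e']
        exact ⟨e' ▸ a, rfl⟩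
      · have e' : x = 2 * (x / 2) + 1 := by omega
        rw [← e'] at b c
        refine ⟨b, ?_⟩
        rw [inv_smul_eq_iff, sp _ hx _ b, c]
    · have a : T.U x p = p := by
        rw [U, ite'_eq, if_pos]
        simp only [n_mul, n_ble]
        show 2 * T.k ≤ x
        omega
      have b : T.g0 (x / 2) = 1 := dif_neg fun h => hx h.1
      rw [a, gen, b, inv_one, ite_self, one_smul]
      exact ⟨hp, rfl⟩
  hiv := fun x hx => by
    have : x < 16 := by
      by_contra h'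
      rw [Nat.testBit_eq_false_of_lt (lt_of_lt_of_le (show T.tb.im < 2 ^ 16 from (by norm_num : (0xffff : ℕ) < 2 ^ 16))
        (Nat.pow_le_pow_right (by norm_num) (not_lt.mp h')))] at hx
      exact absurd hx (by simp)
    have e : ∀ x < 16, dig 0xefcdab8967452301 x < 16 ∧ dig 0xefcdab8967452301 x / 2 = x / 2 ∧
      (dig 0xefcdab8967452301 x % 2 = 0 ↔ ¬ x % 2 = 0) := by decide
    obtain ⟨a, b, c⟩ := e x this
    refine ⟨a, ?_⟩
    show T.gen (dig 0xefcdab8967452301 x) * T.gen x = 1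
    unfold gen
    rw [b]
    by_cases d : x % 2 = 0 <;> simp [c, d]

/-- vectors -/
abbrev Ok1 (T : VT) : Prop := T.Ok Nat.beq Nat.blt

theorem Ok1.good (h : T.Ok1) {p : ℕ} (hp : p < T.N) : Good (T.P p) :=
  Ok.inv h Good (fun _ _ h => h) (fun i hi a b ha _ e => by
    rw [← (n_beq _ _).mp e]; exact ((rep_el (h.m i hi)).app ha).1) hp

/-- the action on vectors -/
def Ok1.W (h : T.Ok1) : WT0 T.tb (Fx T.F) LL :=
  h.mk0 (fun p => vec (T.P p)) (fun p hp q hq e => h.mono (fun _ _ e => Nat.blt_eq ▸ e) hp hq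
    ((h.good hp).inj (h.good hq) e)) fun i hi p hp => by
      show (T.g0 i : Co0) • vec _ = _
      rw [h.g0 hi, ((rep_el (h.m i hi)).app (h.good hp)).2, (n_beq _ _).mp ((h.pt hp).2 i hi).2.1]

theorem Ok1.pt_eq (h : T.Ok1) (p : ℕ) : h.W.pt p = vec (T.P p) := rfl

/-- pairs `{x, c - x}` -/
def R2 (C a b : ℕ) : Bool := (a =ₙ b) ||ₙ (a +ₙ b =ₙ C)
def S2 (C a b : ℕ) : Bool := Nat.blt a b &&ₙ Nat.blt (b +ₙ b) C

structure Ok2 (T : VT) (c : ℕ) : Prop where
  ok : T.Ok (R2 (c + 2 * O8)) (S2 (c + 2 * O8))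
  hc : (lany (fun f => f =ₙ c) T.F &&ₙ gd c &&ₙ (2 ≤ₙ T.N) &&ₙ
    lall (fun r => ip (T.P r) c +ₙ ip (T.P r) c =ₙ ip c c +ₙ 4608) T.r0) = true

theorem add_eq {a b c : ℕ} (ha : a < 2 ^ 120) (hb : b < 2 ^ 120) (hc : c < 2 ^ 120)
    (h : dv b = dv c - dv a) : a + b = c + 2 * O8 := by
  have := congrArg Zc h
  rw [Zc_sub, eq_sub_of_add_eq (code_eq ha).symm, eq_sub_of_add_eq (code_eq hb).symm,
    eq_sub_of_add_eq (code_eq hc).symm] at this
  omega

theorem P_lt (T : VT) (p : ℕ) : T.P p < 2 ^ 120 := Nat.and_lt_two_pow _ (by norm_num)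

theorem sub_code {a b c : ℕ} (ha : Good a) (hb : b < 2 ^ 120) (hc : Good c)
    (h : 2 * dotInt (dv a) (dv c) = sqNorm (dv c)) (e : a + b = c + 2 * O8) :
    Good b ∧ vec b = vec c - vec a := by
  obtain ⟨b', h1, h2⟩ := exists_good (vec c - vec a) (by
    rw [AddSubgroupClass.coe_sub, ha.coe, hc.coe, sqNorm_sub, dot_comm]
    have := ha.2.2; omega)
  have := add_eq ha.1 h1.1 hc.1 (by rw [← h1.coe, h2, ← ha.coe, ← hc.coe]; rfl)
  rw [show b = b' by omega]
  exact ⟨h1, h2⟩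

variable {c : ℕ}

theorem Ok2.gc (h : T.Ok2 c) : Good c ∧ c ∈ T.F ∧ 2 ≤ T.N ∧
    ∀ r ∈ T.r0, 2 * dotInt (dv (T.P r)) (dv c) = sqNorm (dv c) := by
  have := h.hc
  simp only [band_eq, Bool.and_eq_true, lany_iff, lall_iff, n_beq, n_ble, n_add] at this
  obtain ⟨⟨f, a, rfl⟩, b, d, e⟩ := this
  refine ⟨gd_spec b, a, d, fun r hr => ?_⟩
  have := e r hr
  have := ip_eq (T.P r) f
  have := ip_eq f f
  rw [dot_self] at this
  omega

theorem Ok2.fix (h : T.Ok2 c) (g : Fx T.F) : (g : Co0) • vec c = vec c := mem_Fx.mp g.2 c h.gc.2.1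

theorem Ok2.step (h : T.Ok2 c) {i : ℕ} (hi : i < T.k) {a b : ℕ}
    (ha : Good a ∧ 2 * dotInt (dv a) (dv c) = sqNorm (dv c)) (hb : b < 2 ^ 120)
    (e : R2 (c + 2 * O8) (app (T.K i) a) b = true) :
    (Good b ∧ 2 * dotInt (dv b) (dv c) = sqNorm (dv c)) ∧
      (vec b = el (T.K i) • vec a ∨ vec b = vec c - el (T.K i) • vec a) := by
  obtain ⟨p, q⟩ := (rep_el (h.ok.m i hi)).app ha.1
  have r : 2 * dotInt (dv (app (T.K i) a)) (dv c) = sqNorm (dv c) := by
    have := co_dot (T.g0 i) (vec a) (vec c)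
    rw [h.fix, h.ok.g0 hi, q, p.coe, ha.1.coe, h.gc.1.coe] at this
    rw [this, ha.2]
  simp only [R2, bor_eq, Bool.or_eq_true, n_beq, n_add] at e
  rcases e with rfl | e
  · exact ⟨⟨p, r⟩, Or.inl q.symm⟩
  · obtain ⟨s, t⟩ := sub_code p hb h.gc.1 r e
    refine ⟨⟨s, ?_⟩, Or.inr (q ▸ t)⟩
    rw [← s.coe, t, AddSubgroupClass.coe_sub, p.coe, h.gc.1.coe, sub_dot, dot_self]
    omega

theorem Ok2.good (h : T.Ok2 c) {p : ℕ} (hp : p < T.N) :
    Good (T.P p) ∧ 2 * dotInt (dv (T.P p)) (dv c) = sqNorm (dv c) :=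
  h.ok.inv (fun a => Good a ∧ 2 * dotInt (dv a) (dv c) = sqNorm (dv c))
    (fun r hr a => ⟨a, h.gc.2.2.2 r hr⟩) (fun _ hi _ _ ha hb e => (h.step hi ha hb e).1) hp

theorem Ok2.half (h : T.Ok2 c) {p : ℕ} (hp : p < T.N) : T.P p + T.P p < c + 2 * O8 := by
  have a : ∀ q, q + 1 < T.N → T.P q < T.P (q + 1) ∧ T.P (q + 1) + T.P (q + 1) < c + 2 * O8 :=
    fun q hq => by
      have := (h.ok.pt (p := q) (by omega)).1 hq
      simpa only [S2, band_eq, Bool.and_eq_true, Nat.blt_eq, n_add] using this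
  rcases p with _ | p
  · have := a 0 h.gc.2.2.1; omega
  · exact (a p hp).2

open Classical in
/-- the pair `{x, c - x}` -/
def pr (c x : LL) : Finset LL := {x, c - x}

theorem pr_eq {c x y : LL} : pr c x = pr c y ↔ x = y ∨ x = c - y := by
  classical
  constructor
  · intro h
    have : x ∈ pr c y := h ▸ mem_insert_self _ _
    simpa [pr] using this
  · rintro (rfl | rfl)
    · rfl
    · simp [pr, pair_comm]

open Classical in
theorem smul_pr (g : Co0) (c x : LL) : g • pr c x = pr (g • c) (g • x) := by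
  simp [pr, smul_finset_insert, smul_finset_singleton, smul_sub]

open Classical in
/-- the action on pairs -/
def Ok2.W (h : T.Ok2 c) : WT0 T.tb (Fx T.F) (Finset LL) :=
  h.ok.mk0 (fun p => pr (vec c) (vec (T.P p))) (fun p hp q hq e => by
    refine h.ok.mono (fun a b e => ?_) hp hq ?_
    · simp only [S2, band_eq, Bool.and_eq_true, Nat.blt_eq] at e
      exact e.1
    · rcases pr_eq.mp e with e | e
      · exact (h.good hp).1.inj (h.good hq).1 e
      · have := add_eq (T.P_lt q) (T.P_lt p) h.gc.1.1 (by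
          rw [← (h.good hp).1.coe, ← (h.good hq).1.coe, ← h.gc.1.coe, e]; rfl)
        have := h.half hp
        have := h.half hq
        omega) fun i hi p hp => by
      show (T.g0 i : Co0) • pr _ _ = _
      rw [smul_pr, h.fix, h.ok.g0 hi, eq_comm, pr_eq]
      exact (h.step hi (h.good hp) (T.P_lt _) ((h.ok.pt hp).2 i hi).2.1).2

theorem Ok2.pt_eq (h : T.Ok2 c) (p : ℕ) : h.W.pt p = pr (vec c) (vec (T.P p)) := rfl

end VT

end Le

end

end CfsgH7
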