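import Cfsg.Agent.H7.Le4
import Cfsg.Agent.H7.La

set_option autoImplicit false
set_option maxRecDepth 100000
set_option Elab.async false

/-! The index of the Leech lattice, classes modulo two, the centre and the first Conway group. -/

namespace CfsgH7

namespace Le

open Cfsg Finset MulAction
open scoped symmDiff Pointwise

noncomputable section

/-- reduction modulo four -/
def φ4 : V24 →+ (GolayPt → ZMod 4) :=
  AddMonoidHom.mk' (fun x i => (x i : ZMod 4)) fun x y => by funext i; simp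

theorem φ4_eq {x y : V24} : φ4 x = φ4 y ↔ ∀ i, x i % 4 = y i % 4 := by
  rw [funext_iff]
  exact forall_congr' fun i => (ZMod.intCast_eq_intCast_iff' _ _ 4)

theorem mem_ker4 {x : V24} : x ∈ φ4.ker ↔ ∀ i, x i % 4 = 0 := by
  rw [AddMonoidHom.mem_ker, ← map_zero φ4, φ4_eq]; rfl

theorem card_map4 : Nat.card (leechLattice.map φ4) = 8192 := by
  let f : Bool × Cw → leechLattice.map φ4 := fun p => ⟨φ4 (two p.2 + if p.1 then w3 else 0),
    _, add_mem (Lx_two p.2.2).mem (by split_ifs; exacts [Lx_w3.mem, zero_mem _]), rfl⟩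
  have a : ∀ (p : Bool × Cw) i, (two p.2 + if p.1 then w3 else 0 : V24) i % 4 =
      (if p.1 then 1 else 0) + if i ∈ (p.2 : Finset GolayPt) then 2 else 0 := fun p i => by
    have := Lx_w3.2.2.1 i
    simp only [notMem_empty, if_false] at this
    simp only [Pi.add_apply, two]
    split_ifs <;> (try simp only [Pi.zero_apply]) <;> omega
  rw [← Nat.card_eq_of_bijective f ⟨?_, ?_⟩, Nat.card_prod, card_Cw]
  · simp
  · intro p q e
    have := φ4_eq.mp (congrArg Subtype.val e)
    simp only [a] at this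
    refine Prod.ext ?_ (Subtype.ext (Finset.ext fun i => ?_))
    · have := this none
      split_ifs at this with a b c d <;> first | omega | simp_all
    · have := this i
      split_ifs at this with a b c d <;> first | omega | simp_all
  · rintro ⟨_, x, hx, rfl⟩
    obtain ⟨m, s, h0, hs, h1, -⟩ := mem_leech.mp hx
    refine ⟨(decide (m = 1), ⟨s, hs⟩), Subtype.ext (φ4_eq.mpr fun i => ?_)⟩
    rw [a, h1]
    rcases h0 with rfl | rfl <;> simp

theorem mem_of_ker {x : V24} (h : ∀ i, x i % 4 = 0) : x ∈ leechLattice ↔ (∑ i, x i) % 8 = 0 := by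
  refine ⟨fun hx => ?_, fun hx => (Lx.of_all h hx).mem⟩
  obtain ⟨m, s, h0, -, h1, h2⟩ := mem_leech.mp hx
  have := h1 none
  have := h none
  split_ifs at * <;> omega

theorem leech_index : leechLattice.index = 2 ^ 36 := by
  have a : φ4.ker.index = 4 ^ 24 := by
    rw [AddSubgroup.index_ker, AddMonoidHom.range_eq_top.mpr fun y => ⟨fun i => (y i).val, by
      funext i; simp [φ4]⟩, AddSubgroup.card_top, Nat.card_fun, Nat.card_zmod,
      Nat.card_eq_fintype_card, card_pt]
  have b : leechLattice.relIndex φ4.ker = 2 := by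
    rw [AddSubgroup.relIndex_eq_two_iff]
    have p : ∀ i, (Pi.single none 4 : V24) i % 4 = 0 := fun i => by
      rw [Pi.single_apply]; split_ifs <;> rfl
    refine ⟨Pi.single none 4, mem_ker4.mpr p, fun x hx => ?_⟩
    have hx := mem_ker4.mp hx
    rw [mem_of_ker hx, mem_of_ker fun i => by have := hx i; have := p i; rw [Pi.add_apply]; omega]
    have : (4 : ℤ) ∣ ∑ i, x i := dvd_sum fun i _ => Int.dvd_of_emod_eq_zero (hx i)
    simp only [Pi.add_apply, sum_add_distrib, Finset.sum_pi_single', mem_univ, if_true, Xor]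
    omega
  have c := AddSubgroup.relIndex_mul_index (inf_le_left : φ4.ker ⊓ leechLattice ≤ _)
  have d := AddSubgroup.relIndex_mul_index (inf_le_right : φ4.ker ⊓ leechLattice ≤ _)
  rw [AddSubgroup.inf_relIndex_left, a, b] at c
  rw [AddSubgroup.inf_relIndex_right, AddSubgroup.relIndex_ker, card_map4] at d
  omega

instance : Module.Finite ℤ LL :=
  Module.Finite.of_injective leechLattice.subtype.toIntLinearMap Subtype.val_injective

theorem rank_LL : Module.finrank ℤ LL = 24 := by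
  have : leechLattice.FiniteIndex := ⟨by rw [leech_index]; norm_num⟩
  rw [AddSubgroup.finrank_eq_of_finiteIndex, Module.finrank_fintype_fun_eq_card, card_pt]

/-- the inner product as a biadditive map -/
def dtH : LL →+ LL →+ ℤ :=
  AddMonoidHom.mk' (fun x => AddMonoidHom.mk' (dt x) (dt_add x)) fun x y => by
    ext z; exact add_dt x y z

theorem dtH_self (x : LL) : dtH x x = nm x := dt_self x

theorem nm_min {x : LL} (h : x ≠ 0) : 32 ≤ nm x := leech_min x.2 fun e => h (Subtype.ext e)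

theorem latL : Lat dtH 8 where
  sym := dt_comm
  pos := by norm_num
  min := fun x hx => by rw [dtH_self]; exact nm_min hx
  ev := fun x => by rw [dtH_self]; exact leech_even x.2

theorem mainL : (∀ x : LL, ∃ y, nm y ≤ 64 ∧ ∃ z, x - y = (2 : ℤ) • z) ∧ ∀ x : LL, nm x = 64 →
    {y : LL | nm y = 64 ∧ ∃ z, x - y = (2 : ℤ) • z}.ncard = 48 := by
  have := latL.main rank_LL
  simp only [dtH_self] at this
  exact this nMn ((ncard_LL fun x => sqNorm x = 48).trans ncard48)
    ((ncard_LL fun x => sqNorm x = 64).trans ncard64)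

theorem congL {x y z : V24} (hx : x ∈ leechLattice) (hy : y ∈ leechLattice) (hz : z ∈ leechLattice)
    (a : sqNorm x ≤ 64) (b : sqNorm y ≤ 64) (e : x - y = 2 • z) :
    x = y ∨ x = -y ∨ (sqNorm x = 64 ∧ sqNorm y = 64 ∧ dotInt x y = 0) := by
  have := latL.cong (x := ⟨x, hx⟩) (y := ⟨y, hy⟩) (z := ⟨z, hz⟩) (by rw [dtH_self]; exact a)
    (by rw [dtH_self]; exact b) (Subtype.ext (e.trans (by simp [two_smul])))
  simp only [dtH_self] at this
  exact this.imp (congrArg Subtype.val) (Or.imp (congrArg Subtype.val) id)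

theorem orbE : orbit Co0 (e8 (dec 23)) = {v : LL | nm v = 64} := by
  rw [← orbit_top]
  have := bd_mon (H := ⊤ ⊓ St (e8 (dec 23))) (stabilizer M24 (dec 23)) (fun c => dec 23 ∉ c)
    fun g hg => by
      obtain ⟨σ, c, rfl⟩ := exists_mon_of_cross (g := g) (i := dec 23) (by
        rw [show g • e8 (dec 23) = _ from hg.2]; exact ⟨_, 8, Or.inl rfl, rfl⟩)
      exact ⟨σ, (mon_fix_e8 hg.2).1, c, (mon_fix_e8 hg.2).2, rfl⟩
  rw [pack23.card, ncard_Cw _ (fun m => bnot (tb m 23)) (fun m _ => by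
    simp only [dec_mem_toFs (show 23 < 24 by norm_num), bnot_eq, tb_eq, Bool.not_eq_true',
      Bool.not_eq_true]), show cnt _ 4096 = 2048 by decide +kernel] at this
  exact tr_of_card (finite_LL 64) (fun g _ => (nm_smul g _).trans (norm_e8 _))
    ((ncard_LL fun x => sqNorm x = 64).trans ncard64) this.2
    (Subgroup.card_top.trans card_Co0) (by norm_num)

theorem trE {v : LL} (h : nm v = 64) : ∃ g : Co0, g • e8 (dec 23) = v :=
  (orbE ▸ h : v ∈ orbit Co0 (e8 (dec 23)))

theorem same_norm {v w : LL} (h : nm v = nm w) (h' : nm v ≤ 64) : ∃ g : Co0, g • v = w := by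
  have key : ∀ {u : LL} {n : ℤ}, (∀ {v : LL}, nm v = n → ∃ g : Co0, g • u = v) → nm v = n →
      ∃ g : Co0, g • v = w := fun t e => by
    obtain ⟨g, rfl⟩ := t e
    obtain ⟨k, rfl⟩ := t (h ▸ e)
    exact ⟨k * g⁻¹, by rw [mul_smul, inv_smul_smul]⟩
  by_cases h0 : v = 0
  · subst h0
    exact ⟨1, by rw [one_smul]; exact (Subtype.ext (sqNorm_eq_zero (h.symm.trans rfl))).symm⟩
  have := nm_min h0
  have : (16 : ℤ) ∣ nm v := leech_even v.2
  have : nm v = 32 ∨ nm v = 48 ∨ nm v = 64 := by omega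
  rcases this with a | a | a
  exacts [key trU a, key trV a, key trE a]

theorem min_cases {x y : LL} (hx : nm x = 32) (hy : nm y = 32) :
    y = x ∨ y = -x ∨ dt x y = 0 ∨ dt x y = 16 ∨ dt x y = -16 ∨ dt x y = 8 ∨ dt x y = -8 := by
  by_cases a : y = x
  · exact Or.inl a
  by_cases b : y = -x
  · exact Or.inr (Or.inl b)
  have p := nm_min (sub_ne_zero.mpr (Ne.symm a))
  have q := nm_min (x := x + y) fun e => b (eq_neg_of_add_eq_zero_right e)
  have : (8 : ℤ) ∣ dt x y := leech_dot x.2 y.2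
  rw [nm_sub] at p
  rw [nm_add] at q
  omega

theorem Xd_orb {x : LL} (hx : nm x = 32) (a : x ≠ lU) (b : x ≠ -lU) :
    orbit (St lU) x = Xd lU (dt lU x) ∧ (Xd lU (dt lU x)).ncard =
      if dt lU x = 0 then 93150 else if |dt lU x| = 16 then 4600 else 47104 := by
  have p : ∀ {y : LL} {k : ℤ}, orbit (St lU) y = Xd lU k → dt lU x = k →
      orbit (St lU) x = Xd lU k := fun h e => by
    rw [← h]; exact orbit_eq_iff.mpr (h ▸ ⟨hx, e⟩)
  have q : ∀ {y : LL} {k : ℤ}, orbit (St lU) y = Xd lU k → orbit (St lU) (-y) = Xd lU (-k) :=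
    fun {y k} h => by
      ext z
      have : z ∈ orbit (St lU) (-y) ↔ -z ∈ orbit (St lU) y :=
        ⟨by rintro ⟨g, rfl⟩; exact ⟨g, by simp⟩, fun ⟨g, e⟩ => ⟨g, by simp only [smul_neg] at e ⊢; rw [e, neg_neg]⟩⟩
      rw [this, h]
      simp only [Xd, Set.mem_setOf_eq, nm_neg, dt_neg, neg_eq_iff_eq_neg]
  rcases min_cases nm_U hx with e | e | e | e | e | e | e
  · exact absurd e a
  · exact absurd e b
  · rw [e]; exact ⟨p orb0 e, nU0⟩
  · rw [e]; exact ⟨p orb4600 e, nU16⟩
  · rw [e]; exact ⟨p (q orb4600) e, (Xd_neg _ _).trans nU16⟩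
  · rw [e]; exact ⟨p (q orb8) e, (Xd_neg _ (-8)).trans nU8⟩
  · rw [e]; exact ⟨p orb8 e, nU8⟩

theorem eq_of_min {g h : Co0} (e : ∀ k : Co0, g • k • lU = h • k • lU) : g = h :=
  co_ext (LL_ind (fun v hv => by obtain ⟨k, rfl⟩ := trU hv; exact e k) (by simp)
    (fun v w a b => by rw [smul_add, smul_add, a, b]) fun v a => by rw [smul_neg, smul_neg, a])

theorem neg1_mem : neg1 ∈ Subgroup.center Co0 := Subgroup.mem_center_iff.mpr fun g =>
  co_ext fun v => by simp only [mul_smul, neg1_smul, smul_neg]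

theorem U_ne_neg : -lU ≠ lU := fun e => absurd (congrArg (fun v : LL => (v : V24) none) e) (by decide)

theorem neg1_ne : neg1 ≠ 1 := fun e => U_ne_neg (by rw [← neg1_smul, e, one_smul])

theorem neg1_sq : neg1 * neg1 = 1 := co_ext fun v => by simp [mul_smul, neg1_smul]

theorem mem_center {g : Co0} : g ∈ Subgroup.center Co0 ↔ g = 1 ∨ g = neg1 := by
  refine ⟨fun h => ?_, by rintro (rfl | rfl); exacts [one_mem _, neg1_mem]⟩
  have hc := Subgroup.mem_center_iff.mp h
  by_cases a : g • lU = lU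
  · exact Or.inl (eq_of_min fun k => by rw [← mul_smul, ← hc, mul_smul, a, one_smul])
  by_cases b : g • lU = -lU
  · exact Or.inr (eq_of_min fun k => by rw [← mul_smul, ← hc, mul_smul, b, neg1_smul, smul_neg])
  obtain ⟨p, q⟩ := Xd_orb ((nm_smul g _).trans nm_U) a b
  have : orbit (St lU) (g • lU) ⊆ {g • lU} := by
    rintro _ ⟨⟨k, hk⟩, rfl⟩
    show k • g • lU = g • lU
    rw [← mul_smul, hc, mul_smul, show k • lU = lU from hk]
  have := Set.ncard_le_ncard this
  rw [p, q, Set.ncard_singleton] at this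
  split_ifs at this <;> omega

theorem card_center : Nat.card (Subgroup.center Co0) = 2 := by
  rw [← SetLike.coe_sort_coe, show (Subgroup.center Co0 : Set Co0) = {1, neg1} from
    Set.ext fun _ => mem_center, Nat.card_coe_set_eq, Set.ncard_pair neg1_ne.symm]

theorem top_of_St {M : Subgroup Co0} [hM : M.Normal] (h : St lU ≤ M) : M = ⊤ := by
  have a := card_orbit_mul M lU
  rw [orbU' (fun v hv g hg => by
    obtain ⟨k, rfl⟩ := trU hv
    rw [St_smul, mem_cj] at hg
    simpa [mul_assoc] using hM.conj_mem _ (h hg) k), nMn, inf_eq_right.mpr h, is2.2] at a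
  exact Subgroup.eq_top_of_card_eq _ (by rw [← a, card_Co0])

theorem normal_cases {M : Subgroup Co0} [hM : M.Normal] : M ⊓ St lU = ⊥ ∨ M = ⊤ := by
  have := is2.1
  rcases (inferInstance : (M.subgroupOf (St lU)).Normal).eq_bot_or_eq_top with h | h
  · exact Or.inl (disjoint_iff.mp (Subgroup.subgroupOf_eq_bot.mp h))
  · exact Or.inr (top_of_St (Subgroup.subgroupOf_eq_top.mp h))

theorem normal_Co0 {M : Subgroup Co0} [hM : M.Normal] (hn : neg1 ∈ M) :
    M = Subgroup.center Co0 ∨ M = ⊤ := by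
  refine normal_cases.imp_left fun h => ?_
  have reg : ∀ a ∈ M, ∀ b ∈ M, a • lU = b • lU → a = b := fun a ha b hb e => by
    have : b⁻¹ * a ∈ M ⊓ St lU := ⟨M.mul_mem (M.inv_mem hb) ha, by
      show (b⁻¹ * a) • lU = lU
      rw [mul_smul, e, inv_smul_smul]⟩
    rw [h, Subgroup.mem_bot, inv_mul_eq_one] at this
    exact this.symm
  have hO := card_orbit_mul M lU
  rw [h, Subgroup.card_bot, mul_one] at hO
  set O := orbit M lU with hOd
  have o1 : ∀ x ∈ O, nm x = 32 := by rintro _ ⟨g, rfl⟩; exact (nm_smul g _).trans nm_U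
  have o2 : ∀ x ∈ O, -x ∈ O := by
    rintro _ ⟨g, rfl⟩
    exact ⟨⟨neg1, hn⟩ * g, by simp only [mul_smul, Subgroup.mk_smul, neg1_smul]⟩
  have o3 : ∀ x ∈ O, orbit (St lU) x ⊆ O := by
    rintro _ ⟨⟨g, hg⟩, rfl⟩ _ ⟨⟨k, hk⟩, rfl⟩
    refine ⟨⟨k * g * k⁻¹, hM.conj_mem _ hg k⟩, ?_⟩
    have : k⁻¹ • lU = lU := (St lU).inv_mem hk
    simp only [Subgroup.mk_smul, mul_smul, this]
  have fO : O.Finite := (finite_LL 32).subset o1
  let f : ℤ → ℕ := fun k => {x | x ∈ O ∧ dt lU x = k}.ncard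
  have f1 : ∀ k, f (-k) = f k := fun k => by
    simp only [f]
    rw [← ncard_neg]
    congr 1; ext x
    simp only [Set.mem_setOf_eq, dt_neg, neg_inj]
    exact and_congr_left' ⟨fun a => neg_neg x ▸ o2 _ a, o2 x⟩
  have f2 : f 32 = 1 := by
    rw [← Set.ncard_singleton lU]
    simp only [f]
    congr 1; ext x
    refine ⟨fun a => ?_, by rintro rfl; exact ⟨mem_orbit_self _, (dt_self _).trans nm_U⟩⟩
    have := min_cases nm_U (o1 x a.1)
    have b := a.2
    rcases this with e | e | e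
    · exact e
    · rw [e, dt_neg, dt_self, nm_U] at b; omega
    · omega
  have f3 : ∀ k, |k| ≠ 32 → f k = 0 ∨ f k =
      if k = 0 then 93150 else if |k| = 16 then 4600 else 47104 := fun k hk => by
    rcases Set.eq_empty_or_nonempty {x | x ∈ O ∧ dt lU x = k} with e | ⟨x, a, rfl⟩
    · exact Or.inl (by simp only [f, e, Set.ncard_empty])
    · obtain ⟨p, q⟩ := Xd_orb (o1 x a) (by rintro rfl; rw [dt_self, nm_U] at hk; exact hk rfl)
        (by rintro rfl; rw [dt_neg, dt_self, nm_U] at hk; exact hk rfl)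
      refine Or.inr (Eq.trans ?_ q)
      simp only [f]
      congr 1; ext y
      exact ⟨fun b => ⟨o1 y b.1, b.2⟩, fun b => ⟨o3 x a (p ▸ b), b.2⟩⟩
  have tot : O.ncard = ∑ k ∈ ({32, -32, 0, 16, -16, 8, -8} : Finset ℤ), f k := by
    rw [Set.ncard_eq_toFinset_card _ fO, card_eq_sum_card_fiberwise (f := dt lU)
      (t := {32, -32, 0, 16, -16, 8, -8}) fun x hx => ?_]
    · refine sum_congr rfl fun k _ => ?_
      simp only [f]
      rw [← Set.ncard_coe_finset]
      congr 1; ext x; simp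
    · have hx : x ∈ O := by simpa using hx
      simp only [coe_insert, coe_singleton, Set.mem_insert_iff, Set.mem_singleton_iff]
      rcases min_cases nm_U (o1 x hx) with e | e | e
      · rw [e, dt_self, nm_U]; simp
      · rw [e, dt_neg, dt_self, nm_U]; simp
      · exact Or.inr (Or.inr e)
  rw [sum_insert (by decide), sum_insert (by decide), sum_insert (by decide),
    sum_insert (by decide), sum_insert (by decide), sum_insert (by decide), sum_singleton,
    f1, f1, f1, f2, hO] at tot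
  have dv := Subgroup.card_subgroup_dvd_card M
  rw [card_Co0] at dv
  have key : ∀ p q : ℕ, p.Prime → ∀ a ∈ M, ∀ b ∈ M, orderOf a = p → orderOf b = q → p ≠ 2 →
      |dt lU (a • lU)| = |dt lU (b • lU)| → p ∣ 2 * q := fun p q hp a ha b hb oa ob h2 e => by
    have n1 : a • lU ≠ lU := fun r => hp.one_lt.ne' (by
      rw [← oa, reg a ha 1 (one_mem _) (by rw [r, one_smul]), orderOf_one])
    have n2 : a • lU ≠ -lU := fun r => h2 (by
      rw [← oa, reg a ha neg1 hn (by rw [r, neg1_smul])]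
      exact orderOf_eq_prime (by rw [sq, neg1_sq]) neg1_ne)
    obtain ⟨u, -⟩ := Xd_orb ((nm_smul a _).trans nm_U) n1 n2
    have fin : ∀ c ∈ M, c ^ (2 * q) = 1 → dt lU (c • lU) = dt lU (a • lU) → p ∣ 2 * q :=
      fun c hc c1 c2 => by
        obtain ⟨k, hk, r⟩ := orb_ex u (y := c • lU) ⟨(nm_smul c _).trans nm_U, c2⟩
        have : k⁻¹ • lU = lU := (St lU).inv_mem hk
        rw [← oa, ← orderOf_conj' k a, reg _ (hM.conj_mem _ ha k) c hc (by
          simp only [mul_smul, this, r])]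
        exact orderOf_dvd_of_pow_eq_one c1
    have b1 : b ^ (2 * q) = 1 := by rw [mul_comm, pow_mul, ← ob, pow_orderOf_eq_one, one_pow]
    rcases abs_eq_abs.mp e with r | r
    · exact fin b hb b1 r.symm
    · refine fin (neg1 * b) (mul_mem hn hb) ?_ (by rw [mul_smul, neg1_smul, dt_neg, r])
      rw [Commute.mul_pow (Subgroup.mem_center_iff.mp neg1_mem b).symm, b1, pow_mul, sq, neg1_sq,
        one_pow, one_mul]
  have g0 := f3 0 (by decide)
  have g1 := f3 16 (by decide)
  have g2 := f3 8 (by decide)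
  simp only [show |(16 : ℤ)| = 16 from rfl, show |(8 : ℤ)| = 8 from rfl] at g0 g1 g2
  norm_num at g0 g1 g2
  rcases g0 with g0 | g0 <;> rcases g1 with g1 | g1 <;> rcases g2 with g2 | g2 <;>
    rw [g0, g1, g2] at tot <;> norm_num at tot <;> (try (rw [tot] at dv; norm_num at dv; done))
  · refine (Subgroup.eq_of_le_of_card_ge (fun g hg => ?_) (by rw [tot, card_center])).symm
    rcases mem_center.mp hg with rfl | rfl
    exacts [one_mem _, hn]
  · exfalso
    have ex : ∀ p : ℕ, p.Prime → p ∣ 196560 → p ≠ 2 → ∃ a ∈ M, orderOf a = p ∧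
        (|dt lU (a • lU)| = 0 ∨ |dt lU (a • lU)| = 16 ∨ |dt lU (a • lU)| = 8) := fun p hp hd h2 => by
      have := Fact.mk hp
      obtain ⟨a, ha⟩ := exists_prime_orderOf_dvd_card' (G := M) p (tot ▸ hd)
      have oa : orderOf (a : Co0) = p := by rw [Subgroup.orderOf_coe, ha]
      refine ⟨a, a.2, oa, ?_⟩
      rcases min_cases nm_U ((nm_smul a _).trans nm_U) with e | e | e | e | e | e | e
      · exact absurd (by rw [← oa, reg a a.2 1 (one_mem _) (by rw [e, one_smul]), orderOf_one])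
          hp.one_lt.ne'
      · exact absurd (by
          rw [← oa, reg a a.2 neg1 hn (by rw [e, neg1_smul])]
          exact orderOf_eq_prime (by rw [sq, neg1_sq]) neg1_ne) h2
      all_goals rw [e]; decide
    obtain ⟨a, ha, a1, a2⟩ := ex 3 (by norm_num) (by norm_num) (by norm_num)
    obtain ⟨b, hb, b1, b2⟩ := ex 5 (by norm_num) (by norm_num) (by norm_num)
    obtain ⟨c, hc, c1, c2⟩ := ex 7 (by norm_num) (by norm_num) (by norm_num)
    obtain ⟨d, hd, d1, d2⟩ := ex 13 (by norm_num) (by norm_num) (by norm_num)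
    have := key 3 5 (by norm_num) a ha b hb a1 b1 (by norm_num)
    have := key 3 7 (by norm_num) a ha c hc a1 c1 (by norm_num)
    have := key 3 13 (by norm_num) a ha d hd a1 d1 (by norm_num)
    have := key 5 7 (by norm_num) b hb c hc b1 c1 (by norm_num)
    have := key 5 13 (by norm_num) b hb d hd b1 d1 (by norm_num)
    have := key 7 13 (by norm_num) c hc d hd c1 d1 (by norm_num)
    omega

theorem is1 : IsCo1 (Co0 ⧸ Subgroup.center Co0) := by
  have hc : Nat.card (Co0 ⧸ Subgroup.center Co0) = 4157776806543360000 := by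
    have := Subgroup.card_eq_card_quotient_mul_card_subgroup (Subgroup.center Co0)
    rw [card_Co0, card_center] at this
    omega
  have : Finite (Co0 ⧸ Subgroup.center Co0) := inferInstance
  have : Nontrivial (Co0 ⧸ Subgroup.center Co0) :=
    Finite.one_lt_card_iff_nontrivial.mp (by rw [hc]; norm_num)
  refine ⟨⟨fun N hN => ?_⟩, hc⟩
  rw [← Subgroup.map_comap_eq_self_of_surjective (QuotientGroup.mk'_surjective _) N]
  rcases normal_Co0 (M := N.comap (QuotientGroup.mk' (Subgroup.center Co0))) (by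
    rw [Subgroup.mem_comap, QuotientGroup.mk'_apply, (QuotientGroup.eq_one_iff _).mpr neg1_mem]
    exact one_mem _) with h | h
  · rw [h]; exact Or.inl (QuotientGroup.map_mk'_self _)
  · rw [h]; exact Or.inr (Subgroup.map_top_of_surjective _ (QuotientGroup.mk'_surjective _))

/-! ### configurations -/

theorem cj_tr {g k : Co0} {a b : LL} (h : k • a = b) : (g * k * g⁻¹) • g • a = g • b := by
  rw [conj_smul_smul, h]

theorem trMc {u v : LL} (hu : nm u = 48) (hv : nm v = 32) (h : dt u v = 24) :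
    ∃ g : Co0, g • -lV = u ∧ g • lU = v := by
  obtain ⟨g, a, b⟩ := trVU (v := -u) (by rw [nm_neg, hu]) hv (by rw [neg_dt, h])
  exact ⟨g, by rw [smul_neg, a, neg_neg], b⟩

/-- the second long vector of the Higman-Sims triangle -/
abbrev lY : LL := -(lV + lP)

theorem trHS {v w : LL} (hv : nm v = 48) (hw : nm w = 48) (h : dt v w = -32) :
    ∃ g : Co0, g • lV = v ∧ g • lY = w := by
  obtain ⟨g, a, b⟩ := trVP (w := -(v + w)) hv (by rw [nm_neg, nm_add, hv, hw, h]; rfl)
    (by rw [dt_neg, dt_add, dt_self, hv, h]; rfl)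
  exact ⟨g, a, by rw [smul_neg, smul_add, a, b]; abel⟩

theorem St_VY : St lV ⊓ St lY = St lV ⊓ St lP := Subgroup.ext fun g => by
  simp only [Subgroup.mem_inf, mem_stabilizer_iff, smul_neg, smul_add, neg_inj]
  exact ⟨fun h => ⟨h.1, by simpa [h.1] using h.2⟩, fun h => ⟨h.1, by rw [h.1, h.2]⟩⟩

theorem fixY {g : Co0} (h : g ∈ St lV ⊓ St lP) : g • lY = lY := (St_VY ▸ h : g ∈ St lV ⊓ St lY).2
theorem fixW {g : Co0} (h : g ∈ St lV ⊓ St lU) : g • lW = lW := (St_UW ▸ h : g ∈ St lU ⊓ St lW).2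

theorem mem275 {x : LL} : x ∈ X275 ↔ nm x = 32 ∧ dt (-lV) x = 24 ∧ dt lU x = 16 := by
  simp only [X275, Xd, Set.mem_setOf_eq, neg_dt]; omega
theorem mem100 {x : LL} : x ∈ X100 ↔ nm x = 32 ∧ dt lV x = 24 ∧ dt lY x = -24 := by
  simp only [X100, Xd, Set.mem_setOf_eq, neg_dt, add_dt]; omega
theorem mem352 {x : LL} : x ∈ X352 ↔ nm x = 32 ∧ dt lV x = 16 ∧ dt lY x = -24 := by
  simp only [X352, Xd, Set.mem_setOf_eq, neg_dt, add_dt]; omega
theorem mem2025 {x : LL} : x ∈ X2025 ↔ nm x = 32 ∧ dt lU x = 0 ∧ dt lW x = 16 := by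
  simp only [X2025, Xd, Set.mem_setOf_eq, neg_dt, add_dt]; omega

theorem orb_two {H : Subgroup Co0} {x : LL} {Y : Set LL} (h : orbit H x = Y) {y z : LL}
    (hy : y ∈ Y) (hz : z ∈ Y) : ∃ g ∈ H, g • y = z := by
  obtain ⟨a, ha, rfl⟩ := orb_ex h hy
  obtain ⟨b, hb, rfl⟩ := orb_ex h hz
  exact ⟨b * a⁻¹, mul_mem hb (inv_mem ha), by rw [mul_smul, inv_smul_smul]⟩

/-- orbits described by the inner product with a fixed vector -/
theorem orb_lab {T : VT} (h : T.Ok1) {Y : Set LL} (hY : Y = h.W.X) {H : Subgroup Co0}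
    (hs : ∀ g ∈ H, ∀ y ∈ Y, g • y ∈ Y) {a : ℕ} (hx : ∀ g ∈ H, g • vec a = vec a) {S R : List ℕ}
    (hS : ∀ g ∈ h.W.clo S, (g : Co0) ∈ H) (hc : (T.tb.covChk S R &&ₙ gd a &&ₙ lall (fun r =>
      lall (fun s => (r =ₙ s) ||ₙ bnot (ip a (T.P r) =ₙ ip a (T.P s))) R) R) = true) {y : LL}
    (hy : y ∈ Y) : orbit H y = {z | z ∈ Y ∧ dt (vec a) z = dt (vec a) y} := by
  simp only [band_eq (T.tb.covChk _ _), band_eq (gd _), Bool.and_eq_true, lall_iff, bor_eq,
    Bool.or_eq_true, n_beq, bnot_eq, Bool.not_eq_true', n_beq_false] at hc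
  refine Set.Subset.antisymm ?_ fun z hz => ?_
  · rintro _ ⟨g, rfl⟩
    exact ⟨hs g g.2 y hy, dt_fix (hx g g.2) y⟩
  · obtain ⟨g, hg, e⟩ := h.W.lab hc.1 (dt (vec a)) (fun g hg x => dt_fix (hx _ (hS g hg)) x)
      (fun r hr s hs' p q e => (hc.2.2 r hr s hs').resolve_right fun n => n (by
        have b := ip_eq a (T.P r)
        have c := ip_eq a (T.P s)
        rw [h.pt_eq, h.pt_eq, dt, dt, (gd_spec hc.2.1).coe, (h.good p).coe, (h.good q).coe] at e
        omega)) (hY ▸ hy) (hY ▸ hz.1) hz.2.symm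
    exact ⟨⟨g, hS g hg⟩, e⟩

theorem clo_mem {T : VT} (h : T.Ok1) {K : Subgroup Co0} (hK : Fx T.F = K) {S : List ℕ} {b : ℕ}
    (hf : T.tb.fixes S [b] = true) : ∀ g ∈ h.W.clo S, (g : Co0) ∈ K ⊓ St (vec (T.P b)) :=
  fun g hg => ⟨hK ▸ g.2, h.W.clo_le_st hf hg⟩

end

end Le

end CfsgH7
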