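import Cfsg.Agent.H7.Le5

set_option autoImplicit false
set_option maxRecDepth 100000
set_option Elab.async false

/-! Rank and subdegrees of the actions on configurations of minimal vectors. -/

namespace CfsgH7

namespace Le

open Cfsg Finset MulAction
open scoped symmDiff Pointwise

noncomputable section

/-- minimal vectors with two prescribed inner products -/
def Y2 (u v : LL) (a b : ℤ) : Set LL := {x | nm x = 32 ∧ dt u x = a ∧ dt v x = b}

variable {u v x : LL} {a b : ℤ}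

theorem Y2_smul (g : Co0) : g • x ∈ Y2 (g • u) (g • v) a b ↔ x ∈ Y2 u v a b := by
  simp only [Y2, Set.mem_setOf_eq, nm_smul, dt_smul]

theorem ncard_g (g : Co0) (P : LL → Prop) : {x | P (g • x)}.ncard = {x | P x}.ncard := by
  rw [← Set.ncard_image_of_injective _ (MulAction.injective g)]
  congr 1
  ext x
  exact ⟨by rintro ⟨y, h, rfl⟩; exact h, fun h => ⟨g⁻¹ • x, by simpa using h, smul_inv_smul _ _⟩⟩

theorem Y2_card (g : Co0) : (Y2 (g • u) (g • v) a b).ncard = (Y2 u v a b).ncard := by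
  rw [Y2, ← ncard_g g]; simp only [nm_smul, dt_smul]; rfl

theorem Xd_card (g : Co0) : (Xd (g • u) a).ncard = (Xd u a).ncard := by
  rw [Xd, ← ncard_g g]; simp only [nm_smul, dt_smul]; rfl

theorem eq_of_dt {x y : LL} (hx : nm x = 32) (hy : nm y = 32) (h : dt x y = 32) : y = x := by
  rcases min_cases hx hy with e | e | e
  · exact e
  · rw [e, dt_neg, dt_self, hx] at h; omega
  · omega

/-- transitivity on a configuration -/
def Tr (u v : LL) (a b : ℤ) : Prop :=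
  ∀ x ∈ Y2 u v a b, ∀ y ∈ Y2 u v a b, ∃ g : Co0, g • u = u ∧ g • v = v ∧ g • x = y

theorem Tr.smul (h : Tr u v a b) (g : Co0) : Tr (g • u) (g • v) a b := fun x hx y hy => by
  obtain ⟨x, rfl⟩ := MulAction.surjective g x
  obtain ⟨y, rfl⟩ := MulAction.surjective g y
  obtain ⟨k, a, b, c⟩ := h x ((Y2_smul g).mp hx) y ((Y2_smul g).mp hy)
  exact ⟨_, cj_tr a, cj_tr b, cj_tr c⟩

theorem Tr.of {H : Subgroup Co0} (hH : ∀ g ∈ H, g • u = u ∧ g • v = v)
    (h : orbit H x = Y2 u v a b) : Tr u v a b := fun _ hy _ hz => by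
  obtain ⟨g, hg, e⟩ := orb_two h hy hz
  exact ⟨g, (hH g hg).1, (hH g hg).2, e⟩

/-- the suborbits at a point -/
def Loc (u v : LL) (a b : ℤ) (L : List (ℕ × ℕ)) (x : LL) : Prop :=
  (∀ y ∈ Y2 u v a b, ∀ z ∈ Y2 u v a b, dt x z = dt x y →
    ∃ g : Co0, g • u = u ∧ g • v = v ∧ g • x = x ∧ g • y = z) ∧
  (∀ p ∈ L, {z | z ∈ Y2 u v a b ∧ dt x z = p.1 - 4608}.ncard = p.2) ∧
  ∀ z ∈ Y2 u v a b, z = x ∨ ∃ p ∈ L, dt x z = p.1 - 4608

variable {L : List (ℕ × ℕ)}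

theorem Loc.smul (h : Loc u v a b L x) (g : Co0) : Loc (g • u) (g • v) a b L (g • x) := by
  refine ⟨fun y hy z hz e => ?_, fun p hp => ?_, fun z hz => ?_⟩
  · obtain ⟨y, rfl⟩ := MulAction.surjective g y
    obtain ⟨z, rfl⟩ := MulAction.surjective g z
    rw [dt_smul, dt_smul] at e
    obtain ⟨k, a, b, c, d⟩ := h.1 y ((Y2_smul g).mp hy) z ((Y2_smul g).mp hz) e
    exact ⟨_, cj_tr a, cj_tr b, cj_tr c, cj_tr d⟩
  · rw [← ncard_g g, ← h.2.1 p hp]; simp only [Y2_smul, dt_smul]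
  · obtain ⟨z, rfl⟩ := MulAction.surjective g z
    rw [dt_smul]
    exact (h.2.2 z ((Y2_smul g).mp hz)).imp_left (congrArg _)

theorem Loc.all (h : Loc u v a b L x) (hx : x ∈ Y2 u v a b) (t : Tr u v a b) {y : LL}
    (hy : y ∈ Y2 u v a b) : Loc u v a b L y := by
  obtain ⟨g, a, b, rfl⟩ := t x hx y hy
  have := h.smul g
  rwa [a, b] at this

theorem Loc.orb (h : Loc u v a b L x) {y : LL} (hy : y ∈ Y2 u v a b) :
    orbit ↥(St u ⊓ St v ⊓ St x) y = {z | z ∈ Y2 u v a b ∧ dt x z = dt x y} := by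
  refine Set.Subset.antisymm ?_ fun z hz => ?_
  · rintro _ ⟨⟨g, ⟨p, q⟩, r⟩, rfl⟩
    have := (Y2_smul g).mpr hy
    rw [show g • u = u from p, show g • v = v from q] at this
    exact ⟨this, dt_fix r y⟩
  · obtain ⟨g, p, q, r, e⟩ := h.1 y hy z hz.1 hz.2
    exact ⟨⟨g, ⟨p, q⟩, r⟩, e⟩

theorem Loc.ex (h : Loc u v a b L x) {p : ℕ × ℕ} (hp : p ∈ L) (h0 : p.2 ≠ 0) :
    ∃ y ∈ Y2 u v a b, dt x y = p.1 - 4608 ∧ (orbit ↥(St u ⊓ St v ⊓ St x) y).ncard = p.2 := by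
  obtain ⟨y, a, b⟩ := Set.nonempty_of_ncard_ne_zero (h.2.1 p hp ▸ h0)
  exact ⟨y, a, b, by rw [h.orb a, b, h.2.1 p hp]⟩

theorem Loc.tab {T : VT} (h : T.Ok1) (hY : Y2 u v a b = h.W.X)
    (hF : ∀ g ∈ Fx T.F, g • u = u ∧ g • v = v) {c : ℕ} {S R : List ℕ}
    (hS : ∀ g ∈ h.W.clo S, (g : Co0) • vec c = vec c)
    (hc : (T.tb.covChk S R &&ₙ gd c &&ₙ lall (fun r =>
      lall (fun s => (r =ₙ s) ||ₙ bnot (ip c (T.P r) =ₙ ip c (T.P s))) R) R) = true)
    (hd : ((ip c c =ₙ 4640) &&ₙ lall (fun r => (ip c (T.P r) =ₙ 4640) ||ₙ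
      lany (fun p => ip c (T.P r) =ₙ p.1) L) R &&ₙ lall (fun p =>
        cnt (fun i => force (T.P i) fun d => ip c d =ₙ p.1) T.N =ₙ p.2) L) = true) :
    Loc u v a b L (vec c) := by
  have hs : ∀ g ∈ St u ⊓ St v ⊓ St (vec c), ∀ y ∈ Y2 u v a b, g • y ∈ Y2 u v a b := fun g hg y hy => by
    have := (Y2_smul g).mpr hy
    rwa [show g • u = u from hg.1.1, show g • v = v from hg.1.2] at this
  have ho := fun y => orb_lab h hY hs (y := y) (fun g hg => hg.2) (fun g hg => ⟨hF _ g.2, hS g hg⟩) hc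
  simp only [band_eq (T.tb.covChk _ _), band_eq (gd _), Bool.and_eq_true] at hc
  simp only [band_eq, Bool.and_eq_true, lall_iff, bor_eq, Bool.or_eq_true, lany_iff] at hd
  have gc := gd_spec hc.2.1
  refine ⟨fun y hy z hz e => ?_, fun p hp => (Ok1_cnt h hY gc p.1).trans
    ((n_beq _ _).mp (hd.2.2 p hp)), fun z hz => ?_⟩
  · obtain ⟨g, hg, r⟩ := orb_ex (ho y hy) ⟨hz, e⟩
    exact ⟨g, hg.1.1, hg.1.2, hg.2, r⟩
  · obtain ⟨r, hr, q, g, hg, e⟩ := h.W.cov hc.1 (hY ▸ hz)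
    have : dt (vec c) z = dt (vec c) (vec (T.P r)) := by
      rw [← e, h.pt_eq]; exact dt_fix (hS g hg) _
    rw [this]
    rcases hd.2.1 r hr with s | ⟨p, hp, s⟩
    · exact Or.inl (eq_of_dt (gc.norm hd.1) hz.1 (this.trans (gc.dot (h.good q) s)))
    · exact Or.inr ⟨p, hp, gc.dot (h.good q) s⟩

theorem Y275 : Y2 (-lV) lU 24 16 = X275 := Set.ext fun _ => mem275.symm
theorem Y100 : Y2 lV lY 24 (-24) = X100 := Set.ext fun _ => mem100.symm
theorem Y352 : Y2 lV lY 16 (-24) = X352 := Set.ext fun _ => mem352.symm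
theorem Y2025 : Y2 lU lW 0 16 = X2025 := Set.ext fun _ => mem2025.symm
theorem Y2_self : Y2 u u a a = Xd u a := Set.ext fun _ => by simp [Y2, Xd]

theorem fM {g : Co0} (h : g ∈ St lV ⊓ St lU) : g • -lV = -lV ∧ g • lU = lU :=
  ⟨by rw [smul_neg, show g • lV = lV from h.1], h.2⟩

theorem c275 (hu : nm u = 48) (hv : nm v = 32) (h : dt u v = 24) : (Y2 u v 24 16).ncard = 275 ∧
    Tr u v 24 16 ∧ ∀ x ∈ Y2 u v 24 16, Loc u v 24 16 [(4616, 112), (4624, 162)] x := by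
  obtain ⟨g, rfl, rfl⟩ := trMc hu hv h
  have t : Tr (-lV) lU 24 16 := Tr.of (fun _ => fM) (orb275.trans Y275.symm)
  have e := Y275.trans X275_eq
  refine ⟨by rw [Y2_card, Y275, n275], t.smul g, fun x hx => ((Loc.tab McL.Aok e
    (fun _ hg => fM (Fx_VU ▸ hg)) (c := McL.A.P 0) (S := [0x1, 0x20001, 0x40001]) (R := [0, 1, 6])
    (fun k hk => McL.Aok.W.clo_le_st (b := 0) (by decide +kernel) hk) (by decide +kernel)
    (by decide +kernel)).smul g).all ((Y2_smul g).mpr ?_) (t.smul g) hx⟩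
  rw [e]; exact ⟨0, by decide, rfl⟩

theorem fH {g : Co0} (h : g ∈ St lV ⊓ St lP) : g • lV = lV ∧ g • lY = lY := ⟨h.1, fixY h⟩

theorem c100 (hu : nm u = 48) (hv : nm v = 48) (h : dt u v = -32) :
    (Y2 u v 24 (-24)).ncard = 100 ∧ Tr u v 24 (-24) ∧
      ∀ x ∈ Y2 u v 24 (-24), Loc u v 24 (-24) [(4616, 22), (4624, 77)] x := by
  obtain ⟨g, rfl, rfl⟩ := trHS hu hv h
  have t : Tr lV lY 24 (-24) := Tr.of (fun _ => fH) (orb100.trans Y100.symm)
  have e := Y100.trans X100_eq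
  refine ⟨by rw [Y2_card, Y100, n100], t.smul g, fun x hx => ((Loc.tab HS.Aok e
    (fun _ hg => fH (Fx_VP ▸ hg)) (c := HS.A.P 0) (S := [0x1, 0x20001, 0x40001]) (R := [0, 1, 78])
    (fun k hk => HS.Aok.W.clo_le_st (b := 0) (by decide +kernel) hk) (by decide +kernel)
    (by decide +kernel)).smul g).all ((Y2_smul g).mpr ?_) (t.smul g) hx⟩
  rw [e]; exact ⟨0, by decide, rfl⟩

theorem c352 (hu : nm u = 48) (hv : nm v = 48) (h : dt u v = -32) :
    (Y2 u v 16 (-24)).ncard = 352 ∧ Tr u v 16 (-24) := by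
  obtain ⟨g, rfl, rfl⟩ := trHS hu hv h
  exact ⟨by rw [Y2_card, Y352, n352], (Tr.of (fun _ => fH) (orb352.trans Y352.symm)).smul g⟩

theorem fW {g : Co0} (h : g ∈ St lV ⊓ St lU) : g • lU = lU ∧ g • lW = lW := ⟨h.2, fixW h⟩

theorem c2025 (hu : nm u = 32) (hv : nm v = 32) (h : dt u v = -8) :
    (Y2 u v 0 16).ncard = 2025 ∧ Tr u v 0 16 ∧
      ∀ x ∈ Y2 u v 0 16, Loc u v 0 16 [(4608, 330), (4624, 462), (4616, 1232)] x := by
  obtain ⟨g, rfl, rfl⟩ := trUW hu hv h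
  have t : Tr lU lW 0 16 := Tr.of (fun _ => fW) (orb2025.trans Y2025.symm)
  have e := Y2025.trans X2025_eq
  refine ⟨by rw [Y2_card, Y2025, n2025], t.smul g, fun x hx => ((Loc.tab McL.Bok e
    (fun _ hg => fW (Fx_VU ▸ hg)) (c := McL.B.P 0) (S := [0x20001, 0x42064600007, 0x202040006])
    (R := [0, 1, 5, 129])
    (fun k hk => McL.Bok.W.clo_le_st (b := 0) (by decide +kernel) hk) (by decide +kernel)
    (by decide +kernel)).smul g).all ((Y2_smul g).mpr ?_) (t.smul g) hx⟩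
  rw [e]; exact ⟨0, by decide, rfl⟩

theorem c11178 (hu : nm u = 48) (hx : nm x = 32) (h : dt u x = -16) :
    Loc u u (-16) (-16) [(4600, 352), (4624, 1100), (4608, 4125), (4616, 5600)] x := by
  obtain ⟨g, rfl, rfl⟩ := trVP hu hx h
  have := Loc.tab HS2.Dok (Y2_self.trans XD) (L := [(4600, 352), (4624, 1100), (4608, 4125), (4616, 5600)])
    (fun _ hg => ⟨(Fx_VP ▸ hg : _ ∈ St lV ⊓ St lP).1, (Fx_VP ▸ hg : _ ∈ St lV ⊓ St lP).1⟩) (c := cP)
    (S := [0x1, 0x20001]) (R := [11177, 0, 4640, 1, 516])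
    (fun k _ => vec_P ▸ (Fx_VP ▸ k.2 : _ ∈ St lV ⊓ St lP).2) (by decide +kernel) (by decide +kernel)
  rw [vec_P] at this
  exact this.smul g

theorem sub_iff {n : ℤ} (hu : nm u = 48) (hx : nm x = 32) :
    sqNorm ((u : V24) - (x : V24)) = n ↔ dt u x * 2 = 80 - n := by
  have := nm_sub u x
  rw [show sqNorm ((u : V24) - (x : V24)) = nm (u - x) from rfl]
  omega

theorem mem_mc (hu : nm u = 48) : (nm x = 32 ∧ sqNorm ((u : V24) - (x : V24)) = 32 ∧ dt v x = 16) ↔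
    x ∈ Y2 u v 24 16 :=
  and_congr_right fun a => and_congr_left' (by rw [sub_iff hu a]; omega)

end

end Le

end CfsgH7
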