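import Cfsg.Agent.H7.Golay
import Cfsg.Agent.H7.Grp
import Cfsg.Prelude.Def_Spor_Mathieu

set_option autoImplicit false
set_option maxRecDepth 100000

/-! The group of the Golay code: tables, order, stabiliser chain, transitivity. -/

namespace CfsgH7

open Cfsg MulAction
open scoped Pointwise symmDiff

noncomputable section

def F24 : Fmt := ⟨nat_lit 24, nat_lit 5, nat_lit 31⟩

def A24 : Act (Equiv.Perm GolayPt) GolayPt where
  F := F24
  pt := dec
  ok := ⟨rfl, by decide⟩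
  inj := fun _ hi _ hj h => dec_inj hi hj h
  faith := fun g hg => Equiv.ext fun x => (forall_pt (P := fun x => g • x = x)).mpr hg x

/-- the action of the code's group -/
def AM : Act M24 GolayPt := A24.sub M24

theorem A24_F : A24.F = F24 := rfl
theorem AM_F : AM.F = F24 := rfl
theorem AM_rep {g : M24} {t : ℕ} : AM.Rep g t ↔ A24.Rep g t := Iff.rfl

theorem exists_rep24 (σ : Equiv.Perm GolayPt) : ∃ t, A24.Rep σ t := by
  refine ⟨pack 5 (fun i => enc (σ (dec i))) 24, fun i hi => ?_⟩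
  have : A24.F.g (pack 5 (fun i => enc (σ (dec i))) 24) i = enc (σ (dec i)) :=
    Fmt.g_pack A24.ok _ (fun j _ => lt_trans (enc_lt _) (by decide)) hi
  rw [this]
  exact ⟨enc_lt _, (dec_enc _).symm⟩

theorem exists_repM (g : M24) : ∃ t, AM.Rep g t := exists_rep24 g

theorem rep24_apply {σ : Equiv.Perm GolayPt} {t : ℕ} (h : A24.Rep σ t) {i : ℕ} (hi : i < 24) :
    σ (dec i) = dec (F24.g t i) := (h i hi).2

theorem rep24_lt {σ : Equiv.Perm GolayPt} {t : ℕ} (h : A24.Rep σ t) {i : ℕ} (hi : i < 24) :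
    F24.g t i < 24 := (h i hi).1

/-- image of a mask under a table -/
def actm (t m : ℕ) : ℕ := orN (fun i => (m >>ₙ i &ₙ nat_lit 1) <<ₙ F24.g t i) (nat_lit 24)

theorem testBit_actm (t m j : ℕ) :
    (actm t m).testBit j = true ↔ ∃ i < 24, m.testBit i = true ∧ F24.g t i = j := by
  rw [actm, testBit_orN]
  refine exists_congr fun i => and_congr_right fun _ => ?_
  have := bit_mul m i 1
  rw [mul_one] at this
  simp only [n_shl, n_and, n_shr, this]
  split_ifs with h
  · simp [h, Nat.one_shiftLeft, Nat.testBit_two_pow]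
  · simp [h]

theorem actm_lt {σ : Equiv.Perm GolayPt} {t : ℕ} (h : A24.Rep σ t) (m : ℕ) :
    actm t m < 2 ^ 24 := by
  apply lt_two_pow_of_testBit
  intro j hj
  rw [← Bool.not_eq_true, testBit_actm]
  rintro ⟨i, hi, -, h2⟩
  have := rep24_lt h hi
  omega

theorem smul_toFs {σ : Equiv.Perm GolayPt} {t : ℕ} (h : A24.Rep σ t) (m : ℕ) :
    σ • toFs m = toFs (actm t m) := by
  ext x
  rw [Finset.mem_smul_finset, mem_toFs, testBit_actm]
  constructor
  · rintro ⟨y, hy, rfl⟩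
    obtain ⟨i, hi, rfl⟩ := exists_dec y
    refine ⟨i, hi, (dec_mem_toFs hi).mp hy, ?_⟩
    rw [Equiv.Perm.smul_def, rep24_apply h hi, enc_dec (rep24_lt h hi)]
  · rintro ⟨i, hi, h1, h2⟩
    exact ⟨dec i, (dec_mem_toFs hi).mpr h1, by
      rw [Equiv.Perm.smul_def, rep24_apply h hi, h2, dec_enc]⟩

/-- the table describes a permutation -/
def isPerm (t : ℕ) : Bool := actm t (nat_lit 16777215) =ₙ nat_lit 16777215

theorem exists_of_isPerm {t : ℕ} (h : isPerm t = true) : ∃ σ, A24.Rep σ t := by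
  rw [isPerm, n_beq] at h
  have hb : ∀ j, (∃ i < 24, F24.g t i = j) ↔ j < 24 := by
    intro j
    have h1 := testBit_actm t 16777215 j
    have h2 : ∀ i, Nat.testBit 16777215 i = decide (i < 24) := Nat.testBit_two_pow_sub_one 24
    rw [show actm t 16777215 = 16777215 from h, h2, decide_eq_true_iff] at h1
    rw [h1]
    refine exists_congr fun i => and_congr_right fun hi => ?_
    simp [h2, hi]
  have hs : Function.Surjective fun x => dec (F24.g t (enc x)) := by
    intro y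
    obtain ⟨i, hi, e⟩ := (hb (enc y)).mpr (enc_lt y)
    exact ⟨dec i, by simp only [enc_dec hi, e, dec_enc]⟩
  refine ⟨Equiv.ofBijective _ hs.bijective_of_finite, fun i hi => ⟨(hb _).mp ⟨i, hi, rfl⟩, ?_⟩⟩
  show dec (F24.g t (enc (dec i))) = _
  rw [enc_dec hi]; rfl

theorem smul_symmDiff' (σ : Equiv.Perm GolayPt) (s u : Finset GolayPt) :
    σ • (s ∆ u) = (σ • s) ∆ (σ • u) := Finset.image_symmDiff _ _ σ.injective

theorem smul_compl' (σ : Equiv.Perm GolayPt) (s : Finset GolayPt) : σ • sᶜ = (σ • s)ᶜ := by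
  ext x
  simp only [← Finset.inv_smul_mem_iff, Finset.mem_compl]

theorem smul_univ' (σ : Equiv.Perm GolayPt) : σ • (Finset.univ : Finset GolayPt) = Finset.univ := by
  ext x
  simp only [← Finset.inv_smul_mem_iff, Finset.mem_univ]

theorem mem_M24_iff {σ : Equiv.Perm GolayPt} : σ ∈ M24 ↔ ∀ s ∈ Cw, σ • s ∈ Cw := by
  rw [MulAction.mem_stabilizer_iff]
  constructor
  · intro h s hs
    rw [← show σ • Cw = Cw from h]
    exact Set.smul_mem_smul_set hs
  · intro h
    refine Set.eq_of_subset_of_ncard_le ?_ (ncard_smul' σ Cw).ge (Set.toFinite _)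
    rintro _ ⟨s, hs, rfl⟩
    exact h s hs

/-- the table describes an element of the group -/
def inM24 (t : ℕ) : Bool := isPerm t &&ₙ all (fun j => force (actm t (row j)) isCode) (nat_lit 12)

theorem rep_inM24 {σ : Equiv.Perm GolayPt} {t : ℕ} (h : A24.Rep σ t)
    (hc : all (fun j => force (actm t (row j)) isCode) (nat_lit 12) = true) : σ ∈ M24 := by
  rw [mem_M24_iff]
  intro s hs
  obtain ⟨k, hk, rfl⟩ := mem_Cw_iff'.mp hs
  rw [cw_eq_lin hk]
  refine lin_induction row (fun m => σ • toFs m ∈ Cw) (by simpa using Cw_empty) ?_ 12 ?_ k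
  · intro a b ha hb
    rw [toFs_xor, smul_symmDiff']
    exact Cw_symmDiff ha hb
  · intro j hj
    have := (all_iff _ _).mp hc j hj
    rw [force_eq] at this
    rw [smul_toFs h, toFs_mem_Cw (actm_lt h _)]
    exact this

theorem exists_of_inM24 {t : ℕ} (h : inM24 t = true) : ∃ σ ∈ M24, A24.Rep σ t := by
  simp only [inM24, band_eq, Bool.and_eq_true] at h
  obtain ⟨σ, hσ⟩ := exists_of_isPerm h.1
  exact ⟨σ, rep_inM24 hσ h.2, hσ⟩

theorem mem_of_inM24 {σ : Equiv.Perm GolayPt} {t : ℕ} (hσ : A24.Rep σ t) (h : inM24 t = true) :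
    σ ∈ M24 := by
  simp only [inM24, band_eq, Bool.and_eq_true] at h
  exact rep_inM24 hσ h.2

theorem existsM {t : ℕ} (h : inM24 t = true) : ∃ g : M24, AM.Rep g t :=
  let ⟨σ, h1, h2⟩ := exists_of_inM24 h; ⟨⟨σ, h1⟩, h2⟩

theorem valid24 {S : List ℕ} (h : lall inM24 S = true) : ∀ t ∈ S, ∃ g ∈ M24, A24.Rep g t :=
  fun t ht => exists_of_inM24 ((lall_iff _ _).mp h t ht)

theorem validM {S : List ℕ} (h : lall inM24 S = true) : AM.Valid S := Act.sub_valid (valid24 h)

theorem validM' {S : List ℕ} (h : lall inM24 S = true) :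
    ∀ t ∈ S, ∃ g ∈ (⊤ : Subgroup M24), AM.Rep g t :=
  fun t ht => let ⟨g, hg⟩ := validM h t ht; ⟨g, trivial, hg⟩

theorem smul_mem_Cw {σ : Equiv.Perm GolayPt} (h : σ ∈ M24) {s : Finset GolayPt} :
    σ • s ∈ Cw ↔ s ∈ Cw :=
  ⟨fun hs => by simpa using mem_M24_iff.mp (M24.inv_mem h) _ hs, mem_M24_iff.mp h s⟩

theorem smul_mem_octads {σ : Equiv.Perm GolayPt} (h : σ ∈ M24) {s : Finset GolayPt} :
    σ • s ∈ octads ↔ s ∈ octads := by
  rw [mem_octads, mem_octads, smul_mem_Cw h, Finset.card_smul_finset]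

theorem smul_mem_dodecads {σ : Equiv.Perm GolayPt} (h : σ ∈ M24) {s : Finset GolayPt} :
    σ • s ∈ dodecads ↔ s ∈ dodecads := by
  rw [mem_dodecads, mem_dodecads, smul_mem_Cw h, Finset.card_smul_finset]

theorem msmul_def {X : Type*} [MulAction (Equiv.Perm GolayPt) X] (g : M24) (x : X) :
    g • x = (g : Equiv.Perm GolayPt) • x := rfl

theorem card_symmDiff' (s u : Finset GolayPt) :
    (s ∆ u).card + 2 * (s ∩ u).card = s.card + u.card := by
  have h1 := Finset.card_sdiff_add_card_inter s u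
  have h2 := Finset.card_sdiff_add_card_inter u s
  rw [Finset.inter_comm u s] at h2
  rw [Finset.symmDiff_def, Finset.card_union_of_disjoint disjoint_sdiff_sdiff]
  omega

theorem eq_of_symmDiff_card {s u : Finset GolayPt} (h : s ∆ u ∈ Cw) (h8 : (s ∆ u).card < 8) :
    s = u := by
  have := Cw_card h
  have h0 : (s ∆ u).card = 0 := by omega
  rwa [Finset.card_eq_zero, Finset.symmDiff_eq_empty] at h0

theorem octad_eq_of_inter {o o' : Finset GolayPt} (ho : o ∈ octads) (ho' : o' ∈ octads)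
    (h : 5 ≤ (o ∩ o').card) : o = o' := by
  refine eq_of_symmDiff_card (Cw_symmDiff ho.1 ho'.1) ?_
  have := card_symmDiff' o o'
  have h1 : o.card = 8 := ho.2
  have h2 : o'.card = 8 := ho'.2
  omega

/-- an element of the group fixing five points of an octad fixes the octad -/
theorem smul_octad_of_fix {σ : Equiv.Perm GolayPt} (h : σ ∈ M24) {o P : Finset GolayPt}
    (ho : o ∈ octads) (hP : ∀ x ∈ P, σ x = x) (h5 : 5 ≤ (o ∩ P).card) : σ • o = o := by
  refine octad_eq_of_inter ((smul_mem_octads h).mpr ho) ho (h5.trans (Finset.card_le_card ?_))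
  intro x hx
  rw [Finset.mem_inter] at hx ⊢
  exact ⟨Finset.mem_smul_finset.mpr ⟨x, hx.1, hP x hx.2⟩, hx.1⟩

/-- points that can be the image of `i` -/
def detM (P i : ℕ) (os : List ℕ) : ℕ :=
  List.rec (P ^ₙ nat_lit 16777215) (fun o _ r => r &ₙ ite' (tb o i) o (o ^ₙ nat_lit 16777215)) os

/-- a derivation that fixing the points of `P` forces fixing all points -/
def detChk (st : List (ℕ × List ℕ)) : ℕ → Bool :=
  List.rec (fun P => P =ₙ nat_lit 16777215) (fun s _ r P => (Nat.succ s.1 ≤ₙ nat_lit 24) &&ₙ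
    bnot (tb P s.1) &&ₙ lall (fun o => isOct o &&ₙ (nat_lit 5 ≤ₙ pc24 (o &ₙ P))) s.2 &&ₙ
    (detM P s.1 s.2 =ₙ nat_lit 1 <<ₙ s.1) &&ₙ force (P |ₙ nat_lit 1 <<ₙ s.1) r) st

theorem isOct_lt {m : ℕ} (h : isOct m = true) : m < 2 ^ 24 := by
  simp only [isOct, band_eq, Bool.and_eq_true] at h; exact isCode_lt h.1
theorem isDod_lt {m : ℕ} (h : isDod m = true) : m < 2 ^ 24 := by
  simp only [isDod, band_eq, Bool.and_eq_true] at h; exact isCode_lt h.1
theorem isOct_isCode {m : ℕ} (h : isOct m = true) : isCode m = true := by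
  simp only [isOct, band_eq, Bool.and_eq_true] at h; exact h.1
theorem isDod_isCode {m : ℕ} (h : isDod m = true) : isCode m = true := by
  simp only [isDod, band_eq, Bool.and_eq_true] at h; exact h.1
theorem oct_of {m : ℕ} (h : isOct m = true) : toFs m ∈ octads := (toFs_mem_octads (isOct_lt h)).mpr h
theorem dod_of {m : ℕ} (h : isDod m = true) : toFs m ∈ dodecads :=
  (toFs_mem_dodecads (isDod_lt h)).mpr h

theorem mem_detM {σ : Equiv.Perm GolayPt} (h : σ ∈ M24) {P i : ℕ} (hi : i < 24)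
    (hP : ∀ x ∈ toFs P, σ x = x) (hiP : P.testBit i = false) : ∀ {os : List ℕ},
    (∀ o ∈ os, isOct o = true ∧ 5 ≤ pc24 (o &&& P)) → σ (dec i) ∈ toFs (detM P i os)
  | [], _ => by
    show _ ∈ toFs (P ^^^ 16777215)
    rw [toFs_compl, Finset.mem_compl]
    intro h1
    have := σ.injective (hP _ h1)
    rw [this, dec_mem_toFs hi, hiP] at h1
    exact absurd h1 (by simp)
  | o :: os, ho => by
    show _ ∈ toFs (detM P i os &&& ite' (tb o i) o (o ^^^ 16777215))
    rw [toFs_and, Finset.mem_inter]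
    refine ⟨mem_detM h hi hP hiP fun o h' => ho o (List.mem_cons_of_mem _ h'), ?_⟩
    obtain ⟨h1, h2⟩ := ho o List.mem_cons_self
    have h3 := smul_octad_of_fix h (oct_of h1) hP (by rwa [card_inter_toFs (isOct_lt h1)])
    have h4 : σ (dec i) ∈ toFs o ↔ dec i ∈ toFs o := by
      conv_lhs => rw [← h3]
      exact Finset.smul_mem_smul_finset_iff σ
    rw [ite'_eq, tb_eq]
    split_ifs with h5
    · rwa [h4, dec_mem_toFs hi]
    · rwa [toFs_compl, Finset.mem_compl, h4, dec_mem_toFs hi]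

theorem eq_one_of_det {σ : Equiv.Perm GolayPt} (h : σ ∈ M24) : ∀ (st : List (ℕ × List ℕ)) {P : ℕ},
    detChk st P = true → (∀ x ∈ toFs P, σ x = x) → σ = 1
  | [], P, hc, hP => by
    have : P = 16777215 := (n_beq _ _).mp hc
    rw [this, toFs_full] at hP
    exact Equiv.ext fun x => hP x (Finset.mem_univ x)
  | s :: st, P, hc, hP => by
    have hc' : ((Nat.succ s.1 ≤ₙ nat_lit 24) &&ₙ
      bnot (tb P s.1) &&ₙ lall (fun o => isOct o &&ₙ (nat_lit 5 ≤ₙ pc24 (o &ₙ P))) s.2 &&ₙ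
      (detM P s.1 s.2 =ₙ nat_lit 1 <<ₙ s.1) &&ₙ force (P |ₙ nat_lit 1 <<ₙ s.1) (detChk st)) = true :=
      hc
    simp only [band_eq, Bool.and_eq_true, n_ble, bnot_eq, tb_eq, Bool.not_eq_true', lall_iff,
      n_beq, force_eq, n_and, n_shl, n_or] at hc'
    obtain ⟨h1, h2, h3, h4, h5⟩ := hc'
    have := mem_detM h h1 hP h2 h3
    rw [h4, toFs_shl h1, Finset.mem_singleton] at this
    refine eq_one_of_det h st h5 fun x hx => ?_
    rw [toFs_or, Finset.mem_union, toFs_shl h1, Finset.mem_singleton] at hx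
    rcases hx with hx | rfl
    · exact hP x hx
    · exact this

def det24 : List (ℕ × List ℕ) :=
  [(6, [0x84805e, 0x21007b]), (7, [0x8900bc, 0xc040d9]), (8, [0x8081b3, 0x50803d]), (9, [0xa0031d, 0xb01036]), (10, [0x149f, 0xb01036]), (11, [0x800c75]), (12, [0x149f]), (13, [0x8031d4]), (14, [0x527c]), (15, [0xb067]), (16, [0x1d0a9]), (17, [0x82402f]), (18, [0x67016]), (19, [0x8ea003]), (20, [0x13e005]), (21, [0xc75001]), (22, [])]
def Lp5 : List (ℕ × List (ℕ × ℕ)) := [(4, [(0xba91094e346b9e63d8955b0a918820, 0xba91094e346b9e63d8955b0a918820), (0xba64d4562f83a87312d362caa18820, 0xba64d4562f83a87312d362caa18820)]),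
  (5, [(0xbb5135bdd63160aa1ea964a2418820, 0xbc12ba18ad946c79b11553dc418820)])]
def Lp4 : List (ℕ × List (ℕ × ℕ)) := (3, [(0xbc0eeabd8d1a2c9516349996490820, 0xbb66838d36952112ad8ea994478820)]) :: Lp5
def Lp3 : List (ℕ × List (ℕ × ℕ)) := (2, [(0xbba6a7d585b1868a1d706c8824c420, 0xbbe4ba98489d8f14d06c53a0569020)]) :: Lp4
def Lp2 : List (ℕ × List (ℕ × ℕ)) := (1, [(0xbb54b3866f148d183ac819524652a0, 0xba4228b98b82ac3a54a89b4c43be40)]) :: Lp3
def Lp1 : List (ℕ × List (ℕ × ℕ)) := (0, [(0xbce88895e03a6c682c8e606a26aa43, 0xbb4b5b066b8a067509d47b249010d0)]) :: Lp2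
def Lp0 : List (ℕ × List (ℕ × ℕ)) := (23, [(0x41a70111572bceeb45a30d58092e89, 0x82cc1a8d5473125144176d9f244ce4)]) :: Lp1
def T24 : List ℕ := [0xb82d5a4e5183dcd62d4941cc520c41, 0x5883388a1c8f5140b46cd317aed7, 0xbba8ab116d7c52899d90286a219a40]
def P24 : List (ℕ × ℕ) := [(0, 3), (0, 3), (3, 1), (0, 1), (0, 5), (5, 1), (0, 7), (4, 8), (0, 0), (0, 3), (7, 13), (8, 1), (14, 1), (0, 0), (0, 5), (17, 17), (0, 10), (18, 10), (0, 0), (0, 3), (5, 23), (6, 1), (0, 0), (0, 4), (17, 25), (0, 19), (3, 1), (3, 13), (4, 1), (0, 0), (0, 4), (5, 6), (0, 33), (14, 1), (36, 37), (32, 1), (0, 0), (0, 4), (14, 15), (0, 0), (0, 3), (8, 9), (0, 40), (0, 41), (46, 45), (14, 1), (0, 0), (0, 4), (33, 46), (0, 0), (0, 3), (10, 24), (0, 0), (0, 3), (23, 24), (14, 1), (25, 1), (26, 1), (0, 0), (0, 6), (57, 44), (14, 1), (47, 0), (0, 2), (33, 0), (0, 2), (6, 7), (7, 1), (1, 3), (43, 26), (25, 0), (0, 2), (3, 52), (0, 0), (0, 3), (51, 0), (0, 2), (46, 37), (0, 0), (0, 3),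 (11, 14), (0, 0), (0, 3), (57, 84), (0, 83), (25, 41), (0, 0), (0, 3), (77, 0), (0, 2), (27, 1), (22, 51), (0, 0), (0, 3), (11, 27), (0, 0), (0, 3), (14, 29), (15, 1), (0, 3), (0, 56), (0, 91), (19, 88), (1, 1), (0, 64), (0, 38), (0, 9), (7, 8), (1, 1), (9, 112), (102, 1), (51, 97), (88, 1), (2, 1), (31, 55), (32, 1), (2, 1), (48, 94), (82, 1), (36, 89), (1, 1), (38, 39), (1, 1), (92, 109), (0, 84), (0, 10), (26, 44), (1, 1), (0, 29), (69, 99), (61, 71), (1, 1), (0, 11), (0, 26), (34, 19), (0, 38), (0, 29), (37, 71), (78, 1), (0, 71), (0, 33), (72, 15), (0, 35)]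

theorem card_M24_le : Nat.card M24 ≤ 244823040 := by
  have key : ∀ (H : Subgroup (Equiv.Perm GolayPt)) (b m : ℕ), b < 24 →
      (∀ g ∈ H, ∀ x ∈ toFs m, g x = x) → m.testBit b = false →
      ∀ g ∈ H, g • dec b ∈ toFs (m ^^^ 16777215) := by
    intro H b m hb hH hm g hg
    rw [toFs_compl, Finset.mem_compl]
    intro h1
    have := g.injective (hH g hg _ h1)
    rw [Equiv.Perm.smul_def, this, dec_mem_toFs hb, hm] at h1
    exact absurd h1 (by simp)
  have ext : ∀ (H : Subgroup (Equiv.Perm GolayPt)) (b m : ℕ), b < 24 →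
      (∀ g ∈ H, ∀ x ∈ toFs m, g x = x) →
      ∀ g ∈ H ⊓ stabilizer _ (dec b), ∀ x ∈ toFs (m ||| 1 <<< b), g x = x := by
    intro H b m hb hH g hg x hx
    rw [toFs_or, Finset.mem_union, toFs_shl hb, Finset.mem_singleton] at hx
    rcases hx with hx | rfl
    · exact hH g hg.1 x hx
    · exact hg.2
  have f0 : ∀ g ∈ M24, ∀ x ∈ toFs 0, g x = x := by simp
  have f1 := ext _ 23 _ (by norm_num) f0
  have f2 := ext _ 0 _ (by norm_num) f1
  have f3 := ext _ 1 _ (by norm_num) f2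
  have f4 := ext _ 2 _ (by norm_num) f3
  have f5 := ext _ 3 _ (by norm_num) f4
  have f6 := ext _ 4 _ (by norm_num) f5
  have f7 := ext _ 5 _ (by norm_num) f6
  have ho : toFs 0x82402f ∈ octads := oct_of (by decide +kernel)
  have c7 := (Subgroup.card_le_one_iff_eq_bot _).mpr ((Subgroup.eq_bot_iff_forall _).mpr
    fun g hg => eq_one_of_det (σ := g) (by have := f7 g hg; exact hg.1.1.1.1.1.1.1) det24
      (by decide +kernel) (f7 g hg))
  have c6 := card_le_orbit_mul _ (dec 5) (toFs 0x24020) (fun g hg => by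
    have h1 := key _ 5 _ (by norm_num) f6 (by decide) g hg
    have h2 := smul_octad_of_fix hg.1.1.1.1.1.1 ho (f6 g hg)
      (by rw [card_inter_toFs (by norm_num)]; decide +kernel)
    have h3 : g • dec 5 ∈ toFs 0x82402f := by
      rw [← h2]; exact Finset.smul_mem_smul_finset (by decide +kernel)
    have := Finset.mem_inter.mpr ⟨h1, h3⟩
    rw [← toFs_and] at this
    exact this) c7
  have c5 := card_le_orbit_mul _ (dec 4) (toFs (0x82402f ^^^ 16777215)) (fun g hg => by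
    have h2 := smul_octad_of_fix hg.1.1.1.1.1 ho (f5 g hg)
      (by rw [card_inter_toFs (by norm_num)]; decide +kernel)
    rw [toFs_compl, Finset.mem_compl, ← h2, Finset.smul_mem_smul_finset_iff]
    decide +kernel) c6
  have c4 := card_le_orbit_mul _ (dec 3) _ (key _ 3 _ (by norm_num) f4 (by decide)) c5
  have c3 := card_le_orbit_mul _ (dec 2) _ (key _ 2 _ (by norm_num) f3 (by decide)) c4
  have c2 := card_le_orbit_mul _ (dec 1) _ (key _ 1 _ (by norm_num) f2 (by decide)) c3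
  have c1 := card_le_orbit_mul _ (dec 0) _ (key _ 0 _ (by norm_num) f1 (by decide)) c2
  have c0 := card_le_orbit_mul _ (dec 23) _ (key _ 23 _ (by norm_num) f0 (by decide)) c1
  refine c0.trans ?_
  simp only [card_toFs']
  decide +kernel

theorem Lp0_valid : lall inM24 (Fmt.gens Lp0) = true := by decide +kernel
theorem Lp0_chk : (F24.loChk Lp0 &&ₙ (F24.size (F24.build Lp0) =ₙ 244823040)) = true := by
  decide +kernel

theorem full24_aux : A24.Full M24 (F24.build Lp0) ∧ A24.clo (Fmt.gens Lp0) = M24 := by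
  have := Lp0_chk
  simp only [band_eq, Bool.and_eq_true, n_beq] at this
  exact Act.full_of_card (valid24 Lp0_valid) this.1 (card_M24_le.trans this.2.ge)

theorem full24 : A24.Full M24 (F24.build Lp0) := full24_aux.1

theorem card_M24 : Nat.card M24 = 244823040 := by
  have := Lp0_chk
  simp only [band_eq, Bool.and_eq_true, n_beq] at this
  exact full24.card.trans this.2

theorem card_topM : Nat.card (⊤ : Subgroup M24) = 244823040 := by
  rw [Subgroup.card_top, card_M24]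

theorem fullM : AM.Full ⊤ (F24.build Lp0) := full24.sub_top

theorem T24_valid : lall inM24 T24 = true := by decide +kernel

theorem clo24_T : A24.clo T24 = M24 := by
  refine le_antisymm (Act.clo_le' (valid24 T24_valid)) ?_
  rw [← full24_aux.2]
  exact Act.clo_le_of_slp (Act.valid_of (valid24 T24_valid)).mem_clo (P := P24) (k := 146)
    (by decide +kernel)

theorem cloM_T : AM.clo T24 = ⊤ := Act.clo_sub_top (valid24 T24_valid) clo24_T

theorem TM_valid : AM.Valid T24 := validM T24_valid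

theorem fullp1 : AM.Full (stabilizer M24 (dec 23)) (F24.build Lp1) := by
  have := fullM
  rw [Lp0, Fmt.build_cons] at this
  exact this.cons.1.congr (top_inf_eq _)

theorem fullp2 : AM.Full (stabilizer M24 (dec 23) ⊓ stabilizer M24 (dec 0)) (F24.build Lp2) := by
  have := fullp1
  rw [Lp1, Fmt.build_cons] at this
  exact this.cons.1

theorem fullp3 : AM.Full (stabilizer M24 (dec 23) ⊓ stabilizer M24 (dec 0) ⊓
    stabilizer M24 (dec 1)) (F24.build Lp3) := by
  have := fullp2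
  rw [Lp2, Fmt.build_cons] at this
  exact this.cons.1

theorem fullp4 : AM.Full (stabilizer M24 (dec 23) ⊓ stabilizer M24 (dec 0) ⊓
    stabilizer M24 (dec 1) ⊓ stabilizer M24 (dec 2)) (F24.build Lp4) := by
  have := fullp3
  rw [Lp3, Fmt.build_cons] at this
  exact this.cons.1

theorem fullp5 : AM.Full (stabilizer M24 (dec 23) ⊓ stabilizer M24 (dec 0) ⊓
    stabilizer M24 (dec 1) ⊓ stabilizer M24 (dec 2) ⊓ stabilizer M24 (dec 3)) (F24.build Lp5) := by
  have := fullp4
  rw [Lp4, Fmt.build_cons] at this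
  exact this.cons.1

/-- reaching points through the first level of a chain -/
theorem good_reach {H : Subgroup M24} {l : ℕ × List (ℕ × ℕ)} {L : List (ℕ × List (ℕ × ℕ))}
    (h : AM.Good H (F24.build (l :: L))) (m : ℕ)
    (hc : (force (F24.orbX l.1 (Fmt.gensP (l :: L))) fun X =>
      all (fun β => bnot (tb m β) ||ₙ bnot (F24.ent X β =ₙ 0)) 24) = true)
    {x : GolayPt} (hx : x ∈ toFs m) : ∃ g ∈ H, g • dec l.1 = x := by
  rw [Fmt.build_cons] at h
  rw [force_eq, all_iff] at hc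
  have := hc _ (enc_lt x)
  rw [mem_toFs] at hx
  simp only [tb_eq, hx, bnot_eq, Bool.not_true, bor_eq, Bool.false_or, Bool.not_eq_true',
    n_beq_false] at this
  obtain ⟨u, hu, -, -, h3⟩ := h.2.1 _ (enc_lt x) this
  exact ⟨u, hu, h3.trans (dec_enc x)⟩

theorem tr1 (p : GolayPt) : ∃ g : M24, g • dec 23 = p := by
  obtain ⟨g, -, hg⟩ := good_reach fullM.2.1 16777215 (by decide +kernel) (x := p)
    (by rw [toFs_full]; exact Finset.mem_univ _)
  exact ⟨g, hg⟩

theorem tr2 {p q : GolayPt} (hpq : p ≠ q) : ∃ g : M24, g • dec 23 = p ∧ g • dec 0 = q := by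
  obtain ⟨g, rfl⟩ := tr1 p
  obtain ⟨q, rfl⟩ := exists_smul' g q
  rw [Ne, smul_left_cancel_iff] at hpq
  obtain ⟨u, hu, h⟩ := good_reach fullp1.2.1 0x7fffff (by decide +kernel) (x := q)
    (by revert q; decide +kernel)
  exact ⟨g * u, by rw [mul_smul, hu], by rw [mul_smul]; exact congrArg _ h⟩

theorem tr3 {p q r : GolayPt} (hpq : p ≠ q) (hpr : p ≠ r) (hqr : q ≠ r) :
    ∃ g : M24, g • dec 23 = p ∧ g • dec 0 = q ∧ g • dec 1 = r := by
  obtain ⟨g, rfl, rfl⟩ := tr2 hpq
  obtain ⟨r, rfl⟩ := exists_smul' g r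
  rw [Ne, smul_left_cancel_iff] at hpr hqr
  obtain ⟨u, hu, h⟩ := good_reach fullp2.2.1 0x7ffffe (by decide +kernel) (x := r)
    (by revert r; decide +kernel)
  exact ⟨g * u, by rw [mul_smul, hu.1], by rw [mul_smul, hu.2],
    by rw [mul_smul]; exact congrArg _ h⟩

theorem tr4 {p q r s : GolayPt} (hpq : p ≠ q) (hpr : p ≠ r) (hqr : q ≠ r) (hps : p ≠ s)
    (hqs : q ≠ s) (hrs : r ≠ s) :
    ∃ g : M24, g • dec 23 = p ∧ g • dec 0 = q ∧ g • dec 1 = r ∧ g • dec 2 = s := by
  obtain ⟨g, rfl, rfl, rfl⟩ := tr3 hpq hpr hqr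
  obtain ⟨s, rfl⟩ := exists_smul' g s
  rw [Ne, smul_left_cancel_iff] at hps hqs hrs
  obtain ⟨u, hu, h⟩ := good_reach fullp3.2.1 0x7ffffc (by decide +kernel) (x := s)
    (by revert s; decide +kernel)
  exact ⟨g * u, by rw [mul_smul, hu.1.1], by rw [mul_smul, hu.1.2], by rw [mul_smul, hu.2],
    by rw [mul_smul]; exact congrArg _ h⟩

theorem tr5 {p q r s t : GolayPt} (hpq : p ≠ q) (hpr : p ≠ r) (hqr : q ≠ r) (hps : p ≠ s)
    (hqs : q ≠ s) (hrs : r ≠ s) (hpt : p ≠ t) (hqt : q ≠ t) (hrt : r ≠ t) (hst : s ≠ t) :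
    ∃ g : M24, g • dec 23 = p ∧ g • dec 0 = q ∧ g • dec 1 = r ∧ g • dec 2 = s ∧
      g • dec 3 = t := by
  obtain ⟨g, rfl, rfl, rfl, rfl⟩ := tr4 hpq hpr hqr hps hqs hrs
  obtain ⟨t, rfl⟩ := exists_smul' g t
  rw [Ne, smul_left_cancel_iff] at hpt hqt hrt hst
  obtain ⟨u, hu, h⟩ := good_reach fullp4.2.1 0x7ffff8 (by decide +kernel) (x := t)
    (by revert t; decide +kernel)
  exact ⟨g * u, by rw [mul_smul, hu.1.1.1], by rw [mul_smul, hu.1.1.2], by rw [mul_smul, hu.1.2],
    by rw [mul_smul, hu.2], by rw [mul_smul]; exact congrArg _ h⟩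

end

end CfsgH7
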