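import Cfsg.Agent.H7.Mg

set_option autoImplicit false
set_option maxRecDepth 100000
set_option Elab.async false

/-! Centralisers of small elements. -/

namespace CfsgH7

open Cfsg MulAction

theorem packzA : Pack AM (Subgroup.centralizer {elM zA}) (Fmt.gens CzA) CzA 21504 :=
  ((packM.refull LzA (by decide +kernel)).centL zA_rep CzA _ (by decide +kernel)).top_inf
theorem packzB : Pack AM (Subgroup.centralizer {elM zB}) (Fmt.gens CzB) CzB 7680 :=
  ((packM.refull LzB (by decide +kernel)).centL zB_rep CzB _ (by decide +kernel)).top_inf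
theorem packyA : Pack AM (Subgroup.centralizer {elM yA}) (Fmt.gens CyA) CyA 1080 :=
  ((packM.refull LyA (by decide +kernel)).centL yA_rep CyA _ (by decide +kernel)).top_inf
theorem packyB : Pack AM (Subgroup.centralizer {elM yB}) (Fmt.gens CyB) CyB 504 :=
  ((packM.refull LyB (by decide +kernel)).centL yB_rep CyB _ (by decide +kernel)).top_inf
theorem packy7 : Pack AM (Subgroup.centralizer {elM y7}) (Fmt.gens Cy7) Cy7 42 :=
  ((packM.refull Ly7 (by decide +kernel)).centL y7_rep Cy7 _ (by decide +kernel)).top_inf

end CfsgH7
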