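import Cfsg.Agent.H7.Mj
import Cfsg.Agent.H7.TB

set_option autoImplicit false
set_option maxRecDepth 100000
set_option linter.unusedSectionVars false
set_option linter.style.haveILetI false
set_option Elab.async false

/-! Orbit lower bounds, centralisers by class size, quartets. -/

namespace CfsgH7

open Cfsg MulAction
open scoped Pointwise symmDiff

noncomputable section

section Gen

variable {G : Type*} [Group G] {Ω : Type*} [MulAction G Ω] {A : Act G Ω}
variable {H : Subgroup G} {S : List ℕ} {L : List (ℕ × List (ℕ × ℕ))} {M : ℕ}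

theorem Pack.le_orbit {X : Type*} [MulAction G X] (h : Pack A H S L M) (D : PreCoded A X) {c : ℕ}
    (hc : D.valid c) {fuel k N : ℕ}
    (hk : force (orbKeys D.act D.key S fuel c) (pcChk k N) = true) :
    N ≤ (orbit H (D.dec c)).ncard := by
  haveI := h.finite
  let D' : PreCoded (A.sub H) X :=
    { dec := D.dec
      valid := fun d => D.valid d ∧ D.dec d ∈ orbit H (D.dec c)
      act := D.act
      key := D.key
      act_spec := fun g t d hg hd => by
        obtain ⟨h1, h2⟩ := D.act_spec g t d hg hd.1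
        exact ⟨⟨h1, h2 ▸ mem_orbit_of_mem_orbit g hd.2⟩, h2⟩
      key_wd := fun a b ha hb => D.key_wd a b ha.1 hb.1 }
  have hf : (orbit H (D.dec c)).Finite := Set.finite_range _
  have hs : {x | ∃ d, D'.valid d ∧ D'.dec d = x} ⊆ orbit H (D.dec c) := by
    rintro _ ⟨d, hd, rfl⟩; exact hd.2
  by_contra h'
  have h1 := Set.ncard_le_ncard hs hf
  have := (D'.key_inj (Act.sub_valid h.mem) (c := c) ⟨hc, mem_orbit_self _⟩ (hf.subset hs)
    (by omega) hk).2
  omega

open Classical in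
/-- conjugation action on tables -/
def Act.cjD (A : Act G Ω) (md : ℕ) : PreCoded A (Cj G) where
  dec := fun t => Cj.of (if h : ∃ g, A.Rep g t then h.choose else 1)
  valid := fun t => ∃ g, A.Rep g t
  act := fun c x => A.F.conj c x
  key := fun t => force (A.F.comp t A.F.one) fun s => s %ₙ md
  act_spec := fun g t c hg hc => by
    have h1 := hg.conj hc.choose_spec
    have h2 : ∃ g, A.Rep g (A.F.conj t c) := ⟨_, h1⟩
    refine ⟨h2, ?_⟩
    rw [Cj.smul_eq, dif_pos hc, dif_pos h2]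
    exact h1.unique h2.choose_spec
  key_wd := fun c c' hc hc' e => by
    rw [dif_pos hc, dif_pos hc'] at e
    have e' : hc.choose = hc'.choose := e
    have h1 := hc.choose_spec
    have h2 := e' ▸ hc'.choose_spec
    have : A.F.comp c A.F.one = A.F.comp c' A.F.one := by
      unfold Fmt.comp pack
      apply Nat.eq_of_testBit_eq
      intro j
      rw [Bool.eq_iff_iff, testBit_orN, testBit_orN]
      refine exists_congr fun i => and_congr_right fun hi => ?_
      beta_reduce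
      rw [Fmt.g_one A.ok hi, h1.tab_eq h2 hi]
    rw [force_eq, force_eq, this]

theorem Pack.centO (h : Pack A H S L M) {u : G} {x : ℕ} (hu : A.Rep u x) (md fuel j N : ℕ)
    (L' : List (ℕ × List (ℕ × ℕ))) (M' : ℕ)
    (hc : (force (orbKeys (fun c x => A.F.conj c x)
      (fun t => force (A.F.comp t A.F.one) fun s => s %ₙ md) S fuel x) (pcChk j N) &&ₙ
      A.F.siftAll (A.F.build L) (Fmt.gens L') &&ₙ lall (fun t => A.F.comm t x) (Fmt.gens L') &&ₙ
      A.F.loChk L' &&ₙ (A.F.size (A.F.build L') =ₙ M') &&ₙ (N *ₙ M' =ₙ M)) = true) :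
    Pack A (H ⊓ Subgroup.centralizer {u}) (Fmt.gens L') L' M' := by
  haveI := h.finite
  haveI := Act.finite_inf H (Subgroup.centralizer {u})
  simp only [band_eq, Bool.and_eq_true, n_beq, n_mul, lall_iff] at hc
  obtain ⟨h1, h2, h3, h4, h5, h6⟩ := hc
  have hx : ∃ g, A.Rep g x := ⟨u, hu⟩
  have h7 := h.le_orbit (A.cjD md) hx h1
  have e : (A.cjD md).dec x = Cj.of u := by
    unfold Act.cjD
    dsimp only
    rw [dif_pos hx, hx.choose_spec.unique hu]
  have e2 : stabilizer G (Cj.of u) = Subgroup.centralizer {u} := by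
    ext g
    rw [mem_stabilizer_iff, Cj.smul_eq, Subgroup.mem_centralizer_singleton_iff, mul_inv_eq_iff_eq_mul]
    rfl
  have h8 := card_orbit_mul H (Cj.of u)
  rw [e] at h7
  rw [e2, h.card, ← h6] at h8
  refine Pack.of_le ?_ (fun t ht => ?_) (by simp [h4, h5])
  · have h9 : 0 < N := by
      rcases Nat.eq_zero_or_pos N with rfl | h0
      · have := h.card; rw [← h6, zero_mul] at this; exact absurd this Nat.card_pos.ne'
      · exact h0
    exact Nat.le_of_mul_le_mul_left (h8 ▸ Nat.mul_le_mul_right _ h7) h9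
  · obtain ⟨g, hg, h'⟩ := h.good.siftAll h2 t ht
    exact ⟨g, ⟨hg, Subgroup.mem_centralizer_singleton_iff.mpr ((h'.comm_iff hu).mpr (h3 t ht))⟩, h'⟩

theorem syl_full [Finite G] {K : Subgroup G} (hle : K ≤ H) {x : G} {p c0 M : ℕ} (hp : p.Prime)
    (hx : x ∈ K) (ho : orderOf x = p)
    (hN : Nat.card ↥(H ⊓ Subgroup.normalizer (Subgroup.zpowers x : Set G)) = c0)
    (hM : Nat.card K = M) (d : ℕ)
    (hc : (bnot (M %ₙ (p *ₙ p) =ₙ 0) &&ₙ all (fun c => bnot (c0 %ₙ c =ₙ 0) ||ₙ bnot (c %ₙ p =ₙ 0) ||ₙ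
      bnot (M %ₙ c =ₙ 0) ||ₙ bnot (M /ₙ c %ₙ p =ₙ 1) ||ₙ (c =ₙ d)) (c0 + 1)) = true) :
    Nat.card ↥(K ⊓ Subgroup.normalizer (Subgroup.zpowers x : Set G)) = d := by
  simp only [band_eq, bor_eq, bnot_eq, Bool.and_eq_true, Bool.or_eq_true, Bool.not_eq_true', all_iff,
    n_beq_false, n_beq, n_mod, n_div, n_mul] at hc
  obtain ⟨n, h1, h2⟩ := sylow_count hp hx ho fun h => hc.1 (by
    rw [hM, pow_two] at h; exact Nat.mod_eq_zero_of_dvd h)
  have d1 := Subgroup.card_dvd_of_le
    (inf_le_inf_right (Subgroup.normalizer (Subgroup.zpowers x : Set G)) hle)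
  have d2 := Subgroup.card_dvd_of_le (Subgroup.zpowers_le.mpr
    (show x ∈ K ⊓ Subgroup.normalizer (Subgroup.zpowers x : Set G) from
      ⟨hx, Subgroup.le_normalizer (Subgroup.mem_zpowers _)⟩))
  have h0 : 0 < c0 := hN ▸ Nat.card_pos
  have h3 : 0 < Nat.card ↥(K ⊓ Subgroup.normalizer (Subgroup.zpowers x : Set G)) := Nat.card_pos
  rw [hN] at d1
  rw [Nat.card_zpowers, ho] at d2
  rw [hM] at h2
  generalize Nat.card ↥(K ⊓ _) = c at *
  rcases hc.2 c (Nat.lt_succ_of_le (Nat.le_of_dvd h0 d1)) with h | h | h | h | h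
  · exact absurd (Nat.mod_eq_zero_of_dvd d1) h
  · exact absurd (Nat.mod_eq_zero_of_dvd d2) h
  · exact absurd (by rw [← h2, Nat.mul_mod_left]) h
  · exact absurd (by rw [← h2, Nat.mul_div_cancel _ h3, h1]) h
  · exact h

theorem le_of_card_inf [Finite G] {K N : Subgroup G} (hle : K ≤ H)
    (h : Nat.card ↥(K ⊓ N) = Nat.card ↥(H ⊓ N)) : H ⊓ N ≤ K :=
  (Subgroup.eq_of_le_of_card_ge (inf_le_inf_right N hle) h.ge).ge.trans inf_le_left

theorem card_of_index [Finite G] (K : Subgroup H) {i m : ℕ} (hi : K.index = i)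
    (hH : Nat.card H = m * i) : Nat.card (K.map H.subtype) = m := by
  have := K.card_mul_index
  rw [hi, hH] at this
  rw [Subgroup.card_map_of_injective H.subtype_injective]
  exact Nat.eq_of_mul_eq_mul_right (hi ▸ Nat.pos_of_ne_zero K.index_ne_zero_of_finite) this

theorem card4 {α : Type*} [DecidableEq α] {a b c d : α} : ({a, b, c, d} : Finset α).card = 4 ↔
    a ≠ b ∧ a ≠ c ∧ a ≠ d ∧ b ≠ c ∧ b ≠ d ∧ c ≠ d := by grind

end Gen

def hexm (m : ℕ) : Bool := (pc24 m =ₙ 6) &&ₙ (m &ₙ 0x5335f =ₙ m) &&ₙ inO m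

theorem hex_sub {d h : Finset GolayPt} (hh : h ∈ hexadsOn d) : h ⊆ d := by
  obtain ⟨-, o, -, rfl⟩ := hh; exact Finset.inter_subset_right

theorem hexm_iff {m : ℕ} (hm : m < 2 ^ 24) : toFs m ∈ hexadsOn (toFs 0x5335f) ↔ hexm m = true := by
  simp only [hexm, band_eq, Bool.and_eq_true, n_beq, n_and]
  rw [← toFs_subset_iff hm, ← card_toFs hm]
  constructor
  · intro h
    refine ⟨h.1, hex_sub h, (inO_iff hm (by rw [← card_toFs hm, h.1])).mp ?_⟩
    obtain ⟨-, o, ho, e⟩ := h
    exact ⟨o, ho, e ▸ Finset.inter_subset_left⟩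
  · rintro ⟨h1, h2, h3⟩
    obtain ⟨o, ho, h4⟩ := (inO_iff hm (by rw [← card_toFs hm, h1])).mpr h3
    refine ⟨h1, o, ho, (Finset.eq_of_subset_of_card_le (Finset.subset_inter h4 h2) ?_).symm⟩
    have := oct_dod ho d0_mem
    omega

theorem qM (g : M24) (d : Finset GolayPt) (Q : Finset (Finset GolayPt)) :
    (g : P24) • Q ∈ quartets ((g : P24) • d) ↔ Q ∈ quartets d := by
  simp only [quartets, Set.mem_setOf_eq, cardM]
  refine and_congr_right fun _ => and_congr ?_ ?_
  · rw [forall_smul (g : P24)]; simp only [memM, cardM, subsetM]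
  · rw [forall_smul (g : P24)]
    refine forall_congr' fun t => ?_
    rw [forall_smul (g : P24) (P := fun u => u ∈ _ → _)]
    simp only [memM, unionM, hexM, Ne, eqM]

def q4 (c i : ℕ) : ℕ := get (nat_lit 24) (nat_lit 16777215) c i
def qdec (c : ℕ) : Finset (Finset GolayPt) :=
  {toFs (q4 c 0), toFs (q4 c 1), toFs (q4 c 2), toFs (q4 c 3)}
def qact (t c : ℕ) : ℕ := pack (nat_lit 24) (fun i => force (q4 c i) (actm t)) (nat_lit 4)
def qv (c : ℕ) : Bool := force (q4 c 0) fun a => force (q4 c 1) fun b => force (q4 c 2) fun x =>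
  force (q4 c 3) fun y => (pc24 a =ₙ 3) &&ₙ (pc24 b =ₙ 3) &&ₙ (pc24 x =ₙ 3) &&ₙ (pc24 y =ₙ 3) &&ₙ
    hexm (a |ₙ b) &&ₙ hexm (a |ₙ x) &&ₙ hexm (a |ₙ y) &&ₙ hexm (b |ₙ x) &&ₙ hexm (b |ₙ y) &&ₙ hexm (x |ₙ y)
def qh (m : ℕ) : ℕ := m *ₙ m %ₙ nat_lit 4159
def qkey (c : ℕ) : ℕ := (qh (q4 c 0) +ₙ qh (q4 c 1) +ₙ qh (q4 c 2) +ₙ qh (q4 c 3)) &ₙ nat_lit 4095

theorem q4_lt (c i : ℕ) : q4 c i < 2 ^ 24 := get_lt 24 c i

theorem qact_spec {g : M24} {t : ℕ} (hg : AM.Rep g t) (c : ℕ) : (g : P24) • qdec c = qdec (qact t c) := by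
  have h : ∀ i < 4, q4 (qact t c) i = actm t (q4 c i) := fun i hi =>
    (get_pack 24 4 _ (fun i _ => by rw [force_eq]; exact actm_lt hg _) hi).trans (force_eq _ _)
  simp only [qdec, Finset.smul_finset_insert, Finset.smul_finset_singleton, smul_toFsM hg]
  rw [h 0 (by decide), h 1 (by decide), h 2 (by decide), h 3 (by decide)]

theorem qv_iff (c : ℕ) : qdec c ∈ quartets (toFs 0x5335f) ↔ qv c = true := by
  have l := q4_lt c
  simp only [qv, force_eq, band_eq, Bool.and_eq_true, n_beq, n_or, ← card_toFs (l _),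
    ← hexm_iff (or_lt (l _) (l _)), toFs_or, qdec]
  generalize toFs (q4 c 0) = a
  generalize toFs (q4 c 1) = b
  generalize toFs (q4 c 2) = x
  generalize toFs (q4 c 3) = y
  constructor
  · rintro ⟨h1, h2, h3⟩
    rw [card4] at h1
    exact ⟨(h2 a (by simp)).1, (h2 b (by simp)).1, (h2 x (by simp)).1, (h2 y (by simp)).1,
      h3 _ (by simp) _ (by simp) h1.1, h3 _ (by simp) _ (by simp) h1.2.1,
      h3 _ (by simp) _ (by simp) h1.2.2.1, h3 _ (by simp) _ (by simp) h1.2.2.2.1,
      h3 _ (by simp) _ (by simp) h1.2.2.2.2.1, h3 _ (by simp) _ (by simp) h1.2.2.2.2.2⟩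
  · rintro ⟨h1, h2, h3, h4, e1, e2, e3, e4, e5, e6⟩
    have k : ∀ {u v : Finset GolayPt}, u.card = 3 → u ∪ v ∈ hexadsOn (toFs 0x5335f) → u ≠ v := by
      rintro u v h e rfl
      have := e.1
      rw [Finset.union_self, h] at this
      cases this
    have s1 := Finset.union_subset_iff.mp (hex_sub e1)
    have s2 := Finset.union_subset_iff.mp (hex_sub e6)
    refine ⟨card4.mpr ⟨k h1 e1, k h1 e2, k h1 e3, k h2 e4, k h2 e5, k h3 e6⟩, ?_, ?_⟩
    · simp only [Finset.mem_insert, Finset.mem_singleton, forall_eq_or_imp, forall_eq]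
      exact ⟨⟨h1, s1.1⟩, ⟨h2, s1.2⟩, ⟨h3, s2.1⟩, h4, s2.2⟩
    · simp only [Finset.mem_insert, Finset.mem_singleton, forall_eq_or_imp, forall_eq, ne_eq,
        not_true_eq_false, false_imp_iff, true_and, and_true, Finset.union_comm b a,
        Finset.union_comm x a, Finset.union_comm y a, Finset.union_comm x b, Finset.union_comm y b,
        Finset.union_comm y x, e1, e2, e3, e4, e5, e6, implies_true]

theorem qkey_wd {c c' : ℕ} (hc : qv c = true) (hc' : qv c' = true) (h : qdec c = qdec c') :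
    qkey c = qkey c' := by
  let f : Finset GolayPt → ℕ := fun s => qh (exists_mask s).choose
  have hf' : ∀ m < 2 ^ 24, f (toFs m) = qh m := fun m hm => by
    have := (exists_mask (toFs m)).choose_spec
    simp only [f]
    rw [toFs_inj this.1 hm this.2]
  have key : ∀ c, qv c = true → qh (q4 c 0) + (qh (q4 c 1) + (qh (q4 c 2) + qh (q4 c 3))) =
      ∑ o ∈ qdec c, f o := by
    intro c hc
    have h4 := ((qv_iff c).mpr hc).1
    rw [qdec, card4] at h4
    rw [qdec, Finset.sum_insert (by simp [h4]), Finset.sum_insert (by simp [h4]),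
      Finset.sum_insert (by simp [h4]), Finset.sum_singleton, hf' _ (q4_lt _ _), hf' _ (q4_lt _ _),
      hf' _ (q4_lt _ _), hf' _ (q4_lt _ _)]
  simp only [qkey, n_add, n_and, add_assoc]
  rw [key c hc, key c' hc', h]

def q0 : ℕ := 0x41100012010000248000007
def qR : List ℕ := [0xbdab49ca307b9ac5a928398a418820, 0x7cd47bb2b0b44662ba4da256820820, 0x75576518ac3dd28a3e449b63018820, 0x3a9f37216ca946d8dcc9b4a8480820]
def Lq : List (ℕ × List (ℕ × ℕ)) :=
  [(0, [(0xbdab12a5c2a3c035cd86520e193490, 0xbdaaf50e807444959e462a2616408d)]),(1, [(0xb5d51299c499e035d189aa1ed90440, 0xb5cea78e8d2c4895d50674a7060440)]),(4, [(0xb5dd4799509d4895c5833c8ad40820, 0xb5dd4799509d4895c5833c8ad40820), (0xbaeae9c1522d18db4464399e848820, 0xbaeae9c1522d18db4464399e848820)]),(3, [(0xb5eae2a62d7d20359e465226460820, 0xb5eae2a62d7d20359e465226460820)])]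
def Wq : ℕ := 0x880000241000400088021910000040004000040000000000000400000000020100000105000000002008000420020200000000000220000100000040000000027040000004000000000000000000200000000000000008001000000020080000000000040000000000000010402000000000004000841020a00021008000009048200008800000100200000100000000c00000000140210000000000080000004002004040050000000080000000009800050000000000000000000000000800800280080000000012201000800000000008000000200040010000000000000000000000080000000000000000000000010000800000000402100000000010040000000000000000010000000004000041000000000000100000000000000000001200000001008000000010008030000400000a0091028000000000000800010080200060000000000000c001000820000000000000000000040202100000c004000040000000240000000009000050000000000600000000000000000002000022120800000000002000000000000000200010000000000000400a00000100880002000000000000002280000020000004400000082000400000010000800008000000000618008008120000080102080c08000030101000000000000a000000000100000008200900200c0440000060000010800000000000000010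

def inq (c m : ℕ) : Bool := (q4 c 0 =ₙ m) ||ₙ (q4 c 1 =ₙ m) ||ₙ (q4 c 2 =ₙ m) ||ₙ (q4 c 3 =ₙ m)

theorem inq_mem {c m : ℕ} (h : inq c m = true) : toFs m ∈ qdec c := by
  simp only [inq, bor_eq, Bool.or_eq_true, n_beq] at h
  rcases h with rfl | rfl | rfl | rfl <;> simp [qdec]

theorem q0_mem : qdec q0 ∈ quartets (toFs 0x5335f) := (qv_iff _).mpr (by decide +kernel)

theorem quart_t0 {u : Finset GolayPt} (hu : u.card = 3) (hh : toFs 7 ∪ u ∈ hexadsOn (toFs 0x5335f)) :
    ∃ g ∈ stabilizer M24 (toFs 0x5335f), toFs 7 ∈ (g : P24) • qdec q0 ∧ u ∈ (g : P24) • qdec q0 ∧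
      ∀ Q ∈ quartets (toFs 0x5335f), toFs 7 ∈ Q → u ∈ Q → Q = (g : P24) • qdec q0 := by
  obtain ⟨k, hk, rfl⟩ := exists_small hu.le
  have h := (all_iff _ _).mp (show all (fun k => force (lead k) fun m =>
    bnot ((pc24 m =ₙ 3) &&ₙ hexm (7 |ₙ m)) ||ₙ lany (fun t => inM24 t &&ₙ (actm t 0x5335f =ₙ 0x5335f) &&ₙ
      force (qact t q0) fun c => inq c 7 &&ₙ inq c m &&ₙ all (fun j => force (lead j) fun v =>
        bnot (hexm (7 |ₙ v) &&ₙ hexm (m |ₙ v)) ||ₙ inq c v) 4096) qR) 4096 = true by decide +kernel) k hk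
  rw [card_toFs (lead_lt _)] at hu
  rw [← toFs_or, hexm_iff (or_lt (by norm_num) (lead_lt _))] at hh
  simp only [force_eq, hu, n_or, hh, band_eq, bor_eq, bnot_eq, Bool.and_true, Bool.or_eq_true,
    Bool.not_eq_true', n_beq_false, ne_eq, not_true_eq_false, false_or, lany_iff, Bool.and_eq_true,
    n_beq, all_iff] at h
  obtain ⟨t, -, h1, h2, h3, h4, h5⟩ := h
  have r := elM_rep h1
  have hg : (elM t : P24) • toFs 0x5335f = toFs 0x5335f := by rw [smul_toFsM r, h2]
  refine ⟨elM t, hg, ?_⟩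
  have h6 := (qM (elM t) _ _).mpr q0_mem
  rw [hg] at h6
  rw [qact_spec r] at h6 ⊢
  refine ⟨inq_mem h3, inq_mem h4, fun Q hQ a b => Finset.eq_of_subset_of_card_le (fun v hv => ?_)
    (by rw [hQ.1, h6.1])⟩
  by_cases e1 : toFs 7 = v
  · exact e1 ▸ inq_mem h3
  by_cases e2 : toFs (lead k) = v
  · exact e2 ▸ inq_mem h4
  obtain ⟨j, hj, rfl⟩ := exists_small (hQ.2.1 v hv).1.le
  have h7 := hQ.2.2 _ a _ hv e1
  have h8 := hQ.2.2 _ b _ hv e2
  rw [← toFs_or, hexm_iff (or_lt (by norm_num) (lead_lt _))] at h7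
  rw [← toFs_or, hexm_iff (or_lt (lead_lt _) (lead_lt _))] at h8
  exact inq_mem (by simpa [h7, h8] using h5 j hj)

theorem trD3 {d t : Finset GolayPt} (hd : d ∈ dodecads) (ht : t.card = 3) (hs : t ⊆ d) :
    ∃ g : M24, (g : P24) • toFs 0x5335f = d ∧ (g : P24) • toFs 7 = t := by
  obtain ⟨a, b, c, h1, h2, h3, rfl⟩ := Finset.card_eq_three.mp ht
  obtain ⟨g, rfl, rfl, rfl, rfl⟩ := trDppp hd (hs (by simp : a ∈ _)) (hs (by simp : b ∈ _))
    (hs (by simp : c ∈ _)) h1 h2 h3
  refine ⟨g, rfl, ?_⟩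
  rw [show toFs 7 = {dec 0, dec 1, dec 2} by decide +kernel]
  simp only [Finset.smul_finset_insert, Finset.smul_finset_singleton]

theorem trQ {d : Finset GolayPt} (hd : d ∈ dodecads) {Q : Finset (Finset GolayPt)}
    (hQ : Q ∈ quartets d) : ∃ g : M24, (g : P24) • toFs 0x5335f = d ∧ (g : P24) • qdec q0 = Q := by
  obtain ⟨t, ht, u, hu, h⟩ := Finset.one_lt_card.mp (show 1 < Q.card by rw [hQ.1]; decide)
  obtain ⟨g, rfl, rfl⟩ := trD3 hd (hQ.2.1 t ht).1 (hQ.2.1 t ht).2
  have h1 := hQ.2.2 _ ht _ hu h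
  have h2 := (hQ.2.1 u hu).1
  obtain ⟨u, rfl⟩ := exM g u
  obtain ⟨Q, rfl⟩ := exM g Q
  rw [unionM, hexM] at h1
  rw [cardM] at h2
  rw [qM] at hQ
  rw [memM] at ht hu
  obtain ⟨k, hk, -, -, h3⟩ := quart_t0 h2 h1
  exact ⟨g * k, by rw [mulM_smul, mem_stabM.mp hk], by rw [mulM_smul, h3 Q hQ ht hu]⟩

def Pq : PreCoded (AM.sub (stabilizer M24 (toFs 0x5335f))) (Finset (Finset GolayPt)) where
  dec := qdec
  valid := fun c => qv c = true
  act := qact
  key := qkey
  act_spec := fun g t c hg hc => by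
    have e := qact_spec (g := g) hg c
    refine ⟨(qv_iff _).mp ?_, e⟩
    have := (qM g _ _).mpr ((qv_iff c).mpr hc)
    rwa [mem_stabM.mp g.2, e] at this
  key_wd := fun _ _ hc hc' => qkey_wd hc hc'

theorem orbit_q0 : orbit (stabilizer M24 (toFs 0x5335f)) (qdec q0) = quartets (toFs 0x5335f) := by
  ext Q
  constructor
  · rintro ⟨g, rfl⟩
    have := (qM g _ _).mpr q0_mem
    rwa [mem_stabM.mp g.2] at this
  · intro hQ
    obtain ⟨g, h1, h2⟩ := trQ d0_mem hQ
    exact ⟨⟨g, h1⟩, h2⟩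

theorem exists_q {Q : Finset (Finset GolayPt)} (hQ : Q ∈ quartets (toFs 0x5335f)) :
    ∃ c, qdec c = Q := by
  obtain ⟨g, -, rfl⟩ := trQ d0_mem hQ
  obtain ⟨t, ht⟩ := exists_repM g
  exact ⟨_, (qact_spec ht q0).symm⟩

theorem Pq_eq : {x | ∃ d, Pq.valid d ∧ Pq.dec d = x} = quartets (toFs 0x5335f) := by
  ext Q
  constructor
  · rintro ⟨c, hc, rfl⟩; exact (qv_iff c).mpr hc
  · intro hQ
    obtain ⟨c, rfl⟩ := exists_q hQ
    exact ⟨c, (qv_iff c).mp hQ, rfl⟩

theorem Wq_eq : orbKeys qact qkey Sdod 300 q0 = Wq := by decide +kernel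

theorem q_aux : (∀ c c', Pq.valid c → Pq.valid c' → Pq.key c = Pq.key c' → Pq.dec c = Pq.dec c') ∧
    {x | ∃ d, Pq.valid d ∧ Pq.dec d = x}.ncard = 220 := by
  refine Pq.key_inj (Act.sub_valid packDod.mem) (fuel := 300) (k := 9) (c := q0)
    ((qv_iff _).mp q0_mem) (Set.toFinite _) ?_
    (by rw [show orbKeys Pq.act Pq.key Sdod 300 q0 = _ from Wq_eq]; decide +kernel)
  rw [Pq_eq, ← orbit_q0]
  refine ncard_orbit_le (A := AM) (L := Lq) packDod.card (fun t ht => ?_) (by decide +kernel)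
  obtain ⟨g, hg, r⟩ := packDod.good.siftAll (S := Fmt.gens Lq) (by decide +kernel) t ht
  refine ⟨g, ⟨hg, ?_⟩, r⟩
  have h := (lall_iff _ _).mp (show lall (fun t => force (qact t q0) fun c =>
    all (fun i => inq c (q4 q0 i)) 4) (Fmt.gens Lq) = true by decide +kernel) t ht
  rw [force_eq, all_iff] at h
  refine (Finset.eq_of_subset_of_card_le (fun u hu => ?_) (cardM _ _).le).symm
  rw [qact_spec r]
  simp only [qdec, Finset.mem_insert, Finset.mem_singleton] at hu
  rcases hu with rfl | rfl | rfl | rfl <;> exact inq_mem (h _ (by decide))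

theorem ncard_quartets : (quartets (toFs 0x5335f)).ncard = 220 := Pq_eq ▸ q_aux.2

/-- quartets -/
def Dq : Coded AM (Finset (Finset GolayPt)) where
  dec := qdec
  valid := fun _ => True
  act := qact
  key := fun c => ite' (qv c) (qkey c) (4096 + Fintype.equivFin _ (qdec c))
  act_spec := fun _ _ c hg _ => ⟨trivial, qact_spec hg c⟩
  key_spec := fun c c' _ _ => by
    have l : ∀ c, qkey c < 4096 := fun c => Nat.and_lt_two_pow _ (show 4095 < 2 ^ 12 by norm_num)
    simp only [ite'_eq]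
    split_ifs with h1 h2 h2
    · exact ⟨qkey_wd h1 h2, q_aux.1 c c' h1 h2⟩
    · refine iff_of_false (fun e => h2 ((qv_iff _).mp (e ▸ (qv_iff _).mpr h1))) ?_
      have := l c; omega
    · refine iff_of_false (fun e => h1 ((qv_iff _).mp (e ▸ (qv_iff _).mpr h2))) ?_
      have := l c'; omega
    · rw [add_right_inj, Fin.val_inj, Equiv.apply_eq_iff_eq]

theorem quartets_keys (x : Finset (Finset GolayPt)) : x ∈ quartets (toFs 0x5335f) ↔
    ∃ d, Dq.valid d ∧ Dq.dec d = x ∧ Wq.testBit (Dq.key d) = true := by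
  have h : ∀ d, qdec d ∈ quartets (toFs 0x5335f) ↔ Wq.testBit (Dq.key d) = true := fun d => by
    rw [← orbit_q0, ← packDod.clo]
    exact Coded.mem_orb_iff (D := Dq) packDod.valid (fuel := 300) (c := q0) trivial
      (by decide +kernel) (by decide +kernel) trivial
  constructor
  · intro hx
    obtain ⟨c, rfl⟩ := exists_q hx
    exact ⟨c, trivial, rfl, (h c).mp hx⟩
  · rintro ⟨c, -, rfl, hc⟩
    exact (h c).mpr hc

theorem packQ : Pack AM (stabilizer M24 (toFs 0x5335f) ⊓ stabilizer M24 (qdec q0)) (Fmt.gens Lq) Lq 432 :=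
  packDod.stabL Dq (c := q0) trivial 300 9 220 Lq 432 (by decide +kernel)

theorem smul_quartets (g : M24) (d : Finset GolayPt) :
    (g : P24) • quartets d = quartets ((g : P24) • d) := by
  ext Q
  obtain ⟨Q, rfl⟩ := exM g Q
  rw [Set.smul_mem_smul_set_iff, qM]

end

end CfsgH7
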