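import Cfsg.Agent.H7.Kl
import Cfsg.Agent.H7.WY

set_option autoImplicit false
set_option linter.unusedSectionVars false

/-! Matrices over small finite fields, coded by numbers, and their action on lines. -/

namespace CfsgH7.Mx

open Matrix

noncomputable section

/-- addition and multiplication tables on the digits `0, …, 15` -/
structure FT where
  q : ℕ
  A : ℕ
  M : ℕ

def dg (w i : ℕ) : ℕ := w >>ₙ (nat_lit 4 *ₙ i) &ₙ nat_lit 15

theorem dg_lt (w i : ℕ) : dg w i < 16 := Nat.and_lt_two_pow _ (by norm_num : 15 < 2 ^ 4)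

theorem dg_pack {f : ℕ → ℕ} {n i : ℕ} (hf : ∀ i, f i < 16) (hi : i < n) : dg (pack 4 f n) i = f i :=
  get_pack 4 n f (fun i _ => hf i) hi

theorem dg_shift (w a i : ℕ) : dg (w >>ₙ (nat_lit 64 *ₙ a)) i = dg w (16 * a + i) := by
  simp only [dg, n_shr, n_mul, n_and, ← Nat.shiftRight_add]
  congr 2
  show 64 * a + 4 * i = 4 * (16 * a + i)
  ring

theorem eq_of_dg : ∀ (n : ℕ) {c d : ℕ}, c >>> (4 * n) = 0 → d >>> (4 * n) = 0 →
    (∀ i < n, dg c i = dg d i) → c = d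
  | 0, c, d, h1, h2, _ => by simp at h1 h2; rw [h1, h2]
  | n + 1, c, d, h1, h2, h => by
    have e : ∀ c i, dg (c >>> 4) i = dg c (i + 1) := fun c i => by
      simp only [dg, n_shr, n_mul, n_and, ← Nat.shiftRight_add]
      congr 2
      show 4 + 4 * i = 4 * (i + 1)
      ring
    have a := eq_of_dg n (c := c >>> 4) (d := d >>> 4)
      (by rw [← Nat.shiftRight_add, ← h1]; congr 1; ring)
      (by rw [← Nat.shiftRight_add, ← h2]; congr 1; ring)
      fun i hi => by rw [e, e, h _ (by omega)]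
    have b := h 0 (by omega)
    simp only [dg, n_shr, n_mul, n_and] at b
    have b' : c &&& (2 ^ 4 - 1) = d &&& (2 ^ 4 - 1) := b
    simp only [Nat.and_two_pow_sub_one_eq_mod, Nat.shiftRight_eq_div_pow] at a b'
    omega

namespace FT

variable (K : FT)

def ad (a b : ℕ) : ℕ := dg K.A (nat_lit 16 *ₙ a +ₙ b)
def mu (a b : ℕ) : ℕ := dg K.M (nat_lit 16 *ₙ a +ₙ b)
def sm (f : ℕ → ℕ) (n : ℕ) : ℕ := Nat.rec 0 (fun i r => force r fun a => K.ad a (f i)) n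
def dot (n r c : ℕ) : ℕ := K.sm (fun j => K.mu (dg r j) (dg c j)) n
def app (n L c : ℕ) : ℕ :=
  pack 4 (fun i => force (L >>ₙ (nat_lit 64 *ₙ i)) fun r => K.dot n r c) n
def mm (n A B : ℕ) : ℕ := pack 4 (fun t => force (A >>ₙ (nat_lit 64 *ₙ (t >>ₙ nat_lit 4))) fun r =>
  force (B >>ₙ (nat_lit 4 *ₙ (t &ₙ nat_lit 15))) fun c =>
    K.sm (fun l => K.mu (dg r l) (dg c (nat_lit 16 *ₙ l))) n) (nat_lit 16 *ₙ n)
def ma (n A B : ℕ) : ℕ := pack 4 (fun t => K.ad (dg A t) (dg B t)) (nat_lit 16 *ₙ n)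
def pw (a k : ℕ) : ℕ := Nat.rec 1 (fun _ r => force r fun b => K.mu b a) k
def mp (n k A : ℕ) : ℕ := pack 4 (fun t => K.pw (dg A t) k) (nat_lit 16 *ₙ n)
def mpow (n I A k : ℕ) : ℕ := Nat.rec I (fun _ r => force r fun B => K.mm n B A) k

theorem sm_succ (f : ℕ → ℕ) (n : ℕ) : K.sm f (n + 1) = K.ad (K.sm f n) (f n) :=
  force_eq (K.sm f n) fun a => K.ad a (f n)
theorem pw_succ (a k : ℕ) : K.pw a (k + 1) = K.mu (K.pw a k) a :=
  force_eq (K.pw a k) fun b => K.mu b a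
theorem mpow_succ (n I A k : ℕ) : K.mpow n I A (k + 1) = K.mm n (K.mpow n I A k) A :=
  force_eq (K.mpow n I A k) fun B => K.mm n B A
theorem ad_lt (a b : ℕ) : K.ad a b < 16 := dg_lt _ _
theorem mu_lt (a b : ℕ) : K.mu a b < 16 := dg_lt _ _
theorem sm_lt (f : ℕ → ℕ) : ∀ n, K.sm f n < 16
  | 0 => by simp [sm]
  | n + 1 => K.sm_succ f n ▸ K.ad_lt _ _
theorem pw_lt (a : ℕ) : ∀ k, K.pw a k < 16
  | 0 => by simp [pw]
  | n + 1 => K.pw_succ a n ▸ K.mu_lt _ _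

/-- nonzero digits are invertible, and differences exist -/
def ok : Bool := (K.q ≤ₙ 16) &&ₙ all (fun a => (a =ₙ 0) ||ₙ bnot (all (fun b => bnot (K.mu a b =ₙ 1)) 16)) K.q &&ₙ
  all (fun a => all (fun b => (a =ₙ b) ||ₙ
    bnot (all (fun c => (c =ₙ 0) ||ₙ bnot (K.ad b c =ₙ a)) K.q)) K.q) K.q

end FT

def tp (n A : ℕ) : ℕ :=
  pack 4 (fun t => dg A (nat_lit 16 *ₙ (t &ₙ nat_lit 15) +ₙ t >>ₙ nat_lit 4)) (nat_lit 16 *ₙ n)
def idm (n : ℕ) : ℕ := pack 4 (fun t => ite' (t >>ₙ nat_lit 4 =ₙ (t &ₙ nat_lit 15)) 1 0) (nat_lit 16 *ₙ n)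

/-- the digits name elements of the field `F` -/
structure Enc (K : FT) (F : Type*) [Field F] where
  e : ℕ → F
  add : ∀ a < 16, ∀ b < 16, e (K.ad a b) = e a + e b
  mul : ∀ a < 16, ∀ b < 16, e (K.mu a b) = e a * e b
  e0 : e 0 = 0
  e1 : e 1 = 1
  ok : K.ok = true

variable {K : FT} {F : Type*} [Field F] (E : Enc K F)

namespace Enc

include E in
theorem q16 : K.q ≤ 16 := by
  have := E.ok
  simp only [FT.ok, band_eq, Bool.and_eq_true, n_ble] at this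
  exact this.1

theorem ne0 {a : ℕ} (ha : a < K.q) (h0 : a ≠ 0) : E.e a ≠ 0 := fun h => by
  have := E.ok
  simp only [FT.ok, band_eq, Bool.and_eq_true, all_iff, bor_eq, Bool.or_eq_true, n_beq, bnot_eq,
    Bool.not_eq_true', ← Bool.not_eq_true, not_forall, not_not] at this
  obtain ⟨b, hb, e⟩ := (this.2.1 a ha).resolve_left h0
  have := E.mul a (ha.trans_le E.q16) b hb
  rw [e, E.e1, h, zero_mul] at this
  exact one_ne_zero this

theorem inj {a b : ℕ} (ha : a < K.q) (hb : b < K.q) (h : E.e a = E.e b) : a = b := by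
  have := E.ok
  simp only [FT.ok, band_eq, Bool.and_eq_true, all_iff, bor_eq, Bool.or_eq_true, n_beq, bnot_eq,
    Bool.not_eq_true', ← Bool.not_eq_true, not_forall, not_not, not_or] at this
  by_contra h0
  obtain ⟨c, hc, c0, e⟩ := (this.2.2 a ha b hb).resolve_left h0
  have := E.add b (hb.trans_le E.q16) c (hc.trans_le E.q16)
  rw [e, h, left_eq_add] at this
  exact E.ne0 hc c0 this

theorem sm {f : ℕ → ℕ} (hf : ∀ i, f i < 16) : ∀ n, E.e (K.sm f n) = ∑ i ∈ Finset.range n, E.e (f i)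
  | 0 => E.e0
  | n + 1 => by
    rw [FT.sm_succ, E.add _ (K.sm_lt _ _) _ (hf _), sm hf n, Finset.sum_range_succ]

theorem pw {a : ℕ} (ha : a < 16) : ∀ k, E.e (K.pw a k) = E.e a ^ k
  | 0 => E.e1.trans (pow_zero _).symm
  | k + 1 => by
    rw [FT.pw_succ, E.mul _ (K.pw_lt _ _) _ ha, pw ha k, pow_succ]

variable {ι : Type*} [Fintype ι] {n : ℕ} (σ : ι ≃ Fin n)

def vec (c : ℕ) : ι → F := fun i => E.e (dg c (σ i))
def mat (L : ℕ) : Matrix ι ι F := of fun i j => E.e (dg L (16 * σ i + σ j))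

theorem sum_eq (f : ℕ → F) : ∑ i ∈ Finset.range n, f i = ∑ j : ι, f (σ j) := by
  rw [Finset.sum_range, ← σ.sum_comp]

theorem app (L c : ℕ) : E.vec σ (K.app n L c) = E.mat σ L *ᵥ E.vec σ c := by
  funext i
  rw [vec, FT.app, dg_pack (fun i => by rw [force_eq]; exact K.sm_lt _ _) (σ i).2, force_eq, FT.dot,
    E.sm fun _ => K.mu_lt _ _, sum_eq σ]
  refine Finset.sum_congr rfl fun j _ => ?_
  rw [E.mul _ (dg_lt _ _) _ (dg_lt _ _), dg_shift]
  rfl

theorem idx (hn : n ≤ 16) (i j : ι) : 16 * (σ i : ℕ) + σ j < nat_lit 16 *ₙ n ∧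
    (16 * (σ i : ℕ) + σ j) >>ₙ nat_lit 4 = σ i ∧ (16 * (σ i : ℕ) + σ j) &ₙ nat_lit 15 = σ j := by
  have a := (σ i).2
  have b := (σ j).2
  refine ⟨show _ < 16 * n by omega, ?_, ?_⟩
  · show _ >>> 4 = _
    rw [Nat.shiftRight_eq_div_pow]; omega
  · show _ &&& (2 ^ 4 - 1) = _
    rw [Nat.and_two_pow_sub_one_eq_mod]; omega

variable (hn : n ≤ 16)
include hn

theorem mm (A B : ℕ) : E.mat σ (K.mm n A B) = E.mat σ A * E.mat σ B := by
  ext i j
  obtain ⟨a, b, c⟩ := idx σ hn i j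
  rw [mat, of_apply, FT.mm, dg_pack (fun i => by rw [force_eq, force_eq]; exact K.sm_lt _ _) a,
    force_eq, force_eq, b, c, E.sm fun _ => K.mu_lt _ _, sum_eq σ, mul_apply]
  refine Finset.sum_congr rfl fun l _ => ?_
  rw [E.mul _ (dg_lt _ _) _ (dg_lt _ _), dg_shift]
  congr 2
  simp only [dg, n_shr, n_mul, n_and, ← Nat.shiftRight_add]
  congr 2
  show 4 * _ + 4 * (16 * _) = 4 * (16 * _ + _)
  ring

theorem ma (A B : ℕ) : E.mat σ (K.ma n A B) = E.mat σ A + E.mat σ B := by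
  ext i j
  rw [mat, of_apply, FT.ma, dg_pack (fun i => K.ad_lt _ _) (idx σ hn i j).1,
    E.add _ (dg_lt _ _) _ (dg_lt _ _)]
  rfl

theorem mp (k A : ℕ) : E.mat σ (K.mp n k A) = (E.mat σ A).map (· ^ k) := by
  ext i j
  rw [mat, of_apply, FT.mp, dg_pack (fun i => K.pw_lt _ _) (idx σ hn i j).1, E.pw (dg_lt _ _)]
  rfl

theorem tp (A : ℕ) : E.mat σ (tp n A) = (E.mat σ A)ᵀ := by
  ext i j
  obtain ⟨a, b, c⟩ := idx σ hn i j
  rw [mat, of_apply, Mx.tp, dg_pack (fun i => dg_lt _ _) a, b, c]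
  rfl

theorem idm [DecidableEq ι] : E.mat σ (idm n) = 1 := by
  ext i j
  obtain ⟨a, b, c⟩ := idx σ hn i j
  rw [mat, of_apply, Mx.idm, dg_pack (fun i => by rw [ite'_eq]; split_ifs <;> norm_num) a, b, c,
    ite'_eq, one_apply]
  simp only [n_beq, Fin.val_inj, σ.apply_eq_iff_eq]
  split_ifs
  exacts [E.e1, E.e0]

theorem mpow [DecidableEq ι] (A : ℕ) : ∀ k, E.mat σ (K.mpow n (Mx.idm n) A k) = E.mat σ A ^ k
  | 0 => (E.idm σ hn).trans (pow_zero _).symm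
  | k + 1 => by
    rw [FT.mpow_succ, E.mm σ hn, mpow A k, pow_succ]

/-- the order of the matrix divides `k` -/
theorem pow_one [DecidableEq ι] {A k : ℕ} (h : (K.mpow n (Mx.idm n) A k =ₙ Mx.idm n) = true) :
    E.mat σ A ^ k = 1 := by
  rw [← E.mpow σ hn, (n_beq _ _).mp h, E.idm σ hn]

end Enc

/-! ### lines -/

variable {ι : Type*} [Fintype ι] [DecidableEq ι] {G : Type*} [Group G]

/-- action on subspaces -/
@[reducible] def lact (ρ : G →* Matrix ι ι F) : MulAction G (Submodule F (ι → F)) where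
  smul g S := S.map (mulVecLin (ρ g))
  one_smul S := by
    show S.map _ = S
    rw [map_one, mulVecLin_one, Submodule.map_id]
  mul_smul g h S := by
    show S.map _ = (S.map _).map _
    rw [map_mul, mulVecLin_mul, Submodule.map_comp]

theorem lact_ker (ρ : G →* Matrix ι ι F) {z : G} (h : ∃ c : F, ρ z = c • (1 : Matrix ι ι F))
    (S : Submodule F (ι → F)) : S.map (mulVecLin (ρ z)) = S := by
  obtain ⟨c, hc⟩ := h
  have a : ∀ {g : G} {c : F}, ρ g = c • (1 : Matrix ι ι F) → S.map (mulVecLin (ρ g)) ≤ S := by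
    rintro g c h _ ⟨v, hv, rfl⟩
    rw [h, mulVecLin_apply, smul_mulVec, one_mulVec]
    exact S.smul_mem _ hv
  refine le_antisymm (a hc) fun v hv => ?_
  have e : ρ z * ρ z⁻¹ = 1 := by rw [← map_mul, mul_inv_cancel, map_one]
  by_cases c0 : c = 0
  · rw [hc, c0, zero_smul, zero_mul] at e
    have : v = 0 := by rw [← one_mulVec v, ← e, zero_mulVec]
    rw [this]; exact zero_mem _
  · refine ⟨c⁻¹ • v, S.smul_mem _ hv, ?_⟩
    rw [hc, mulVecLin_apply, smul_mulVec, one_mulVec, smul_smul, mul_inv_cancel₀ c0, one_smul]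

/-- action of a quotient by scalars -/
@[reducible] def qact (ρ : G →* Matrix ι ι F) (Z : Subgroup G) [Z.Normal]
    (hZ : ∀ z ∈ Z, ∃ c : F, ρ z = c • (1 : Matrix ι ι F)) : MulAction (G ⧸ Z) (Submodule F (ι → F)) :=
  letI := lact ρ
  MulAction.compHom _ (QuotientGroup.lift Z (MulAction.toPermHom G (Submodule F (ι → F)))
    fun z hz => Equiv.ext (lact_ker ρ (hZ z hz)))

/-- rows: a code of 64 bits, then images (16 bits, and a scalar of 4 bits) -/
structure MT where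
  K : FT
  n : ℕ
  N : ℕ
  k : ℕ
  row : ℕ → ℕ
  L : ℕ → ℕ
  B : List ℕ

/-- the first nonzero digit is one -/
def nrm (n : ℕ) : ℕ → Bool :=
  Nat.rec (fun _ => false) (fun _ r c => ite' (c &ₙ nat_lit 15 =ₙ 0) (r (c >>ₙ nat_lit 4))
    (c &ₙ nat_lit 15 =ₙ 1)) n

theorem nrm_spec : ∀ (n : ℕ) {c : ℕ}, nrm n c = true → ∃ i < n, dg c i = 1 ∧ ∀ j < i, dg c j = 0
  | 0, _, h => by simp [nrm] at h
  | n + 1, c, h => by
    have h' : ite' (c &ₙ nat_lit 15 =ₙ 0) (nrm n (c >>ₙ nat_lit 4)) (c &ₙ nat_lit 15 =ₙ 1) = true := h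
    have e : ∀ i, dg (c >>ₙ nat_lit 4) i = dg c (i + 1) := fun i => by
      simp only [dg, n_shr, n_mul, n_and, ← Nat.shiftRight_add]
      congr 2
      show 4 + 4 * i = 4 * (i + 1)
      ring
    rw [ite'_eq] at h'
    split_ifs at h' with a
    · obtain ⟨i, hi, b, d⟩ := nrm_spec n h'
      refine ⟨i + 1, by omega, e i ▸ b, fun j hj => ?_⟩
      cases j with
      | zero => exact (n_beq _ _).mp a
      | succ j => exact e j ▸ d j (by omega)
    · exact ⟨0, by omega, (n_beq _ _).mp h', by simp⟩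

namespace MT

variable (T : MT)

def P (p : ℕ) : ℕ := T.row p &ₙ nat_lit 0xffffffffffffffff
def U (x p : ℕ) : ℕ := ite' (nat_lit 2 *ₙ T.k ≤ₙ x) p
  (T.row p >>ₙ (nat_lit 64 +ₙ x *ₙ nat_lit 20) &ₙ nat_lit 0xffff)
def S (x p : ℕ) : ℕ := T.row p >>ₙ (nat_lit 80 +ₙ x *ₙ nat_lit 20) &ₙ nat_lit 15
def tb : Tb := ⟨T.N, 16, T.U, 0xefcdab8967452301, 0xffff, T.B⟩

def ptOk (p : ℕ) : Bool := force (T.P p) fun c =>
  ((T.N ≤ₙ Nat.succ p) ||ₙ (Nat.succ c ≤ₙ T.P (Nat.succ p))) &&ₙ nrm T.n c &&ₙ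
  (c >>ₙ (nat_lit 4 *ₙ T.n) =ₙ 0) &&ₙ all1 (fun i => Nat.succ (dg c i) ≤ₙ T.K.q) T.n &&ₙ
  all1 (fun i => force (T.U (nat_lit 2 *ₙ i) p) fun q => (Nat.succ q ≤ₙ T.N) &&ₙ
    force (T.S (nat_lit 2 *ₙ i) p) fun s => (Nat.succ s ≤ₙ T.K.q) &&ₙ (1 ≤ₙ s) &&ₙ
    force (T.K.app T.n (T.L i) c) (fun u => force (T.P q) fun d =>
      all1 (fun j => dg u j =ₙ T.K.mu s (dg d j)) T.n) &&ₙ
    force (T.U (nat_lit 2 *ₙ i +ₙ nat_lit 1) p) fun q' =>
      (Nat.succ q' ≤ₙ T.N) &&ₙ (T.U (nat_lit 2 *ₙ i) q' =ₙ p)) T.k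

def Ok : Prop := ∀ p < T.N, T.ptOk p = true

variable {T}

theorem Ok.pt (h : T.Ok) {p : ℕ} (hp : p < T.N) :
    (p + 1 < T.N → T.P p < T.P (p + 1)) ∧ nrm T.n (T.P p) = true ∧ T.P p >>> (4 * T.n) = 0 ∧
    (∀ i < T.n, dg (T.P p) i < T.K.q) ∧ ∀ i < T.k, T.U (2 * i) p < T.N ∧ T.S (2 * i) p < T.K.q ∧
      1 ≤ T.S (2 * i) p ∧ (∀ j < T.n, dg (T.K.app T.n (T.L i) (T.P p)) j =
        T.K.mu (T.S (2 * i) p) (dg (T.P (T.U (2 * i) p)) j)) ∧ T.U (2 * i + 1) p < T.N ∧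
        T.U (2 * i) (T.U (2 * i + 1) p) = p := by
  have := h p hp
  simp only [ptOk, force_eq, band_eq, bor_eq, Bool.and_eq_true, Bool.or_eq_true, n_ble, all1_iff,
    n_beq, n_mul, n_add] at this
  exact ⟨fun a => this.1.resolve_left (by omega), this.2⟩

theorem Ok.mono (h : T.Ok) {p q : ℕ} (hp : p < T.N) (hq : q < T.N) (e : T.P p = T.P q) : p = q := by
  have : ∀ d p, p + d + 1 < T.N → T.P p < T.P (p + d + 1) := fun d p => by
    induction d with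
    | zero => exact fun a => (h.pt (by omega)).1 a
    | succ d ih => exact fun a => (ih (by omega)).trans ((h.pt (by omega)).1 a)
  rcases lt_trichotomy p q with a | a | a
  · obtain ⟨d, rfl⟩ := Nat.exists_eq_add_of_lt a
    exact absurd e (this d p hq).ne
  · exact a
  · obtain ⟨d, rfl⟩ := Nat.exists_eq_add_of_lt a
    exact absurd e (this d q hp).ne'

variable (E : Enc T.K F) (σ : ι ≃ Fin T.n)

def ln (p : ℕ) : Submodule F (ι → F) := Submodule.span F {E.vec σ (T.P p)}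

theorem Ok.inj (h : T.Ok) {p q : ℕ} (hp : p < T.N) (hq : q < T.N) (e : ln E σ p = ln E σ q) :
    p = q := by
  obtain ⟨-, a1, a2, a3, -⟩ := h.pt hp
  obtain ⟨-, b1, b2, b3, -⟩ := h.pt hq
  obtain ⟨i, hi, c1, c2⟩ := nrm_spec _ a1
  obtain ⟨j, hj, d1, d2⟩ := nrm_spec _ b1
  obtain ⟨a, ha⟩ := Submodule.span_singleton_eq_span_singleton.mp e
  have f : ∀ l < T.n, (a : F) * E.e (dg (T.P p) l) = E.e (dg (T.P q) l) := fun l hl => by
    simpa [Enc.vec, Units.smul_def] using congrFun ha (σ.symm ⟨l, hl⟩)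
  have g : (a : F) = 1 := by
    rcases lt_trichotomy i j with k | k | k
    · have := f i hi
      rw [c1, d2 i k, E.e1, E.e0, mul_one] at this
      exact absurd this a.ne_zero
    · have := f i hi
      rwa [c1, k, d1, E.e1, mul_one] at this
    · have := f j hj
      rw [c2 j k, d1, E.e1, E.e0, mul_zero] at this
      exact absurd this zero_ne_one
  exact h.mono hp hq (eq_of_dg _ a2 b2 fun l hl => E.inj (a3 l hl) (b3 l hl)
    (by rw [← f l hl, g, one_mul]))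

theorem Ok.map (h : T.Ok) {p i : ℕ} (hp : p < T.N) (hi : i < T.k) :
    (ln E σ p).map (mulVecLin (E.mat σ (T.L i))) = ln E σ (T.U (2 * i) p) := by
  obtain ⟨-, a, b, c, -⟩ := (h.pt hp).2.2.2.2 i hi
  have e : E.mat σ (T.L i) *ᵥ E.vec σ (T.P p) =
      E.e (T.S (2 * i) p) • E.vec σ (T.P (T.U (2 * i) p)) := by
    rw [← E.app]
    funext j
    rw [Enc.vec, c _ (σ j).2, E.mul _ (a.trans_le E.q16) _ (dg_lt _ _)]
    rfl
  rw [ln, Submodule.map_span, Set.image_singleton, mulVecLin_apply, e,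
    Submodule.span_singleton_smul_eq (E.ne0 a (by omega)).isUnit, ln]

/-- the table of a group acting on lines -/
def Ok.W (h : T.Ok) {H : Type*} [Group H] [MulAction H (Submodule F (ι → F))] (y : ℕ → H)
    (hy : ∀ i < T.k, ∀ S : Submodule F (ι → F), y i • S = S.map (mulVecLin (E.mat σ (T.L i)))) :
    WT0 T.tb H (Submodule F (ι → F)) where
  gen x := if x / 2 < T.k then (if x % 2 = 0 then y (x / 2) else (y (x / 2))⁻¹) else 1
  pt := ln E σ
  inj _ hp _ hq := h.inj E σ hp hq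
  spec := fun x _ p hp => by
    show T.U x p < T.N ∧ _ = ln E σ (T.U x p)
    by_cases hx : x / 2 < T.k
    · obtain ⟨a, -, -, -, b, c⟩ := (h.pt hp).2.2.2.2 _ hx
      rw [if_pos hx]
      split_ifs with e
      · have e' : x = 2 * (x / 2) := by omega
        rw [hy _ hx, h.map E σ hp hx, ← e']
        exact ⟨e' ▸ a, rfl⟩
      · have e' : x = 2 * (x / 2) + 1 := by omega
        rw [← e'] at b c
        refine ⟨b, ?_⟩
        rw [inv_smul_eq_iff, hy _ hx, h.map E σ b hx, c]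
    · have a : T.U x p = p := by
        rw [U, ite'_eq, if_pos]
        simp only [n_mul, n_ble]
        show 2 * T.k ≤ x
        omega
      rw [a, if_neg hx, one_smul]
      exact ⟨hp, rfl⟩
  hiv := fun x hx => by
    have : x < 16 := by
      by_contra h'
      rw [Nat.testBit_eq_false_of_lt (lt_of_lt_of_le (show T.tb.im < 2 ^ 16 from (by norm_num : (0xffff : ℕ) < 2 ^ 16))
        (Nat.pow_le_pow_right (by norm_num) (not_lt.mp h')))] at hx
      exact absurd hx (by simp)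
    have e : ∀ x < 16, dig 0xefcdab8967452301 x < 16 ∧ dig 0xefcdab8967452301 x / 2 = x / 2 ∧
      (dig 0xefcdab8967452301 x % 2 = 0 ↔ ¬ x % 2 = 0) := by decide
    obtain ⟨a, b, c⟩ := e x this
    refine ⟨a, ?_⟩
    show (if dig 0xefcdab8967452301 x / 2 < T.k then _ else 1) * _ = (1 : H)
    simp only [show T.tb.iv = 0xefcdab8967452301 from rfl, b]
    by_cases d : x % 2 = 0 <;> by_cases f : x / 2 < T.k <;> simp [c, d, f]

/-- the hypothesis that checks a chain -/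
def chk (T : Tb) (j : ℕ) (L : List (ℕ × ℕ × List ℕ)) (m : ℕ) : Bool :=
  lall (fun l => lall (okW 16) l.2.2) L &&ₙ T.chainChk j L &&ₙ (WG.chainSize L =ₙ m) &&ₙ
    lall (fun l => lany (fun b => b =ₙ l.1) T.B) L &&ₙ lall (fun b => Nat.succ b ≤ₙ T.N) T.B

theorem Ok.full (h : T.Ok) {H : Type*} [Group H] [MulAction H (Submodule F (ι → F))]
    (hy : ∀ i < T.k, ∃ y : H, ∀ S : Submodule F (ι → F), y • S = S.map (mulVecLin (E.mat σ (T.L i))))
    {m j : ℕ} {L : List (ℕ × ℕ × List ℕ)} (hc : chk T.tb j L m = true) (hm : Nat.card H = m)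
    (h0 : m ≠ 0) : Finite H ∧ ∃ W : WT T.tb H (Submodule F (ι → F)), cl W.gen 16 = ⊤ := by
  choose! y hy using hy
  have : Finite H := Nat.finite_of_card_ne_zero (hm ▸ h0)
  obtain ⟨-, W, e, t⟩ := (h.W E σ y hy).full ⟨this, hm.le⟩ 16 j L hc
  exact ⟨this, W, by rwa [← e] at t⟩

theorem Ok.lfull (h : T.Ok) (ρ : G →* Matrix ι ι F) (hy : ∀ i < T.k, ∃ y, ρ y = E.mat σ (T.L i))
    {m j : ℕ} {L : List (ℕ × ℕ × List ℕ)} (hc : chk T.tb j L m = true) (hm : Nat.card G = m)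
    (h0 : m ≠ 0) : Finite G ∧ ∃ (_ : MulAction G (Submodule F (ι → F)))
      (W : WT T.tb G (Submodule F (ι → F))), cl W.gen 16 = ⊤ :=
  letI := lact ρ
  let ⟨a, b⟩ := h.full E σ (H := G) (fun i hi => let ⟨y, e⟩ := hy i hi; ⟨y, fun _ => e ▸ rfl⟩) hc hm h0
  ⟨a, this, b⟩

theorem Ok.qfull (h : T.Ok) (ρ : G →* Matrix ι ι F) (Z : Subgroup G) [Z.Normal]
    (hZ : ∀ z ∈ Z, ∃ c : F, ρ z = c • (1 : Matrix ι ι F))
    (hy : ∀ i < T.k, ∃ y, ρ y = E.mat σ (T.L i))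
    {m j : ℕ} {L : List (ℕ × ℕ × List ℕ)} (hc : chk T.tb j L m = true) (hm : Nat.card (G ⧸ Z) = m)
    (h0 : m ≠ 0) : Finite (G ⧸ Z) ∧ ∃ (_ : MulAction (G ⧸ Z) (Submodule F (ι → F)))
      (W : WT T.tb (G ⧸ Z) (Submodule F (ι → F))), cl W.gen 16 = ⊤ :=
  letI := qact ρ Z hZ
  let ⟨a, b⟩ := h.full E σ (H := G ⧸ Z)
    (fun i hi => let ⟨y, e⟩ := hy i hi; ⟨y, fun _ => e ▸ rfl⟩) hc hm h0
  ⟨a, this, b⟩

end MT

end

end CfsgH7.Mx
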