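import Cfsg.Agent.H7.Mx2
import Cfsg.Agent.H7.Iso2

set_option autoImplicit false
set_option linter.unusedSectionVars false

/-! Matrix groups given by generators. -/

namespace CfsgH7

open Matrix Cfsg Subgroup
open scoped commutatorElement

noncomputable section

/-- the table with another base -/
def Tb.wB (T : Tb) (B : List ℕ) : Tb := ⟨T.N, T.n, T.U, T.iv, T.im, B⟩

theorem WT.rebase {T : Tb} {B : List ℕ} {G Ω : Type*} [Group G] [MulAction G Ω] [Finite G]
    (W : WT (T.wB B) G Ω) {m j : ℕ} {L : List (ℕ × ℕ × List ℕ)} (hm : Nat.card G ≤ m)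
    (hc : Mx.MT.chk T j L m = true) : Nat.card G = m ∧
      ∃ W' : WT T G Ω, W'.gen = W.gen ∧ W'.pt = W.pt ∧ cl W'.gen 16 = ⊤ := by
  obtain ⟨a, W', b, c⟩ := WT0.full (T := T) ⟨W.gen, W.pt, W.inj, W.spec, W.hiv⟩
    ⟨inferInstance, hm⟩ 16 j L hc
  have e : W'.gen = W.gen := congrArg WT0.gen b
  exact ⟨a, W', e, congrArg WT0.pt b, e ▸ c⟩

/-- central elements fix all points -/
theorem WT0.cen {T : Tb} {G Ω : Type*} [Group G] [MulAction G Ω] (W : WT0 T G Ω)
    (top : cl W.gen T.n = ⊤) {S ws : List ℕ} (h : (T.fixes S [0] &&ₙ lall (okW T.n) ws &&ₙ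
      all (fun q => (q =ₙ 0) ||ₙ lany (fun s => bnot (trW T.U s q =ₙ q)) S) T.N) = true) {z : G}
    (hz : z ∈ center G) : ∀ c ∈ ws.map fun w => trW T.U w 0, z • W.pt c = W.pt c := by
  simp only [band_eq, bor_eq, Bool.and_eq_true, Bool.or_eq_true, all_iff, n_beq, lany_iff,
    lall_iff (l := ws), bnot_eq, Bool.not_eq_true', n_beq_false] at h
  obtain ⟨h1, h2, h3⟩ := h
  have h4 := h1
  simp only [Tb.fixes, band_eq, Bool.and_eq_true, lall_iff, n_ble] at h4
  have h0 : 0 < T.N := h4.1 0 (by simp)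
  have hc := mem_center_iff.mp hz
  obtain ⟨q, hq, e⟩ := W.exists_pt le_rfl (top ▸ mem_top z) h0
  have : q = 0 := (h3 q hq).resolve_right fun ⟨s, hs, a⟩ => a (by
    have b := W.trW_spec (h4.2 s hs).1 hq
    refine W.inj _ b.1 _ hq ?_
    rw [← b.2, ← e, ← mul_smul, hc, mul_smul, W.fixes_spec h1 s hs 0 (by simp)])
  intro c hc'
  obtain ⟨w, hw, rfl⟩ := List.mem_map.mp hc'
  rw [← (W.trW_spec (h2 w hw) h0).2, ← mul_smul, ← hc, mul_smul, e, this]

namespace Mx

variable {K : FT} {F : Type*} [Field F]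
variable (E : Enc K F) {ι : Type} [Fintype ι] [DecidableEq ι] {n : ℕ} (σ : ι ≃ Fin n)

/-- product of listed matrices -/
def mwd (K : FT) (n : ℕ) (Ls w : List ℕ) : ℕ :=
  List.rec (idm n) (fun x _ r => force r fun r => K.mm n (Ls.getD x 0) r) w

theorem In.word (hn : n ≤ 16) {G : Type*} [Group G] {ρ : G →* Matrix ι ι F} {Ls : List ℕ}
    (h : Ls.Forall (In E σ ρ)) : ∀ {w : List ℕ}, (∀ x ∈ w, x < Ls.length) → In E σ ρ (mwd K n Ls w)
  | [], _ => ⟨1, by rw [map_one]; exact (E.idm σ hn).symm⟩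
  | x :: w, hw => by
    have a := hw x List.mem_cons_self
    refine In.mul E σ hn (List.forall_iff_forall_mem.mp h _ (List.getElem_mem a))
      (In.word hn h fun y hy => hw y (List.mem_cons_of_mem _ hy)) ?_
    show (force (mwd K n Ls w) (fun r => K.mm n (Ls.getD x 0) r) =ₙ _) = true
    rw [force_eq, List.getD_eq_getElem _ _ a, n_beq]

def wdOk (K : FT) (n : ℕ) (Ls : List ℕ) (P : List (ℕ × List ℕ)) : Bool :=
  lall (fun p => lall (fun x => Nat.succ x ≤ₙ Ls.length) p.2 &&ₙ (p.1 =ₙ mwd K n Ls p.2)) P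

theorem In.words (hn : n ≤ 16) {G : Type*} [Group G] {ρ : G →* Matrix ι ι F} {Ls : List ℕ}
    (h : Ls.Forall (In E σ ρ)) (P : List (ℕ × List ℕ)) (hP : wdOk K n Ls P = true) :
    (P.map Prod.fst).Forall (In E σ ρ) := by
  simp only [wdOk, lall_iff, band_eq, Bool.and_eq_true, n_beq, n_ble] at hP
  rw [List.forall_iff_forall_mem]
  intro L hL
  obtain ⟨p, hp, rfl⟩ := List.mem_map.mp hL
  exact (hP p hp).2 ▸ In.word E σ hn h (hP p hp).1

theorem closure_top {s : Set (GL ι F)} {H : Subgroup (closure s)}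
    (h : ∀ g ∈ s, ∃ L, (g : Matrix ι ι F) = E.mat σ L ∧
      In E σ (((Units.coeHom _).comp (closure s).subtype).comp H.subtype) L) : H = ⊤ := by
  rw [eq_top_iff, ← closure_closure_coe_preimage, closure_le]
  intro g hg
  obtain ⟨L, a, y, b⟩ := h g hg
  rw [show g = y from Subtype.ext (Units.ext (a.trans b.symm))]
  exact y.2

theorem center3 [Fintype F] [Nonempty ι] (hF : Fintype.card F = 4) {ω : F} (hω : ω ^ 2 + ω + 1 = 0)
    {G : Type*} [Group G] {ρ : G →* Matrix ι ι F} (hi : Function.Injective ρ)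
    (hZ : ∀ z ∈ center G, ∃ c : F, ρ z = c • (1 : Matrix ι ι F)) {a d : G}
    (h : ρ a * ρ d = ω • (ρ d * ρ a)) :
    Nat.card (center G) = 3 ∧ center G ≤ _root_.commutator G := by
  have hs : ρ ⁅a, d⁆ = ω • 1 := by
    rw [show ⁅a, d⁆ = a * d * (d * a)⁻¹ by group, map_mul, map_mul, h, smul_mul_assoc, ← map_mul,
      ← map_mul, mul_inv_cancel, map_one]
  have h3 : ω ^ 3 = 1 := by linear_combination (ω - 1) * hω
  have h1 : ω ≠ 1 := fun e => by
    have := charP_of (F := F) Nat.prime_two (n := 2) hF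
    have h2 : (2 : F) = 0 := CharP.cast_eq_zero F 2
    exact one_ne_zero (α := F) (by rw [e] at hω; linear_combination hω - h2)
  obtain ⟨i⟩ := ‹Nonempty ι›
  have ho : orderOf ⁅a, d⁆ = 3 := orderOf_eq_prime
    (hi (by rw [map_pow, hs, smul_pow, h3, one_pow, one_smul, map_one])) fun e => h1 (by
      have := congrFun (congrFun hs i) i
      rw [e, map_one] at this
      simpa using this.symm)
  have e : center G = zpowers ⁅a, d⁆ := le_antisymm (fun z hz => by
    obtain ⟨c, hc⟩ := hZ z hz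
    have c0 : c ≠ 0 := fun e => by
      have := congrFun (congrFun (map_mul ρ z z⁻¹) i) i
      rw [mul_inv_cancel, map_one, hc, e] at this
      simp at this
    have c3 := FiniteField.pow_card_sub_one_eq_one c c0
    rw [hF] at c3
    have : (c - ω ^ 0) * ((c - ω ^ 1) * (c - ω ^ 2)) = 0 := by
      linear_combination c3 - (c ^ 2 - c) * hω + (c - 1) * h3
    have k : ∀ m : ℕ, c - ω ^ m = 0 → z ∈ zpowers ⁅a, d⁆ := fun m hm =>
      ⟨m, hi (by simp only [zpow_natCast]; rw [map_pow, hs, smul_pow, one_pow, hc, sub_eq_zero.mp hm])⟩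
    rcases mul_eq_zero.mp this with a | a
    · exact k _ a
    · exact (mul_eq_zero.mp a).elim (k _) (k _))
    (zpowers_le.mpr (mem_center_iff.mpr fun g => hi (by simp [hs])))
  exact ⟨by rw [e, Nat.card_zpowers, ho],
    e ▸ zpowers_le.mpr (commutator_mem_commutator (mem_top _) (mem_top _))⟩

namespace MT

variable {T : MT} (E : Enc T.K F) (σ : ι ≃ Fin T.n) {H : Type*} [Group H]
  [MulAction H (Submodule F (ι → F))] {y : ℕ → H}
  (hy : ∀ i < T.k, ∀ S : Submodule F (ι → F), y i • S = S.map (mulVecLin (E.mat σ (T.L i))))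

theorem Ok.top (h : T.Ok) (hk : T.k ≤ 8) (ht : cl y T.k = ⊤) : cl (h.W E σ y hy).gen 16 = ⊤ :=
  top_le_iff.mp (ht ▸ cl_le fun i hi => by
    have := mem_cl (h.W E σ y hy).gen (show 2 * i < 16 by omega)
    simpa [Ok.W, hi] using this)

/-- the table with a frame as base -/
def Ok.WF (h : T.Ok) (hn : T.n ≤ 16) {b V : ℕ} {B : List ℕ} (hf : (frOk T b B V &&ₙ
      lall (fun c => Nat.succ c ≤ₙ T.N) (b :: B)) = true)
    (hb : ∀ g : H, ∃ m : Matrix ι ι F, (∀ S : Submodule F (ι → F), g • S = S.map (mulVecLin m)) ∧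
      ∀ c : F, m = c • (1 : Matrix ι ι F) → g = 1) :
    WT (T.tb.wB (b :: B)) H (Submodule F (ι → F)) where
  gen := (h.W E σ y hy).gen
  pt := ln E σ
  inj := (h.W E σ y hy).inj
  spec := (h.W E σ y hy).spec
  hiv := (h.W E σ y hy).hiv
  hB := by
    rw [band_eq, Bool.and_eq_true, lall_iff] at hf
    exact fun c hc => (n_ble _ _).mp (hf.2 c hc)
  base := fun g hg => by
    rw [band_eq, Bool.and_eq_true] at hf
    obtain ⟨m, a, b⟩ := hb g
    obtain ⟨c, hc⟩ := frame E σ hn hf.1 fun c hc => (a _).symm.trans (hg c hc)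
    exact b c hc

variable {G : Type*} [Group G] (ρ : G →* Matrix ι ι F) {x : ℕ → G}
  (hx : ∀ i < T.k, ρ (x i) = E.mat σ (T.L i))
include hx

theorem Ok.cen (h : T.Ok) (hn : T.n ≤ 16 ∧ T.k ≤ 8) (ht : cl x T.k = ⊤) {S ws : List ℕ}
    {b V : ℕ} {B : List ℕ} (hf : frOk T b B V = true)
    (h1 : (T.tb.fixes S [0] &&ₙ lall (okW 16) ws &&ₙ
      all (fun q => (q =ₙ 0) ||ₙ lany (fun s => bnot (trW T.U s q =ₙ q)) S) T.N) = true)
    (h2 : (ws.map fun w => trW T.U w 0) = b :: B) :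
    ∀ z ∈ center G, ∃ c : F, ρ z = c • (1 : Matrix ι ι F) := fun z hz =>
  letI := lact ρ
  have hy : ∀ i < T.k, ∀ S : Submodule F (ι → F), x i • S = S.map (mulVecLin (E.mat σ (T.L i))) :=
    fun i hi _ => hx i hi ▸ rfl
  frame E σ hn.1 hf fun c hc => (h.W E σ x hy).cen (h.top E σ hy hn.2 ht) h1 hz c (h2 ▸ hc)

theorem Ok.lin (h : T.Ok) (hn : T.n ≤ 16 ∧ T.k ≤ 8) (ht : cl x T.k = ⊤) {b V : ℕ} {B : List ℕ}
    (hf : (frOk T b B V &&ₙ lall (fun c => Nat.succ c ≤ₙ T.N) (b :: B)) = true)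
    (hs : ∀ g (c : F), ρ g = c • (1 : Matrix ι ι F) → g = 1) :
    ∃ (_ : MulAction G (Submodule F (ι → F))) (W : WT (T.tb.wB (b :: B)) G (Submodule F (ι → F))),
      cl W.gen 16 = ⊤ :=
  letI := lact ρ
  have hy : ∀ i < T.k, ∀ S : Submodule F (ι → F), x i • S = S.map (mulVecLin (E.mat σ (T.L i))) :=
    fun i hi _ => hx i hi ▸ rfl
  ⟨this, h.WF E σ hy hn.1 hf fun g => ⟨ρ g, fun _ => rfl, hs g⟩, h.top E σ hy hn.2 ht⟩

theorem Ok.quo (h : T.Ok) (hn : T.n ≤ 16 ∧ T.k ≤ 8) (ht : cl x T.k = ⊤) {b V : ℕ} {B : List ℕ}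
    (hf : (frOk T b B V &&ₙ lall (fun c => Nat.succ c ≤ₙ T.N) (b :: B)) = true)
    (hi : Function.Injective ρ) (hZ : ∀ z ∈ center G, ∃ c : F, ρ z = c • (1 : Matrix ι ι F)) :
    ∃ (_ : MulAction (G ⧸ center G) (Submodule F (ι → F)))
      (W : WT (T.tb.wB (b :: B)) (G ⧸ center G) (Submodule F (ι → F))), cl W.gen 16 = ⊤ ∧
      W.pt = ln E σ ∧ ∀ (g : G) (S : Submodule F (ι → F)),
        (g : G ⧸ center G) • S = S.map (mulVecLin (ρ g)) := by
  letI := qact ρ (center G) hZ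
  have hy : ∀ i < T.k, ∀ S : Submodule F (ι → F), (x i : G ⧸ center G) • S =
      S.map (mulVecLin (E.mat σ (T.L i))) := fun i hi _ => hx i hi ▸ rfl
  refine ⟨this, h.WF E σ hy hn.1 hf fun g => ?_, h.top E σ hy hn.2 ?_, rfl, fun _ _ => rfl⟩
  · obtain ⟨g, rfl⟩ := QuotientGroup.mk_surjective g
    exact ⟨ρ g, fun _ => rfl, fun c hc => (QuotientGroup.eq_one_iff _).mpr
      (mem_center_iff.mpr fun a => hi (by simp [hc]))⟩
  · have := congrArg (Subgroup.map (QuotientGroup.mk' (center G))) ht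
    rwa [map_top_of_surjective _ (QuotientGroup.mk'_surjective _), cl, MonoidHom.map_closure,
      Set.image_image] at this

end MT

end Mx

end

end CfsgH7
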