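import Cfsg.Agent.H7.Sz9

set_option autoImplicit false
set_option linter.style.haveILetI false

namespace CfsgH7

open MulAction
open scoped Pointwise commutatorElement

variable {G : Type*} [Group G]

theorem card_fixedBy [Finite G] {Δ : Type*} [MulAction G Δ] [Finite Δ] [IsPretransitive G Δ] (α : Δ) (x : G) :
    {g : G | g⁻¹ * x * g ∈ stabilizer G α}.ncard = Nat.card (fixedBy Δ x) * Nat.card (stabilizer G α) := by
  rw [Nat.card_coe_set_eq]
  refine ncard_fib (Set.toFinite _) (Set.toFinite _) (· • α) (fun g hg => ?_) fun r hr => ?_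
  · have : (g⁻¹ * x * g) • α = α := hg
    rw [mul_smul, mul_smul, inv_smul_eq_iff] at this
    exact this
  · obtain ⟨g, rfl⟩ := exists_smul_eq G α r
    rw [← ncard_sub, ← Set.ncard_image_of_injective _ (mul_right_injective g⁻¹)]
    congr 1; ext n
    constructor
    · rintro ⟨a, ⟨-, h4⟩, rfl⟩
      exact mem_stabilizer_iff.2 (by rw [mul_smul, h4, inv_smul_smul])
    · intro hn
      have hn' : n • α = α := hn
      have hr' : x • g • α = g • α := hr
      refine ⟨g * n, ⟨mem_stabilizer_iff.2 ?_, by rw [mul_smul, hn']⟩, by simp⟩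
      rw [mul_smul, mul_smul, mul_smul, hn', hr', mul_inv_rev, mul_smul, inv_smul_smul, inv_smul_eq_iff, hn']

theorem card_conj_into [Finite G] (x : G) (M : Set G) : {g : G | g⁻¹ * x * g ∈ M}.ncard =
    {y | y ∈ M ∧ ∃ g, g⁻¹ * x * g = y}.ncard * Nat.card (Subgroup.centralizer ({x} : Set G)) := by
  refine ncard_fib (Set.toFinite _) (Set.toFinite _) (fun g => g⁻¹ * x * g) (fun g hg => ⟨hg, g, rfl⟩) ?_
  rintro _ ⟨hg, g, rfl⟩
  rw [← ncard_sub, ← Set.ncard_image_of_injective _ (mul_left_injective g⁻¹)]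
  congr 1; ext n
  constructor
  · rintro ⟨a, ⟨-, h4⟩, rfl⟩
    refine Subgroup.mem_centralizer_singleton_iff.2 ?_
    calc a * g⁻¹ * x = a * (g⁻¹ * x * g) * g⁻¹ := by group
      _ = _ := by rw [← h4]; group
  · intro hn
    have e : (n * g)⁻¹ * x * (n * g) = g⁻¹ * x * g := by
      calc _ = g⁻¹ * n⁻¹ * (x * n) * g := by group
        _ = _ := by rw [← Subgroup.mem_centralizer_singleton_iff.1 hn]; group
    exact ⟨n * g, ⟨by rw [Set.mem_setOf_eq, e]; exact hg, e⟩, by simp⟩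

namespace SzS
variable {F : Type*} [Field F] [Finite F] {θ : F →+* F} {Ω : Type*} [MulAction G Ω] (S : SzS θ G Ω)

theorem uh_odd (a b : F) {k : Fˣ} (hk : k ≠ 1) : Odd (orderOf (S.u a b * S.h k)) := by
  obtain ⟨x, y, h⟩ := S.uh_fix a b hk
  obtain ⟨S2, e1, e2⟩ := S.exists_pair (S.pt_ne x y).symm
  exact S2.od_H.odd_order (S2.H_eq.ge ⟨mem_stabilizer_iff.2 (by rw [e1, mul_smul, S.h_inf, S.u_inf]),
    mem_stabilizer_iff.2 (by rw [e2, h])⟩)

theorem B_le_of_card {L : Subgroup G} (h : Nat.card (stabilizer G S.inf) ≤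
    2 * Nat.card ↥(L ⊓ stabilizer G S.inf)) : stabilizer G S.inf ≤ L := by
  haveI := S.finG
  have e := card_inf_mul_relIndex L (stabilizer G S.inf)
  have e0 : L.relIndex (stabilizer G S.inf) ≠ 0 := Subgroup.index_ne_zero_of_finite
  have e1 : L.relIndex (stabilizer G S.inf) ≤ 2 := by
    rw [← e, mul_comm 2] at h; exact Nat.le_of_mul_le_mul_left h Nat.card_pos
  by_cases e2 : L.relIndex (stabilizer G S.inf) = 1
  · exact Subgroup.relIndex_eq_one.1 e2
  have odd : ∀ x ∈ stabilizer G S.inf, Odd (orderOf x) → x ∈ L := fun x hx o =>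
    Subgroup.zpowers_le.2 (show x ^ 2 ∈ L from
      Subgroup.sq_mem_of_index_two (H := L.subgroupOf (stabilizer G S.inf)) (by
        change L.relIndex _ = 2; omega) ⟨x, hx⟩)
      (mem_zpowers_pow_iff.2 (Nat.coprime_two_left.2 o))
  have hh : ∀ k, S.h k ∈ L := fun k => odd _ (S.h_inf k) (S.od_H.odd_order (S.h_mem k))
  obtain ⟨k, hk⟩ := S.exists_h
  intro g hg
  obtain ⟨a, b, l, rfl⟩ := S.fix_inf hg
  refine L.mul_mem ?_ (hh l)
  have := odd (S.u a b * S.h k) (mem_stabilizer_iff.2 (by rw [mul_smul, S.h_inf, S.u_inf]))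
    (S.uh_odd a b (by rintro rfl; exact hk S.h_one))
  simpa using L.mul_mem this (L.inv_mem (hh k))

theorem big_of_inv {M : Subgroup G} {z : G} (hz : z ∈ S.Z) (hz1 : z ≠ 1) (hzM : z ∈ M)
    (h : {g : G | g⁻¹ * z * g ∈ M}.ncard ≤ 2 * Nat.card M) : stabilizer G S.inf ≤ M := by
  haveI := S.finG
  have h4 := S.four_le
  have e1 := card_conj_into z (M : Set G)
  rw [S.cent_Z hz hz1, S.card_Q] at e1
  have e2 := card_class M z
  rw [S.cent_Z hz hz1] at e2
  change {g : G | g⁻¹ * z * g ∈ (M : Set G)}.ncard ≤ _ at h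
  have e3 : {y | ∃ g ∈ M, g * z * g⁻¹ = y}.ncard ≤ {y | y ∈ (M : Set G) ∧ ∃ g, g⁻¹ * z * g = y}.ncard :=
    Set.ncard_le_ncard (by
      rintro _ ⟨g, hg, rfl⟩
      exact ⟨M.mul_mem (M.mul_mem hg hzM) (M.inv_mem hg), g⁻¹, by simp⟩) (Set.toFinite _)
  have c0 : 0 < {y | ∃ g ∈ M, g * z * g⁻¹ = y}.ncard :=
    (Set.ncard_pos (Set.toFinite _)).2 ⟨_, 1, M.one_mem, rfl⟩
  have e4 : Nat.card F ^ 2 ≤ 2 * Nat.card ↥(S.Q ⊓ M) := by
    rw [e1, ← e2] at h
    have := (Nat.mul_le_mul_right _ e3).trans h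
    rw [mul_left_comm] at this
    exact Nat.le_of_mul_le_mul_left this c0
  have e5 := S.card_QM M
  have e6 : Nat.card ↥(S.Z ⊓ M) = Nat.card F := by
    obtain ⟨j, hj⟩ := Subgroup.card_dvd_of_le (inf_le_left : S.Z ⊓ M ≤ S.Z)
    rw [S.card_Z] at hj
    by_contra hn
    have j2 : 2 ≤ j := by
      by_contra h
      have : j = 0 ∨ j = 1 := by omega
      rcases this with rfl | rfl <;> omega
    generalize Nat.card ↥(S.Z ⊓ M) = t at *
    have : t * 2 ≤ t * j := Nat.mul_le_mul_left _ j2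
    nlinarith
  have hZ : S.Z ≤ M := inf_eq_left.1 (Subgroup.eq_of_le_of_card_ge inf_le_left (by rw [e6, S.card_Z]))
  apply S.B_le_of_card
  rw [S.card_B]
  by_cases hM : M ≤ stabilizer G S.inf
  · rw [inf_eq_left.2 hM]
    refine le_trans ?_ h
    rw [e1, mul_comm, ← S.card_Z, ← ncard_sharp]
    refine Nat.mul_le_mul_right _ (Set.ncard_le_ncard ?_ (Set.toFinite _))
    rintro y ⟨hy, y1⟩
    obtain ⟨g, hg⟩ := S.inv_conj (S.mem_Z_iff.1 hz).2 hz1 (S.mem_Z_iff.1 hy).2 y1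
    exact ⟨hZ hy, g⁻¹, by simpa using hg⟩
  · rw [inf_comm, S.card_BM hz hz1 hzM hM, e6, ← mul_assoc]
    exact Nat.mul_le_mul_right _ e4

include S in
theorem fixity {Δ : Type*} [Finite Δ] [MulAction G Δ] [FaithfulSMul G Δ] [IsPretransitive G Δ]
    (hfix : ∀ g : G, g ≠ 1 → Nat.card (fixedBy Δ g) ≤ 2) {r : ℕ} (hr : r ^ 2 = 2 * Nat.card F)
    (hex : ∃ g : G, g ≠ 1 ∧ Nat.card (fixedBy Δ g) = 2) :
    (Nat.card Δ = Nat.card F ^ 2 + 1 ∧ IsMultiplyPretransitive G Δ 2) ∨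
    (Nat.card Δ = Nat.card F ^ 2 * (Nat.card F ^ 2 + 1) ∧
      ∀ α : Δ, Nat.card (stabilizer G α) = Nat.card F - 1) := by
  haveI := S.finG
  have h4 := S.four_le
  obtain ⟨g0, g1, g2⟩ := hex
  obtain ⟨⟨α, hα⟩⟩ : Nonempty (fixedBy Δ g0) := (Nat.card_pos_iff.1 (by omega)).1
  have hc : ∀ x, x ≠ 1 → {g : G | g⁻¹ * x * g ∈ stabilizer G α}.ncard ≤ 2 * Nat.card (stabilizer G α) :=
    fun x hx => by rw [card_fixedBy]; exact Nat.mul_le_mul_right _ (hfix x hx)
  have ci : ∀ β : Δ, Nat.card (stabilizer G β) * Nat.card Δ = Nat.card G := fun β => by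
    rw [← index_stabilizer_of_transitive G β, Subgroup.card_mul_index]
  by_cases h : ∀ z ∈ stabilizer G α, z ^ 2 = 1 → z = 1
  · right
    obtain ⟨U, o, le⟩ := S.case_odd (M := stabilizer G α)
      (fun e => g1 (Subgroup.mem_bot.1 (e ▸ (show g0 ∈ stabilizer G α from hα)))) h
    have e1 : Nat.card (Subgroup.normalizer (U : Set G)) ≤ 2 * Nat.card (stabilizer G α) := by
      refine le_trans ?_ (hc g0 g1)
      rw [← ncard_sub]
      exact Set.ncard_le_ncard (fun g hg => by simpa using o.sub_norm le (inv_mem hg) hα) (Set.toFinite _)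
    have e2 := Subgroup.card_le_of_le le
    have e3 : Nat.card (stabilizer G α) = Nat.card F - 1 := by
      have := Nat.card_pos (α := U)
      rcases S.od_cases hr o with ⟨S', rfl⟩ | t | t
      · rw [S'.card_norm_H] at e1; rw [S'.card_H] at e2; omega
      · rw [t.norm, ← t.card] at e1; omega
      · rw [t.norm, ← t.card] at e1; omega
    have e4 : Nat.card Δ = Nat.card F ^ 2 * (Nat.card F ^ 2 + 1) := by
      apply Nat.eq_of_mul_eq_mul_left (show 0 < Nat.card F - 1 by omega)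
      rw [← e3, ci, S.card_G, e3]; ring
    refine ⟨e4, fun β => ?_⟩
    exact Nat.eq_of_mul_eq_mul_right (by rw [e4]; positivity) ((ci β).trans (e3 ▸ (ci α).symm))
  · left
    push Not at h
    obtain ⟨z, hz, z2, z1⟩ := h
    obtain ⟨S', hz'⟩ := S.inv_elt z2
    have e : stabilizer G α = stabilizer G S'.inf := by
      refine (S'.B_coatom.le_iff.1 (S'.big_of_inv hz' z1 hz (hc z z1))).resolve_left fun e => ?_
      apply g1
      apply FaithfulSMul.eq_of_smul_eq_smul (α := Δ)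
      intro β
      obtain ⟨a, ha⟩ := exists_smul_eq G α β
      obtain ⟨b, hb⟩ := exists_smul_eq G α (g0 • β)
      rw [one_smul, ← hb, ← ha, (e ▸ Subgroup.mem_top a : a ∈ stabilizer G α),
        (e ▸ Subgroup.mem_top b : b ∈ stabilizer G α)]
    have iff : ∀ a b : G, a • α = b • α ↔ a • S'.inf = b • S'.inf := fun a b => by
      rw [← eq_inv_smul_iff, ← eq_inv_smul_iff (g := a), ← mul_smul, ← mul_smul, eq_comm,
        eq_comm (a := S'.inf), ← mem_stabilizer_iff, e, mem_stabilizer_iff]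
    refine ⟨by rw [← index_stabilizer_of_transitive G α, e, S'.index_stab], ?_⟩
    rw [is_two_pretransitive_iff]
    intro a b c d
    obtain ⟨a, rfl⟩ := exists_smul_eq G α a
    obtain ⟨b, rfl⟩ := exists_smul_eq G α b
    obtain ⟨c, rfl⟩ := exists_smul_eq G α c
    obtain ⟨d, rfl⟩ := exists_smul_eq G α d
    simp only [Ne, ← mul_smul, iff]
    simp only [mul_smul]
    exact is_two_pretransitive_iff.1 S.two_trans

theorem norm_B {U : Subgroup G} (o : Od U) {x : G} (hx : x ∈ S.Q) (x1 : x ≠ 1)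
    (hN : x ∈ Subgroup.normalizer (U : Set G)) {y : G} (hy : y ∈ Subgroup.normalizer (U : Set G))
    (hB : y • S.inf = S.inf) : y ∈ S.Q := by
  refine S.mem_Q_iff.2 ⟨hB, ?_⟩
  have h4 := S.pow4_mem o hy
  have hB4 : y ^ 4 • S.inf = S.inf := (stabilizer G S.inf).pow_mem hB 4
  generalize y ^ 4 = c at *
  have a1 : c * x * c⁻¹ * x⁻¹ ∈ S.Q := mul_mem (S.conj_Q hB4 hx) (inv_mem hx)
  have a2 : c * x * c⁻¹ * x⁻¹ ∈ U := by
    simpa [mul_assoc] using U.mul_mem h4 (norm_conj x hN _ (U.inv_mem h4))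
  have a3 := S.Q_odd a1 (o.odd_order a2)
  rw [mul_inv_eq_one, mul_inv_eq_iff_eq_mul] at a3
  exact S.Q_odd (S.cent_le_Q hx x1 a3) (o.odd_order h4)

theorem norm_data {U : Subgroup G} (o : Od U) {z : G} (hz : z ∈ S.Z) (z1 : z ≠ 1)
    (hN : z ∈ Subgroup.normalizer (U : Set G)) :
    Nat.card U * Nat.card ↥(stabilizer G S.inf ⊓ Subgroup.normalizer (U : Set G)) =
      Nat.card (Subgroup.normalizer (U : Set G)) ∧
    {y | y ∈ Subgroup.normalizer (U : Set G) ∧ orderOf y = 2}.ncard = Nat.card U := by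
  haveI := S.finG
  haveI : Fact (Nat.Prime 2) := ⟨Nat.prime_two⟩
  set M := Subgroup.normalizer (U : Set G)
  have hM : ¬ M ≤ stabilizer G S.inf := fun h => by
    obtain ⟨y, hy, y1⟩ := o.exists_ne
    exact y1 (S.Q_odd (S.norm_B o (S.Z_le hz) z1 hN (Subgroup.le_normalizer hy)
      (h (Subgroup.le_normalizer hy))) (o.odd_order hy))
  have eB : stabilizer G S.inf ⊓ M = S.Q ⊓ M :=
    le_antisymm (fun y hy => ⟨S.norm_B o (S.Z_le hz) z1 hN hy.2 hy.1, hy.2⟩) (inf_le_inf_right M S.Q_le)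
  have e2 := S.count_M hz z1 hN hM
  have e3 := card_cl (M := M) (S.ti_B le_rfl) (fun g hg x hx => S.conj_Q hg hx)
  have e4 : OE M = {x | x ∈ U ∧ x ≠ 1} := by
    ext y
    exact ⟨fun h => ⟨S.mem_of_odd o h.1 h.2.2, h.2.1⟩,
      fun h => ⟨Subgroup.le_normalizer h.1, h.2, o.odd_order h.1⟩⟩
  rw [e4, ncard_sharp] at e2
  rw [eB] at e3 ⊢
  have p1 := Nat.card_pos (α := U)
  have p2 := Nat.card_pos (α := ↥(S.Q ⊓ M))
  have e5 : Nat.card U * Nat.card ↥(S.Q ⊓ M) = Nat.card M := by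
    obtain ⟨t, ht⟩ : ∃ t, Nat.card ↥(S.Q ⊓ M) = t + 1 := ⟨_, (Nat.succ_pred_eq_of_pos p2).symm⟩
    obtain ⟨k, hk⟩ : ∃ t, Nat.card U = t + 1 := ⟨_, (Nat.succ_pred_eq_of_pos p1).symm⟩
    rw [ht, Nat.add_sub_cancel, ← e2] at e3
    rw [← e2, ht]
    rw [hk, Nat.add_sub_cancel] at e3 ⊢
    linarith
  refine ⟨e5, ?_⟩
  have e6 := card_class M z
  rw [S.cent_Z hz z1, ← e5] at e6
  rw [← Nat.eq_of_mul_eq_mul_right p2 e6]
  congr 1; ext y
  constructor
  · rintro ⟨h1, h2⟩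
    exact S.inv_conj_M hz z1 hN hM (by rw [← h2, pow_orderOf_eq_one]) h1 (by rintro rfl; simp at h2)
  · rintro ⟨g, hg, rfl⟩
    exact ⟨M.mul_mem (M.mul_mem hg hN) (M.inv_mem hg), orderOf_eq_prime
      (by rw [conj_pow, (S.mem_Z_iff.1 hz).2]; simp) (conj_ne_one.2 z1)⟩

include S in
theorem norm_orders {U : Subgroup G} (o : Od U) {n : ℕ} (hn : 2 ∣ n)
    (h : Nat.card (Subgroup.normalizer (U : Set G)) = n * Nat.card U) :
    {y | y ∈ Subgroup.normalizer (U : Set G) ∧ orderOf y = 2}.ncard = Nat.card U ∧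
    {y | y ∈ Subgroup.normalizer (U : Set G) ∧ orderOf y = 4}.ncard + 2 * Nat.card U = n * Nat.card U := by
  haveI := S.finG
  haveI : Fact (Nat.Prime 2) := ⟨Nat.prime_two⟩
  obtain ⟨z, hz⟩ := exists_prime_orderOf_dvd_card' (G := Subgroup.normalizer (U : Set G)) 2
    (h ▸ hn.mul_right _)
  rw [← Subgroup.orderOf_coe] at hz
  obtain ⟨S', hz'⟩ := S.inv_elt (g := z) (by rw [← hz, pow_orderOf_eq_one])
  have e := (S'.norm_data o hz' (fun e => by rw [e] at hz; simp at hz) z.2).2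
  refine ⟨e, ?_⟩
  rw [← h, two_mul, ← add_assoc]
  nth_rewrite 1 [← e]
  rw [← ncard_sub U, ← ncard_sub, ← Set.ncard_union_eq ?_ (Set.toFinite _) (Set.toFinite _),
    ← Set.ncard_union_eq ?_ (Set.toFinite _) (Set.toFinite _)]
  · congr 1; ext y
    constructor
    · rintro ((h | h) | h)
      · exact h.1
      · exact h.1
      · exact Subgroup.le_normalizer h
    · intro hy
      rcases Nat.even_or_odd (orderOf y) with he | he
      · obtain ⟨S2, h2⟩ := S.even_elt he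
        have := (Nat.dvd_prime_pow Nat.prime_two (m := 2)).1 (orderOf_dvd_of_pow_eq_one (S2.mem_Q_iff.1 h2).2)
        obtain ⟨i, hi, e⟩ := this
        interval_cases i
        · rw [e] at he; simp at he
        · exact Or.inl (Or.inr ⟨hy, e⟩)
        · exact Or.inl (Or.inl ⟨hy, e⟩)
      · exact Or.inr (S.mem_of_odd o hy he)
  · refine Set.disjoint_left.2 ?_
    rintro y (h | h) hU <;> have := o.odd_order hU <;> rw [h.2] at this <;> exact absurd this (by decide)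
  · exact Set.disjoint_left.2 fun y h h' => by have := h.2.symm.trans h'.2; omega

end SzS
end CfsgH7
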