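import Cfsg.Agent.H7.Sz10

set_option autoImplicit false
set_option linter.style.haveILetI false

namespace CfsgH7

open MulAction
open scoped Pointwise commutatorElement

variable {G : Type*} [Group G]

/-- normaliser of the centraliser -/
abbrev NC (y : G) : Subgroup G := Subgroup.normalizer (Subgroup.centralizer {y} : Set G)

theorem cent_conj (g y : G) : Subgroup.centralizer {g * y * g⁻¹} =
    (Subgroup.centralizer {y}).map (MulAut.conj g).toMonoidHom := by
  ext z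
  obtain ⟨z, rfl⟩ := (MulAut.conj g).surjective z
  exact mem_cent_conj.trans
    (Subgroup.mem_map_iff_mem (f := (MulAut.conj g).toMonoidHom) (MulAut.conj g).injective).symm

theorem NC_conj (g x y : G) : g * x * g⁻¹ ∈ NC (g * y * g⁻¹) ↔ x ∈ NC y := by
  unfold NC
  rw [cent_conj, ← Subgroup.map_equiv_normalizer_eq]
  exact Subgroup.mem_map_iff_mem (f := (MulAut.conj g).toMonoidHom) (MulAut.conj g).injective

theorem cl_top_conj {U : Subgroup G} (g : G) {y : G} (h : y ∈ cl ⊤ U) : g * y * g⁻¹ ∈ cl ⊤ U := by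
  obtain ⟨-, h1, k, -, hk⟩ := h
  exact ⟨trivial, conj_ne_one.2 h1, k * g⁻¹, trivial, by simpa [mul_assoc] using hk⟩

theorem Od.cl_data {U : Subgroup G} (o : Od U) {y : G} (h : y ∈ cl ⊤ U) :
    Od (Subgroup.centralizer {y}) ∧ Nat.card (Subgroup.centralizer ({y} : Set G)) = Nat.card U ∧
      Nat.card (NC y) = Nat.card (Subgroup.normalizer (U : Set G)) := by
  obtain ⟨-, h1, g, -, hg⟩ := h
  have e : Subgroup.centralizer {y} = U.map (MulAut.conj g⁻¹).toMonoidHom := by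
    rw [← o.cent _ hg (conj_ne_one.2 h1), ← cent_conj]; simp [mul_assoc]
  unfold NC
  rw [e]
  exact ⟨o.map _, Subgroup.card_map_of_injective (MulAut.conj g⁻¹).injective, by
    rw [← Subgroup.map_equiv_normalizer_eq, Subgroup.card_map_of_injective (MulAut.conj g⁻¹).injective]⟩

/-- odd elements of a given type whose cyclic group is normalised by `x` -/
def AA (U : Subgroup G) (x : G) : Set G := {y | y ∈ cl ⊤ U ∧ x ∈ NC y}

theorem AA_conj (U : Subgroup G) (g x : G) : (AA U (g * x * g⁻¹)).ncard = (AA U x).ncard := by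
  rw [← Set.ncard_image_of_injective (AA U x) (MulAut.conj g).injective]
  congr 1; ext y
  constructor
  · rintro ⟨h1, h2⟩
    refine ⟨g⁻¹ * y * g⁻¹⁻¹, ⟨cl_top_conj _ h1, (NC_conj g _ _).1 ?_⟩, by simp [mul_assoc]⟩
    simpa [mul_assoc] using h2
  · rintro ⟨y, ⟨h1, h2⟩, rfl⟩
    exact ⟨cl_top_conj _ h1, (NC_conj g _ _).2 h2⟩

theorem AA_inv (U : Subgroup G) (x : G) : AA U x⁻¹ = AA U x := by
  ext y; simp [AA]

namespace SzS
variable {F : Type*} [Field F] [Finite F] {θ : F →+* F} {Ω : Type*} [MulAction G Ω] (S : SzS θ G Ω)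

theorem four_std (b : F) : ∃ g, g * S.u 1 0 * g⁻¹ = S.u 1 b ∨ g * S.u 1 0 * g⁻¹ = (S.u 1 b)⁻¹ := by
  let f : F →+ F := θ.toAddMonoidHom + AddMonoidHom.id F
  have hf : ∀ c, f c = θ c + c := fun _ => rfl
  have k2 : Nat.card f.ker = 2 := by
    have : (f.ker : Set F) = {0, 1} := by
      ext c
      simp only [SetLike.mem_coe, AddMonoidHom.mem_ker, hf, Set.mem_insert_iff, Set.mem_singleton_iff]
      refine ⟨fun h => S.θ_comm one_ne_zero (by simp [S.T.eq_of_add h]), ?_⟩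
      rintro (rfl | rfl) <;> simp [S.T.add_self]
    rw [← SetLike.coe_sort_coe, Nat.card_coe_set_eq, this, Set.ncard_pair zero_ne_one]
  have i2 : f.range.index = 2 := by rw [AddSubgroup.index_range, k2]
  have cj : ∀ c, S.u c 0 * S.u 1 0 * (S.u c 0)⁻¹ = S.u 1 (f c) := fun c => by
    obtain ⟨e, h1, h2⟩ := S.uh_conj 1 0 c 0 1
    simpa [S.h_one, h2, hf] using h1
  have n1 : (1 : F) ∉ f.range := by
    rintro ⟨c, hc⟩
    have := S.real_two (S.u_mem 1 0) (fun e => one_ne_zero (S.u_eq_one.1 e).1)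
      (g := S.u c 0) (by rw [cj, hc, S.u_inv]; simp)
    rw [S.u_sq, S.u_eq_one] at this
    simpa using this.2
  by_cases hb : b ∈ f.range
  · obtain ⟨c, rfl⟩ := hb
    exact ⟨_, Or.inl (cj c)⟩
  · obtain ⟨c, hc⟩ := (AddSubgroup.add_mem_iff_of_index_two i2).2 (iff_of_false hb n1)
    exact ⟨_, Or.inr (by rw [cj, hc, S.u_inv]; simp)⟩

theorem four_conj0 {x : G} (hx : orderOf x = 4) :
    ∃ g, g * S.u 1 0 * g⁻¹ = x ∨ g * S.u 1 0 * g⁻¹ = x⁻¹ := by
  obtain ⟨S', h⟩ := S.two_elt (g := x) (n := 2) (by rw [show 2 ^ 2 = 4 from rfl, ← hx, pow_orderOf_eq_one])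
  obtain ⟨g, e⟩ := S.Q_conj S'
  obtain ⟨_, ⟨a, b, rfl⟩, rfl⟩ := e ▸ h
  have a0 : a ≠ 0 := by
    rintro rfl
    rw [show (MulAut.conj g).toMonoidHom (S.u 0 b) = MulAut.conj g (S.u 0 b) from rfl,
      MulEquiv.orderOf_eq] at hx
    have := orderOf_dvd_of_pow_eq_one (S.mem_Z_iff.1 (S.z_mem b)).2
    rw [hx] at this; omega
  have t : θ a ≠ 0 := (map_ne_zero θ).2 a0
  obtain ⟨k, hk⟩ := S.four_std (b / (a * θ a))
  have e2 : S.u a b = S.h (Units.mk0 a a0) * S.u 1 (b / (a * θ a)) * (S.h (Units.mk0 a a0))⁻¹ := by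
    rw [S.h_u]; simp only [Units.val_mk0, mul_one]; congr 1; field_simp
  refine ⟨g * S.h (Units.mk0 a a0) * k, hk.imp (fun h => ?_) fun h => ?_⟩
  · change _ = g * S.u a b * g⁻¹
    rw [e2, ← h]; group
  · change _ = (g * S.u a b * g⁻¹)⁻¹
    rw [e2, ← inv_inv (S.u 1 (b / _)), ← h]; group

include S in
theorem AA_four (U : Subgroup G) {x y : G} (hx : orderOf x = 4) (hy : orderOf y = 4) :
    (AA U x).ncard = (AA U y).ncard := by
  have : ∀ {x : G}, orderOf x = 4 → (AA U x).ncard = (AA U (S.u 1 0)).ncard := fun hx => by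
    obtain ⟨g, h | h⟩ := S.four_conj0 hx
    · rw [← h, AA_conj]
    · rw [← AA_inv, ← h, AA_conj]
  rw [this hx, this hy]

include S in
theorem AA_two (U : Subgroup G) {x y : G} (hx : orderOf x = 2) (hy : orderOf y = 2) :
    (AA U x).ncard = (AA U y).ncard := by
  obtain ⟨g, rfl⟩ := S.inv_conj (x := x) (y := y) (by rw [← hx, pow_orderOf_eq_one])
    (by rintro rfl; simp at hx) (by rw [← hy, pow_orderOf_eq_one]) (by rintro rfl; simp at hy)
  rw [AA_conj]

include S in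
theorem card_two : {x : G | orderOf x = 2}.ncard = (Nat.card F ^ 2 + 1) * (Nat.card F - 1) := by
  haveI := S.finG
  haveI : Fact (Nat.Prime 2) := ⟨Nat.prime_two⟩
  have e3 := card_cl (M := ⊤) (S.ti_B S.Z_le) (fun g hg x hx => S.conj_Z hg hx)
  rw [inf_top_eq, inf_top_eq, Subgroup.card_top, ← (stabilizer G S.inf).card_mul_index, S.index_stab,
    S.card_Z, mul_assoc, mul_comm] at e3
  rw [← Nat.eq_of_mul_eq_mul_left Nat.card_pos e3,
    S.inv_eq_cl (M := ⊤) (S.z_mem 1) (S.z_ne one_ne_zero) trivial S.top_not_le]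
  congr 1; ext y
  constructor
  · intro h
    obtain ⟨g, hg⟩ := S.inv_conj (S.mem_Z_iff.1 (S.z_mem 1)).2 (S.z_ne one_ne_zero)
      (y := y) (by rw [← show orderOf y = 2 from h, pow_orderOf_eq_one]) (by rintro rfl; simp at h)
    exact ⟨g, trivial, hg⟩
  · rintro ⟨g, -, rfl⟩
    exact orderOf_eq_prime (by rw [conj_pow, (S.mem_Z_iff.1 (S.z_mem 1)).2]; simp)
      (conj_ne_one.2 (S.z_ne one_ne_zero))

include S in
theorem card_four : {x : G | orderOf x = 4}.ncard + (Nat.card F ^ 2 + 1) * (Nat.card F - 1) =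
    (Nat.card F ^ 2 + 1) * (Nat.card F ^ 2 - 1) := by
  haveI := S.finG
  rw [← S.card_two, ← S.card_clQ, ← Set.ncard_union_eq ?_ (Set.toFinite _) (Set.toFinite _)]
  · congr 1; ext y
    constructor
    · intro h
      obtain ⟨S', hS⟩ := S.even_elt (g := y) (by rcases h with h | h <;> rw [h] <;> decide)
      obtain ⟨g, e⟩ := S.Q_conj S'
      obtain ⟨z, hz, rfl⟩ := e ▸ hS
      exact ⟨trivial, by rintro e; rw [e] at h; simp at h, g⁻¹, trivial, by simpa [mul_assoc] using hz⟩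
    · rintro ⟨-, y1, g, -, h⟩
      have := (S.mem_Q_iff.1 h).2
      rw [conj_pow] at this
      have h4 : y ^ 4 = 1 := by by_contra h; exact conj_ne_one.2 h this
      obtain ⟨i, hi, e⟩ := (Nat.dvd_prime_pow Nat.prime_two (m := 2)).1 (orderOf_dvd_of_pow_eq_one h4)
      interval_cases i
      · exact absurd (orderOf_eq_one_iff.1 e) y1
      · exact Or.inr e
      · exact Or.inl e
  · exact Set.disjoint_left.2 fun y h h' => by have := h.symm.trans h'; omega

theorem norm_uniq {U V : Subgroup G} (o : Od U) (o' : Od V) {x y : G} (hx : x ∈ S.Q) (x1 : x ≠ 1)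
    (h1 : x ∈ Subgroup.normalizer (U : Set G)) (h2 : x ∈ Subgroup.normalizer (V : Set G))
    (h3 : y ∈ Subgroup.normalizer (U : Set G)) (h4 : y ∈ Subgroup.normalizer (V : Set G))
    (hy : y • S.inf ≠ S.inf) : U = V := by
  haveI := S.finG
  by_contra hn
  haveI : Fact (Nat.Prime 2) := ⟨Nat.prime_two⟩
  have : IsPGroup 2 ↥(Subgroup.normalizer (U : Set G) ⊓ Subgroup.normalizer (V : Set G)) := fun g =>
    ⟨2, Subtype.ext (by
      by_contra h
      exact hn (o.eq o' (S.pow4_mem o g.2.1) (S.pow4_mem o' g.2.2) h))⟩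
  haveI := this.isNilpotent
  exact hy (S.Q_le (S.nilp_le_Q (P := Subgroup.normalizer (U : Set G) ⊓ Subgroup.normalizer (V : Set G))
    hx ⟨h1, h2⟩ x1 ⟨h3, h4⟩))

/-- elements outside the Borel subgroup lying with `x` in a torus normaliser of given type -/
def WW (U : Subgroup G) (x : G) : Set G := {w | w • S.inf ≠ S.inf ∧ ∃ y ∈ AA U x, w ∈ NC y}

omit [Finite F] in
theorem exists_z {x : G} (hx : x ∈ S.Q) (x1 : x ≠ 1) : ∃ z ∈ S.Z, z ≠ 1 ∧ z ∈ Subgroup.zpowers x := by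
  by_cases h : x ^ 2 = 1
  · exact ⟨x, S.mem_Z_iff.2 ⟨S.Q_le hx, h⟩, x1, Subgroup.mem_zpowers x⟩
  · obtain ⟨a, b, rfl⟩ := hx
    exact ⟨_, S.u_sq a b ▸ S.z_mem _, h, Subgroup.npow_mem_zpowers _ 2⟩

theorem card_WW {U : Subgroup G} (o : Od U) {n : ℕ}
    (hn : Nat.card (Subgroup.normalizer (U : Set G)) = n * Nat.card U) {x : G} (hx : x ∈ S.Q) (x1 : x ≠ 1) :
    (S.WW U x).ncard = (AA U x).ncard * n := by
  haveI := S.finG
  obtain ⟨z, hz, z1, hzx⟩ := S.exists_z hx x1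
  obtain ⟨k, hk⟩ : ∃ k, Nat.card U = k + 1 := ⟨_, (Nat.succ_pred_eq_of_pos Nat.card_pos).symm⟩
  have k0 : 0 < k := Nat.pos_of_ne_zero (by rintro rfl; exact o.ne (Subgroup.card_eq_one.1 hk))
  apply Nat.eq_of_mul_eq_mul_right k0
  rw [mul_assoc]
  refine dc (Set.toFinite _) (Set.toFinite _) (fun w y => w ∈ NC y) ?_ ?_
  · rintro w ⟨hw, y, ⟨hy, hy'⟩, hwy⟩
    obtain ⟨oy, c1, -⟩ := o.cl_data hy
    rw [show k = Nat.card (Subgroup.centralizer ({y} : Set G)) - 1 by omega, ← ncard_sharp]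
    congr 1; ext v
    constructor
    · rintro ⟨⟨hv, hv'⟩, hwv⟩
      rw [S.norm_uniq oy (o.cl_data hv).1 hx x1 hy' hv' hwy hwv hw]
      exact ⟨self_cent v, hv.2.1⟩
    · rintro ⟨hv, v1⟩
      have e : NC v = NC y := by unfold NC; rw [oy.cent v hv v1]
      obtain ⟨-, y1, g, -, hg⟩ := hy
      refine ⟨⟨⟨trivial, v1, g, trivial, ?_⟩, e ▸ hy'⟩, e ▸ hwy⟩
      rw [← o.cent _ hg (conj_ne_one.2 y1)]; exact mem_cent_conj.2 hv
  · rintro y ⟨hy, hy'⟩
    obtain ⟨oy, c1, c2⟩ := o.cl_data hy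
    have e := (S.norm_data oy hz z1 (Subgroup.zpowers_le.2 hy' hzx)).1
    change _ = Nat.card (NC y) at e
    rw [c2, hn, c1, mul_comm] at e
    have e2 := Nat.eq_of_mul_eq_mul_right Nat.card_pos e
    have : {w | w ∈ S.WW U x ∧ w ∈ NC y} = (NC y : Set G) \ (stabilizer G S.inf ⊓ NC y : Subgroup G) := by
      ext w
      exact ⟨fun h => ⟨h.2, fun h' => h.1.1 h'.1⟩, fun h => ⟨⟨fun e => h.2 ⟨e, h.1⟩, y, ⟨hy, hy'⟩, h.1⟩, h.1⟩⟩
    rw [this, Set.ncard_diff (fun _ h => h.2) (Set.toFinite _), ncard_sub, ncard_sub, c2, hn, e2, hk]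
    simp [mul_add]

theorem count_WW {U : Subgroup G} (o : Od U) {n : ℕ}
    (hn : Nat.card (Subgroup.normalizer (U : Set G)) = n * Nat.card U) {x : G} (hx : x ∈ S.Q) (x1 : x ≠ 1)
    {X : Set G} (hX : ∀ x' ∈ X, (AA U x').ncard = (AA U x).ncard) {m : ℕ}
    (hm : ∀ y ∈ cl ⊤ U, {x' | x' ∈ X ∧ x' ∈ NC y}.ncard = m) :
    (S.WW U x).ncard * X.ncard * Nat.card U = Nat.card G * (Nat.card U - 1) * m := by
  haveI := S.finG
  have e1 := dc (Set.toFinite X) (Set.toFinite (cl ⊤ U)) (fun x' y => x' ∈ NC y) hX hm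
  have e2 := o.card_cl ⊤
  rw [inf_top_eq, inf_top_eq, Subgroup.card_top, hn] at e2
  rw [S.card_WW o hn hx x1, ← e2]
  linear_combination (n * Nat.card U) * e1

theorem WW_two {U : Subgroup G} (o : Od U) {n : ℕ} (h2 : 2 ∣ n)
    (hn : Nat.card (Subgroup.normalizer (U : Set G)) = n * Nat.card U) {x : G} (hx : x ∈ S.Q)
    (ho : orderOf x = 2) : (S.WW U x).ncard = Nat.card F ^ 2 * (Nat.card U - 1) := by
  haveI := S.finG
  have := S.count_WW o hn hx (by rintro rfl; simp at ho) (X := {x | orderOf x = 2})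
    (fun x' h => S.AA_two U h ho) (m := Nat.card U) fun y hy => by
      obtain ⟨oy, c1, c2⟩ := o.cl_data hy
      rw [← c1, ← (S.norm_orders oy h2 (by rw [c1, ← hn]; exact c2)).1]
      congr 1; ext; exact and_comm
  have h4 := S.four_le
  rw [S.card_two, S.card_G] at this
  have p : 0 < (Nat.card F ^ 2 + 1) * (Nat.card F - 1) := Nat.mul_pos (by positivity) (by omega)
  apply Nat.eq_of_mul_eq_mul_right p
  rw [Nat.eq_of_mul_eq_mul_right Nat.card_pos this]; ring

theorem WW_four {U : Subgroup G} (o : Od U) {n : ℕ} (h2 : 2 ∣ n + 2)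
    (hn : Nat.card (Subgroup.normalizer (U : Set G)) = (n + 2) * Nat.card U) {x : G} (hx : x ∈ S.Q)
    (ho : orderOf x = 4) : (S.WW U x).ncard = n * Nat.card F * (Nat.card U - 1) := by
  haveI := S.finG
  have := S.count_WW o hn hx (by rintro rfl; simp at ho) (X := {x | orderOf x = 4})
    (fun x' h => S.AA_four U h ho) (m := n * Nat.card U) fun y hy => by
      obtain ⟨oy, c1, c2⟩ := o.cl_data hy
      have := (S.norm_orders oy h2 (by rw [c1, ← hn]; exact c2)).2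
      rw [c1, add_mul, Nat.add_right_cancel_iff] at this
      rw [← this]
      congr 1; ext; exact and_comm
  have h4 := S.four_le
  have e := S.card_four
  obtain ⟨a, ha⟩ : ∃ a, Nat.card F = a + 1 := ⟨Nat.card F - 1, by omega⟩
  have e2 : {x : G | orderOf x = 4}.ncard = ((a + 1) ^ 2 + 1) * (a * (a + 1)) := by
    rw [ha, show (a + 1) ^ 2 - 1 = a * (a + 1) + a by rw [Nat.sub_eq_iff_eq_add (Nat.one_le_pow _ _ (by omega))]; ring,
      Nat.add_sub_cancel, mul_add] at e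
    exact Nat.add_right_cancel e
  rw [e2, S.card_G, ha, Nat.add_sub_cancel, ← mul_assoc _ n] at this
  have p : 0 < ((a + 1) ^ 2 + 1) * (a * (a + 1)) := Nat.mul_pos (by positivity) (Nat.mul_pos (by omega) (by omega))
  apply Nat.eq_of_mul_eq_mul_right p
  rw [Nat.eq_of_mul_eq_mul_right (Nat.card_pos (α := U)) this, ha]; ring

/-- elements lying with `x` in a point stabiliser or a torus normaliser -/
def Sol (Ω : Type*) [MulAction G Ω] (x : G) : Set G := {y | (∃ p : Ω, x • p = p ∧ y • p = p) ∨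
  ∃ U : Subgroup G, Od U ∧ x ∈ Subgroup.normalizer (U : Set G) ∧ y ∈ Subgroup.normalizer (U : Set G)}

include S in
theorem sol_iff (hK : ∀ K : Subfield F, TwK θ K → Nat.card F ≤ Nat.card K) (x y : G) :
    Group.IsSolvable (Subgroup.closure ({x, y} : Set G)) ↔ y ∈ Sol Ω x := by
  haveI := S.finG
  have mx : x ∈ Subgroup.closure ({x, y} : Set G) := Subgroup.subset_closure (by simp)
  have my : y ∈ Subgroup.closure ({x, y} : Set G) := Subgroup.subset_closure (by simp)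
  constructor
  · intro h
    rcases S.classify (Subgroup.closure {x, y}) with ⟨p, h⟩ | ⟨U, o, -, h⟩ | ⟨g, K, T, e⟩
    · exact Or.inl ⟨p, h mx, h my⟩
    · exact Or.inr ⟨U, o, h mx, h my⟩
    · rw [e, (S.conj g).GK_top T (hK K T)] at h
      exact absurd (solvable_of_surjective (f := (Subgroup.topEquiv (G := G)).toMonoidHom)
        Subgroup.topEquiv.surjective) S.not_solv
  · rintro (⟨p, h1, h2⟩ | ⟨U, o, h1, h2⟩)
    · haveI := S.solv_stab p
      exact solv_le (U := stabilizer G p) ((Subgroup.closure_le _).2 (by rintro _ (rfl | rfl) <;> assumption))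
    · haveI := o.solv_norm
      exact solv_le ((Subgroup.closure_le _).2 (by rintro _ (rfl | rfl) <;> assumption))

theorem card_Sol_two {U V : Subgroup G} (oU : Od U) (oV : Od V)
    (cov : ∀ z, Fpf Ω z → z ∈ cl ⊤ U ∨ z ∈ cl ⊤ V) (n1 : Nat.card S.H ≠ Nat.card U)
    (n2 : Nat.card S.H ≠ Nat.card V) (n3 : Nat.card U ≠ Nat.card V) {x : G} (hx : x ∈ S.Q) (x1 : x ≠ 1) :
    (Sol Ω x).ncard = Nat.card (stabilizer G S.inf) + (S.WW S.H x).ncard + (S.WW U x).ncard +
      (S.WW V x).ncard := by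
  haveI := S.finG
  have dj : ∀ {A B : Subgroup G}, Od A → Od B → Nat.card A ≠ Nat.card B → Disjoint (S.WW A x) (S.WW B x) :=
    fun {A B} oA oB hn => Set.disjoint_left.2 (by
      rintro w ⟨hw, y, ⟨h1, h2⟩, h3⟩ ⟨-, y', ⟨h1', h2'⟩, h3'⟩
      have := S.norm_uniq (oA.cl_data h1).1 (oB.cl_data h1').1 hx x1 h2 h2' h3 h3' hw
      exact hn (by rw [← (oA.cl_data h1).2.1, this, (oB.cl_data h1').2.1]))
  have dB : ∀ A, Disjoint (stabilizer G S.inf : Set G) (S.WW A x) := fun A =>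
    Set.disjoint_left.2 fun w h h' => h'.1 h
  rw [← ncard_sub, ← Set.ncard_union_eq (dB _) (Set.toFinite _) (Set.toFinite _),
    ← Set.ncard_union_eq (Set.disjoint_union_left.2 ⟨dB _, dj S.od_H oU n1⟩) (Set.toFinite _) (Set.toFinite _),
    ← Set.ncard_union_eq (Set.disjoint_union_left.2 ⟨Set.disjoint_union_left.2 ⟨dB _, dj S.od_H oV n2⟩,
      dj oU oV n3⟩) (Set.toFinite _) (Set.toFinite _)]
  congr 1; ext w
  have bk : ∀ {A : Subgroup G}, Od A → w ∈ S.WW A x → w ∈ Sol Ω x := fun oA ⟨_, y, ⟨h1, h2⟩, h3⟩ =>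
    Or.inr ⟨_, (oA.cl_data h1).1, h2, h3⟩
  constructor
  · rintro (⟨p, h1, h2⟩ | ⟨A, o, h1, h2⟩)
    · rw [S.Q_fix hx x1 h1] at h2
      exact Or.inl (Or.inl (Or.inl h2))
    · by_cases hw : w • S.inf = S.inf
      · exact Or.inl (Or.inl (Or.inl hw))
      obtain ⟨y, hy, y1⟩ := o.exists_ne
      rw [← o.cent y hy y1] at h1 h2
      rcases S.tri y with ⟨S', h⟩ | ⟨S', h⟩ | h
      · exact absurd (S'.Q_odd h (o.odd_order hy)) y1
      · obtain ⟨g, e⟩ := S.H_conj S'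
        obtain ⟨z, hz, rfl⟩ := e ▸ h
        exact Or.inl (Or.inl (Or.inr ⟨hw, _, ⟨⟨trivial, y1, g⁻¹, trivial,
          by simpa [mul_assoc] using hz⟩, h1⟩, h2⟩))
      · rcases cov y h with c | c
        · exact Or.inl (Or.inr ⟨hw, y, ⟨c, h1⟩, h2⟩)
        · exact Or.inr ⟨hw, y, ⟨c, h1⟩, h2⟩
  · rintro (((h | h) | h) | h)
    · exact Or.inl ⟨S.inf, S.Q_le hx, h⟩
    · exact bk S.od_H h
    · exact bk oU h
    · exact bk oV h

include S in
theorem card_Sol_fpf {x : G} (hx : Fpf Ω x) : (Sol Ω x).ncard = Nat.card (NC x) := by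
  rw [← ncard_sub]
  congr 1; ext y
  constructor
  · rintro (⟨p, h1, -⟩ | ⟨U, o, h1, h2⟩)
    · exact absurd h1 (hx p)
    · rwa [← o.cent x (S.mem_of_odd o h1 (S.fpf_odd hx)) (S.fpf_ne hx)] at h2
  · exact fun h => Or.inr ⟨_, S.od_fpf hx, Subgroup.le_normalizer (self_cent x), h⟩

theorem card_Sol_H {x : G} (hx : x ∈ S.H) (x1 : x ≠ 1) :
    (Sol Ω x).ncard = 2 * Nat.card F ^ 2 * (Nat.card F - 1) := by
  haveI := S.finG
  have e : Sol Ω x = ((stabilizer G S.inf : Set G) ∪ stabilizer G (S.pt 0 0)) ∪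
      (Subgroup.normalizer (S.H : Set G) \ S.H) := by
    ext y
    constructor
    · rintro (⟨p, h1, h2⟩ | ⟨U, o, h1, h2⟩)
      · rcases S.H_fix hx x1 h1 with rfl | rfl
        · exact Or.inl (Or.inl h2)
        · exact Or.inl (Or.inr h2)
      · obtain rfl := o.eq S.od_H (S.mem_of_odd o h1 (S.od_H.odd_order hx)) hx x1
        by_cases h : y ∈ S.H
        · exact Or.inl (Or.inl (S.H_eq.le h).1)
        · exact Or.inr ⟨h2, h⟩
    · rintro ((h | h) | h)
      · exact Or.inl ⟨_, (S.H_eq.le hx).1, h⟩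
      · exact Or.inl ⟨_, (S.H_eq.le hx).2, h⟩
      · exact Or.inr ⟨_, S.od_H, Subgroup.le_normalizer hx, h.1⟩
  have d : Disjoint ((stabilizer G S.inf : Set G) ∪ stabilizer G (S.pt 0 0))
      (Subgroup.normalizer (S.H : Set G) \ S.H) := Set.disjoint_left.2 (by
    rintro y h ⟨h1, h2⟩
    rcases S.mem_norm_H.1 h1 with ⟨k, rfl⟩ | ⟨k, rfl⟩
    · exact h2 (S.h_mem k)
    · rcases h with h | h
      · have : (S.w * S.h k) • S.inf = S.inf := h
        rw [mul_smul, S.h_inf, S.w_inf] at this; exact S.pt_ne _ _ this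
      · have : (S.w * S.h k) • S.pt 0 0 = S.pt 0 0 := h
        rw [mul_smul, S.h_zero, S.w_zero] at this; exact S.pt_ne _ _ this.symm)
  have u := Set.ncard_union_add_ncard_inter (stabilizer G S.inf : Set G) (stabilizer G (S.pt 0 0))
    (Set.toFinite _) (Set.toFinite _)
  rw [← Subgroup.coe_inf, ← S.H_eq, ncard_sub, ncard_sub, ncard_sub, S.card_stab, S.card_stab, S.card_H] at u
  rw [e, Set.ncard_union_eq d (Set.toFinite _) (Set.toFinite _),
    Set.ncard_diff Subgroup.le_normalizer (Set.toFinite _), ncard_sub, ncard_sub, S.card_norm_H, S.card_H,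
    mul_assoc]
  omega

end SzS
end CfsgH7
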