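import Cfsg.Agent.H7.Sz9

set_option autoImplicit false
set_option linter.style.haveILetI false

namespace CfsgH7

open MulAction

variable {G : Type*} [Group G]

namespace SzS
variable {F : Type*} [Field F] {θ : F →+* F} {Ω : Type*} [MulAction G Ω] (S : SzS θ G Ω)

theorem field_aut (σ : F ≃+* F) (hσ : ∀ x, σ (θ x) = θ (σ x)) : ∃ φ : MulAut G,
    (∀ a b, φ (S.u a b) = S.u (σ a) (σ b)) ∧ (∀ k, φ (S.h k) = S.h (Units.map σ.toMonoidHom k)) ∧
      φ S.w = S.w := by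
  obtain ⟨φ, -, -, -, -, h⟩ := S.exists_iso (S.mapF σ hσ)
  exact ⟨φ, h⟩

theorem aut_ext {α β : MulAut G} (hu : ∀ a b, α (S.u a b) = β (S.u a b)) (hh : ∀ k, α (S.h k) = β (S.h k))
    (hw : α S.w = β S.w) : α = β := by
  have := S.eq_top (M := MonoidHom.eqLocus α.toMonoidHom β.toMonoidHom) hu hh hw
  ext g
  exact (this ▸ Subgroup.mem_top g : g ∈ MonoidHom.eqLocus α.toMonoidHom β.toMonoidHom)

theorem w_11 : S.w • S.pt 1 1 = S.pt 1 1 := by
  have : szf θ 1 1 = 1 := by simp [szf, S.T.add_self]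
  rw [S.w_pt _ _ (by rw [this]; exact one_ne_zero), this, div_one]

variable [Finite F]

theorem aut_norm (hσ : ∀ (σ : F ≃+* F) x, σ (θ x) = θ (σ x)) (β : MulAut G) (h1 : β (S.u 0 1) = S.u 0 1)
    (h2 : β (S.w * S.u 0 1 * S.w⁻¹) • S.pt 0 0 = S.pt 0 0) : ∃ σ : F ≃+* F,
    (∀ a b, β (S.u a b) = S.u (σ a) (σ b)) ∧ (∀ k, β (S.h k) = S.h (Units.map σ.toMonoidHom k)) ∧
      β S.w = S.w := by
  have z1 := S.z_ne (one_ne_zero (α := F))
  have hQ : ∀ x ∈ S.Q, β x ∈ S.Q := fun x hx => S.cent_le_Q (S.u_mem 0 1) z1 (by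
    rw [← h1, ← map_mul, ← map_mul, S.Z_comm hx (S.z_mem 1)])
  set S' := S.conj S.w with hS'
  have i' : S'.inf = S.pt 0 0 := S.w_inf
  have z' : S'.u 0 1 = S.w * S.u 0 1 * S.w⁻¹ := rfl
  have b1 : β (S'.u 0 1) ≠ 1 := by simpa using S'.z_ne one_ne_zero
  have bz : β (S'.u 0 1) ∈ S'.Z := S'.mem_Z_iff.2 ⟨i' ▸ h2, by
    rw [← map_pow, (S'.mem_Z_iff.1 (S'.z_mem 1)).2, map_one]⟩
  have hQ' : ∀ x ∈ S'.Q, β x ∈ S'.Q := fun x hx => S'.cent_le_Q (S'.Z_le bz) b1 (by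
    rw [← map_mul, ← map_mul, S'.Z_comm hx (S'.z_mem 1)])
  have hH : ∀ k, ∃ l, β (S.h k) = S.h l := fun k => S.stab2 _
    (S.ti_Q (S.u_mem 0 1) z1 (by
      rw [← h1, ← map_inv, ← map_mul, ← map_mul]; exact hQ _ (S.conj_Q (S.h_inf k) (S.u_mem 0 1))))
    (i' ▸ S'.ti_Q (S'.Z_le bz) b1 (by
      rw [← map_inv, ← map_mul, ← map_mul]
      exact hQ' _ (S'.conj_Q (i' ▸ S.h_zero k) (S'.u_mem 0 1))))
  choose τ hτ using hH
  have hZ : ∀ b, ∃ c, β (S.u 0 b) = S.u 0 c := fun b => S.mem_Z_iff.2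
    ⟨S.Q_le (hQ _ (S.u_mem 0 b)), by rw [← map_pow, (S.mem_Z_iff.1 (S.z_mem b)).2, map_one]⟩
  choose s hs using hZ
  have s1 : s 1 = 1 := (S.u_inj ((hs 1).symm.trans h1)).2
  have s0 : s 0 = 0 := (S.u_eq_one.1 (by rw [← hs, S.u_zero, map_one])).2
  have sadd : ∀ a b, s (a + b) = s a + s b := fun a b => by
    have := congrArg β (S.u_mul 0 a 0 b)
    rw [map_mul] at this
    simp only [hs, S.u_mul, add_zero, mul_zero] at this
    exact (S.u_inj this).2.symm
  have sk : ∀ (k : Fˣ) b, s (k * θ k * b) = τ k * θ (τ k) * s b := fun k b => by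
    have := congrArg β (S.h_u k 0 b)
    rw [map_mul, map_mul, map_inv] at this
    simp only [hs, hτ, S.h_u, mul_zero] at this
    exact (S.u_inj this).2.symm
  have smul : ∀ a b, s (a * b) = s a * s b := fun a b => by
    by_cases h0 : a = 0
    · simp [h0, s0]
    · obtain ⟨k, rfl⟩ := S.T.nm_surj a
      have k0 : k ≠ 0 := by rintro rfl; simp at h0
      have e1 := sk (Units.mk0 k k0) b
      have e2 := sk (Units.mk0 k k0) 1
      simp only [Units.val_mk0, mul_one, s1] at e1 e2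
      rw [e1, e2]
  let σ0 : F →+* F := ⟨⟨⟨s, s1⟩, smul⟩, s0, sadd⟩
  let σ : F ≃+* F := RingEquiv.ofBijective σ0 (Finite.injective_iff_bijective.1 σ0.injective)
  have hσs : ∀ x, σ x = s x := fun _ => rfl
  have hτ' : ∀ k, (τ k : F) = σ k := fun k => S.T.nm_inj (by
    rw [← hσ, ← map_mul, hσs, ← mul_one ((k : F) * θ k), sk, s1, mul_one])
  have hU : ∀ a, ∃ c, β (S.u a 0) = S.u (σ a) c := fun a => by
    obtain ⟨c, d, e⟩ := hQ _ (S.u_mem a 0)
    have := congrArg (· ^ 2) e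
    simp only [← map_pow, S.u_sq, hs] at this
    rw [← hσs, map_mul, hσ] at this
    exact ⟨d, by rw [e, S.T.nm_inj (S.u_inj this).2]⟩
  choose l hl using hU
  have hu : ∀ a b, β (S.u a b) = S.u (σ a) (l a + σ b) := fun a b => by
    rw [show S.u a b = S.u a 0 * S.u 0 b by simp [S.u_mul], map_mul, hl, hs, S.u_mul]; simp [hσs]
  have lk : ∀ k : Fˣ, l k = σ k * θ (σ k) * l 1 := fun k => by
    have := congrArg β (S.h_u k 1 0)
    rw [map_mul, map_mul, map_inv] at this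
    simp only [hτ, hl, S.h_u, mul_zero, mul_one, hτ'] at this
    exact (S.u_inj this).2.symm
  have l1 : l 1 = 0 := by
    obtain ⟨c, hc⟩ := S.T.exists_ne
    obtain ⟨c, rfl⟩ := σ.surjective c
    have c0 : c ≠ 0 := by rintro rfl; simp at hc
    have c1 : c + 1 ≠ 0 := fun e => by rw [S.T.eq_of_add e] at hc; simp at hc
    have := congrArg β (S.u_mul c 0 1 0)
    rw [map_mul] at this
    simp only [hu, S.u_mul] at this
    have e := (S.u_inj this).2
    have e1 := lk (Units.mk0 c c0)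
    have e2 := lk (Units.mk0 _ c1)
    simp only [Units.val_mk0, map_add, map_one, map_zero, map_mul, hσ, mul_one, add_zero, zero_add] at e e1 e2
    rw [e1, e2] at e
    have : (θ (σ c) + σ c) * l 1 = 0 := by linear_combination -e
    exact (mul_eq_zero.1 this).resolve_left fun h => hc (S.T.eq_of_add h)
  have l0 : ∀ a, l a = 0 := fun a => by
    by_cases h0 : a = 0
    · subst h0
      exact (S.u_eq_one.1 (by rw [← hl, S.u_zero, map_one])).2
    · simpa [l1] using lk (Units.mk0 a h0)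
  refine ⟨σ, fun a b => by rw [hu, l0, zero_add], fun k => by rw [hτ]; congr 1; exact Units.ext (hτ' k), ?_⟩
  have w1 : β S.w • S.inf = S.pt 0 0 := i' ▸ S'.Q_fix (S'.Z_le bz) b1 (by
    rw [z', map_mul, map_mul, map_inv, h1, mul_smul, mul_smul, inv_smul_smul, S.u_inf])
  obtain ⟨k, hk⟩ := S.swap w1 (by rw [← w1, ← mul_smul, ← map_mul, S.w_w, map_one, one_smul])
  set S2 := S'.conj (S.u 1 1)
  have i2 : S2.inf = S.pt 1 1 := by change S.u 1 1 • S'.inf = _; rw [i', S.u_pt0]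
  have wQ : S.w ∈ S2.Q := S2.mem_Q_of_pow (n := 1) (i2 ▸ S.w_11) (by rw [pow_one, sq, S.w_w])
  have c := congrArg β (S2.Z_comm wQ (S2.z_mem 1))
  have e : β (S2.u 0 1) = S.u 1 1 * β (S'.u 0 1) * (S.u 1 1)⁻¹ := by
    change β (S.u 1 1 * S'.u 0 1 * (S.u 1 1)⁻¹) = _
    rw [map_mul, map_mul, map_inv, hu, l0]; simp
  have m : β (S2.u 0 1) ∈ S2.Q := by
    rw [e, S'.conj_Q_eq]; exact ⟨_, S'.Z_le bz, rfl⟩
  rw [map_mul, map_mul] at c
  have f := S2.cent_le_B m (by simpa using S2.z_ne one_ne_zero) c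
  rw [i2, hk, mul_smul, ← eq_inv_smul_iff, S.w_inv, S.w_11] at f
  have : k = 1 := by
    by_contra h; exact one_ne_zero (S.h_fix h f).1
  rw [hk, this, S.h_one, mul_one]

include S in
theorem card_aut (hσ : ∀ (σ : F ≃+* F) x, σ (θ x) = θ (σ x)) :
    Nat.card (MulAut G) = Nat.card G * Nat.card (F ≃+* F) := by
  have z1 := S.z_ne (one_ne_zero (α := F))
  choose φ hu hh hw using fun σ => S.field_aut σ (hσ σ)
  rw [← Nat.card_prod]
  refine (Nat.card_congr (Equiv.ofBijective (fun p : G × (F ≃+* F) => MulAut.conj p.1 * φ p.2)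
    ⟨?_, fun α => ?_⟩)).symm
  · rintro ⟨g, σ⟩ ⟨g', σ'⟩ e
    have e1 := DFunLike.congr_fun e (S.u 0 1)
    have e2 := DFunLike.congr_fun e S.w
    simp only [MulAut.mul_apply, hu, hw, map_zero, map_one, MulAut.conj_apply] at e1 e2
    have c1 : g'⁻¹ * g ∈ S.Q := S.cent_le_Q (S.u_mem 0 1) z1 (by
      calc _ = g'⁻¹ * (g * S.u 0 1 * g⁻¹) * g := by group
        _ = _ := by rw [e1]; group)
    have : g'⁻¹ * g = 1 := by
      by_contra h
      exact S.pt_ne 0 0 (S.w_inf.symm.trans (S.cent_le_B c1 h (by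
        calc _ = g'⁻¹ * (g' * S.w * g'⁻¹) * g := by group
          _ = _ := by rw [← e2]; group)))
    obtain rfl : g' = g := inv_mul_eq_one.1 this
    have e3 := mul_left_cancel e
    refine Prod.ext rfl (RingEquiv.ext fun b => ?_)
    have := DFunLike.congr_fun e3 (S.u 0 b)
    rw [hu, hu] at this
    exact (S.u_inj this).2
  · have sq : ∀ (S' : SzS θ G Ω), α (S'.u 0 1) ^ 2 = 1 := fun S' => by
      rw [← map_pow, (S'.mem_Z_iff.1 (S'.z_mem 1)).2, map_one]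
    obtain ⟨S1, h1⟩ := S.inv_elt (sq S)
    obtain ⟨S2, h2⟩ := S.inv_elt (sq (S.conj S.w))
    have ne : S1.inf ≠ S2.inf := fun e => by
      have c := S1.Z_comm (S1.Z_le h1) (S1.Z_congr S2 e ▸ h2)
      rw [← map_mul, ← map_mul, α.injective.eq_iff] at c
      have := (S.conj S.w).cent_le_B ((S.conj S.w).u_mem 0 1) ((S.conj S.w).z_ne one_ne_zero) c
      exact S.pt_ne 0 0 (S.w_inf ▸ S.Q_fix (S.u_mem 0 1) z1 this)
    obtain ⟨c, c1, c2⟩ := S.to_pair ne
    obtain ⟨b, hb⟩ : α (S.u 0 1) ∈ (S.conj c).Z := (S.conj c).Z_congr S1 c1 ▸ h1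
    obtain ⟨k, hk⟩ := S.z_conj one_ne_zero (show b ≠ 0 by
      rintro rfl; rw [(S.conj c).u_zero] at hb; exact z1 (by simpa using hb))
    obtain ⟨σ, a1, a2, a3⟩ := S.aut_norm hσ ((MulAut.conj (c * S.h k))⁻¹ * α) (by
        change (c * S.h k)⁻¹ * α _ * (c * S.h k) = _
        rw [hb]; change _ * (c * S.u 0 b * c⁻¹) * _ = _
        rw [← hk]; group) (by
        change ((c * S.h k)⁻¹ * α _ * (c * S.h k)) • _ = _
        rw [mul_smul, mul_smul, inv_smul_eq_iff, mul_smul, S.h_zero, c2]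
        exact S2.Q_le (S2.Z_le h2))
    refine ⟨(c * S.h k, σ), ?_⟩
    have := S.aut_ext (fun a b => (a1 a b).trans (hu σ a b).symm) (fun k => (a2 k).trans (hh σ k).symm)
      (a3.trans (hw σ).symm)
    simp only [← this, mul_inv_cancel_left]

include S in
theorem conj_inj : Function.Injective (MulAut.conj : G →* MulAut G) := by
  haveI := S.simple
  rcases (MonoidHom.normal_ker (MulAut.conj : G →* MulAut G)).eq_bot_or_eq_top with h | h
  · exact (MonoidHom.ker_eq_bot_iff _).1 h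
  · have : MulAut.conj S.w = 1 := (h ▸ Subgroup.mem_top S.w : S.w ∈ (MulAut.conj : G →* MulAut G).ker)
    have e : S.w * S.u 0 1 * S.w⁻¹ = S.u 0 1 := DFunLike.congr_fun this (S.u 0 1)
    exact absurd (S.w_inf.symm.trans (S.ti_Q (S.u_mem 0 1) (S.z_ne one_ne_zero)
      (e.symm ▸ S.u_mem 0 1))) (S.pt_ne 0 0)

end SzS

theorem card_ringAut {F : Type*} [Field F] [Finite F] {n : ℕ} (h : Nat.card F = 2 ^ n) [CharP F 2] :
    Nat.card (F ≃+* F) = n := by
  haveI : Fact (Nat.Prime 2) := ⟨Nat.prime_two⟩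
  letI := ZMod.algebra F 2
  have e := Module.natCard_eq_pow_finrank (K := ZMod 2) (V := F)
  rw [h, Nat.card_zmod] at e
  rw [Nat.pow_right_injective (le_refl 2) e, ← IsGalois.card_aut_eq_finrank]
  exact Nat.card_congr ⟨fun σ => AlgEquiv.ofRingEquiv (f := σ) fun x =>
      RingHom.congr_fun (RingHom.ext_zmod (σ.toRingHom.comp (algebraMap (ZMod 2) F)) (algebraMap _ _)) x,
    fun σ => σ.toRingEquiv, fun _ => rfl, fun _ => rfl⟩

end CfsgH7
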