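import Cfsg.Agent.H7.Sz8

set_option autoImplicit false
set_option linter.style.haveILetI false

namespace CfsgH7

open MulAction
open scoped Pointwise commutatorElement

variable {G : Type*} [Group G]

theorem solv_of {L U : Subgroup G} [Group.IsSolvable U] (h : ∀ a ∈ L, ∀ b ∈ L, ⁅a, b⁆ ∈ U) :
    Group.IsSolvable L := by
  have h1 : commutator L ≤ U.subgroupOf L := by
    rw [commutator_def, Subgroup.commutator_le]
    exact fun a _ b _ => h a a.2 b b.2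
  haveI : Group.IsSolvable (U.subgroupOf L) :=
    solvable_of_solvable_injective (f := (L.subtype.comp (U.subgroupOf L).subtype).codRestrict U
      fun x => x.2) (fun a b e => Subtype.ext (Subtype.ext (congrArg (fun z : U => (z : G)) e)))
  exact solvable_of_ker_le_range (U.subgroupOf L).subtype (Abelianization.of (G := L))
    (by rw [Abelianization.ker_of, Subgroup.range_subtype]; exact h1)

theorem solv_le {L U : Subgroup G} [Group.IsSolvable U] (h : L ≤ U) : Group.IsSolvable L :=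
  solvable_of_solvable_injective (Subgroup.inclusion_injective h)

namespace Od
variable {U : Subgroup G} (h : Od U)
include h

theorem comm {a b : G} (ha : a ∈ U) (hb : b ∈ U) : a * b = b * a := by
  by_cases h1 : b = 1
  · simp [h1]
  · rw [← h.cent b hb h1] at ha; exact Subgroup.mem_centralizer_singleton_iff.1 ha

theorem sub_norm [Finite G] {M : Subgroup G} (hM : M ≤ U) {g x : G}
    (hg : g ∈ Subgroup.normalizer (U : Set G)) (hx : x ∈ M) : g * x * g⁻¹ ∈ M := by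
  haveI := h.cyc
  have le : M.map (MulAut.conj g).toMonoidHom ≤ U := by
    rintro _ ⟨y, hy, rfl⟩; exact norm_conj g hg y (hM hy)
  have : (M.map (MulAut.conj g).toMonoidHom).subgroupOf U = M.subgroupOf U := cyc_sub_eq (by
    rw [Nat.card_congr (Subgroup.subgroupOfEquivOfLe hM).toEquiv,
      Nat.card_congr (Subgroup.subgroupOfEquivOfLe le).toEquiv,
      Subgroup.card_map_of_injective (MulAut.conj g).injective])
  have h2 : (⟨_, norm_conj g hg x (hM hx)⟩ : U) ∈ (M.map (MulAut.conj g).toMonoidHom).subgroupOf U :=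
    ⟨x, hx, rfl⟩
  rw [this] at h2
  exact h2

theorem solv_norm [Finite G] : Group.IsSolvable (Subgroup.normalizer (U : Set G)) := by
  haveI := h.cyc
  haveI : Group.IsSolvable U := by letI := IsCyclic.commGroup (α := U); infer_instance
  refine solv_of (U := U) fun a ha b hb => ?_
  obtain ⟨x, hx, h1⟩ := h.exists_ne
  obtain ⟨i, hi⟩ := h.sub_norm (Subgroup.zpowers_le.2 hx) (inv_mem ha) (Subgroup.mem_zpowers x)
  obtain ⟨j, hj⟩ := h.sub_norm (Subgroup.zpowers_le.2 hx) (inv_mem hb) (Subgroup.mem_zpowers x)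
  rw [← h.cent x hx h1, Subgroup.mem_centralizer_singleton_iff]
  simp only at hi hj
  have e : b⁻¹ * (a⁻¹ * x * a⁻¹⁻¹) * b⁻¹⁻¹ = a⁻¹ * (b⁻¹ * x * b⁻¹⁻¹) * a⁻¹⁻¹ := by
    conv_lhs => rw [← hi, ← conj_zpow, ← hj]
    conv_rhs => rw [← hj, ← conj_zpow, ← hi]
    rw [← zpow_mul, ← zpow_mul, mul_comm]
  rw [commutatorElement_def]
  calc a * b * a⁻¹ * b⁻¹ * x = a * b * (a⁻¹ * (b⁻¹ * x * b⁻¹⁻¹) * a⁻¹⁻¹) * a⁻¹ * b⁻¹ := by group
    _ = _ := by rw [← e]; group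

end Od

namespace SzS
variable {F : Type*} [Field F] {θ : F →+* F} {Ω : Type*} [MulAction G Ω] (S : SzS θ G Ω)

theorem B_act {g : G} (hg : g • S.inf = S.inf) :
    ∃ k : Fˣ, ∀ c, g * S.u 0 c * g⁻¹ = S.u 0 (k * θ k * c) := by
  obtain ⟨a, b, k, rfl⟩ := S.fix_inf hg
  refine ⟨k, fun c => ?_⟩
  obtain ⟨e, h1, h2⟩ := S.uh_conj 0 c a b k
  rw [h1, h2]; simp

variable [Finite F]

include S in
theorem solv_stab (p : Ω) : Group.IsSolvable (stabilizer G p) := by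
  haveI := S.finG
  obtain ⟨S', rfl⟩ := S.exists_inf p
  haveI := S'.Q_pgroup.isNilpotent
  refine solv_of (U := S'.Q) fun a ha b hb => ?_
  rw [← S'.cent_Z (S'.z_mem 1) (S'.z_ne one_ne_zero), Subgroup.mem_centralizer_singleton_iff]
  obtain ⟨k, hk⟩ := S'.B_act ha
  obtain ⟨l, hl⟩ := S'.B_act hb
  obtain ⟨c, hc⟩ : ∃ c, S'.u 0 1 = b * a * S'.u 0 c * (b * a)⁻¹ := by
    obtain ⟨j, hj⟩ := S'.B_act (inv_mem (mul_mem hb ha))
    exact ⟨_, by rw [← hj 1]; group⟩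
  have e : a * b * S'.u 0 c * (a * b)⁻¹ = b * a * S'.u 0 c * (b * a)⁻¹ := by
    rw [show a * b * S'.u 0 c * (a * b)⁻¹ = a * (b * S'.u 0 c * b⁻¹) * a⁻¹ by group,
      show b * a * S'.u 0 c * (b * a)⁻¹ = b * (a * S'.u 0 c * a⁻¹) * b⁻¹ by group, hk, hl, hk, hl]
    congr 1; ring
  rw [commutatorElement_def]
  nth_rewrite 2 [hc]
  rw [← e, hc]; group

include S in
theorem not_solv : ¬ Group.IsSolvable G := by
  intro h
  haveI : Nontrivial G := ⟨⟨S.w, 1, S.w_ne_one⟩⟩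
  exact (IsSolvable.commutator_lt_top_of_nontrivial G).ne S.perfect

include S in
theorem pow4_mem {U : Subgroup G} (h : Od U) {x : G} (hx : x ∈ Subgroup.normalizer (U : Set G)) :
    x ^ 4 ∈ U := by
  haveI := S.finG
  obtain ⟨y, hy, y1⟩ := h.exists_ne
  obtain ⟨n, k, j, hn, e0, -, e1, -⟩ := S.cls_num h ⊤ hy trivial y1
  rw [inf_top_eq] at e0 e1
  have e2 := card_inf_mul_relIndex U (Subgroup.normalizer (U : Set G))
  rw [inf_eq_left.2 Subgroup.le_normalizer, e0, e1, mul_comm] at e2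
  have e3 := Nat.eq_of_mul_eq_mul_right (by omega) e2
  have := Subgroup.pow_index_mem (U.subgroupOf (Subgroup.normalizer (U : Set G))) ⟨x, hx⟩
  change x ^ U.relIndex _ ∈ U at this
  rw [e3] at this
  obtain ⟨c, hc⟩ : n ∣ 4 := by rcases hn with rfl | rfl | rfl <;> decide
  rw [hc, pow_mul]; exact U.pow_mem this _

include S in
theorem mem_of_odd {U : Subgroup G} (h : Od U) {x : G} (hx : x ∈ Subgroup.normalizer (U : Set G))
    (o : Odd (orderOf x)) : x ∈ U := by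
  haveI := S.finG
  refine Subgroup.zpowers_le.2 (S.pow4_mem h hx) (mem_zpowers_pow_iff.2 ?_)
  exact ((Nat.coprime_two_left.2 o).pow_left 2)

include S in
theorem od_card {r : ℕ} (hr : r ^ 2 = 2 * Nat.card F) {U : Subgroup G} (h : Od U) :
    Nat.card U = Nat.card F - 1 ∨ Nat.card U = Nat.card F + r + 1 ∨ Nat.card U = Nat.card F - r + 1 := by
  rcases S.od_cases hr h with ⟨S', rfl⟩ | t | t
  · exact Or.inl S'.card_H
  · exact Or.inr (Or.inl t.card)
  · exact Or.inr (Or.inr t.card)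

include S in
theorem r_facts {r : ℕ} (hr : r ^ 2 = 2 * Nat.card F) : 4 ≤ r ∧ 2 * r ≤ Nat.card F ∧ 2 ∣ r ∧
    (Nat.card F + r + 1) * (Nat.card F - r + 1) = Nat.card F ^ 2 + 1 := by
  obtain ⟨c, hc⟩ := S.even_q
  have h4 := S.four_le
  have h2 : 2 ∣ r := Nat.prime_two.dvd_of_dvd_pow (n := 2) ⟨_, hr⟩
  have h3 : 4 ≤ r := by
    by_contra h
    have : r = 0 ∨ r = 2 := by omega
    rcases this with rfl | rfl <;> omega
  have h5 : 2 * r ≤ Nat.card F := by nlinarith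
  refine ⟨h3, h5, h2, ?_⟩
  obtain ⟨d, hd⟩ : ∃ d, Nat.card F = d + r := ⟨Nat.card F - r, by omega⟩
  rw [hd] at hr ⊢
  rw [Nat.add_sub_cancel]
  zify at hr ⊢
  linear_combination -hr

include S in
theorem cyc_mem_eq {r : ℕ} (hr : r ^ 2 = 2 * Nat.card F) {U : Subgroup G} (hc : IsCyclic U)
    (hk : Nat.card U = Nat.card F - 1 ∨ Nat.card U = Nat.card F + r + 1 ∨ Nat.card U = Nat.card F - r + 1)
    {g : G} (hg : g ∈ U) (h1 : g ≠ 1) : Odd (orderOf g) ∧ U = Subgroup.centralizer {g} := by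
  haveI := S.finG
  obtain ⟨r1, r2, ⟨r', r3⟩, -⟩ := S.r_facts hr
  obtain ⟨c, hq⟩ := S.even_q
  have o : Nat.card U % 2 = 1 := by omega
  have og : Odd (orderOf g) := (Nat.odd_iff.2 o).of_dvd_nat (U.orderOf_dvd_natCard hg)
  have od := S.od_cent h1 og
  have le : U ≤ Subgroup.centralizer {g} := fun x hx => by
    letI := IsCyclic.commGroup (α := U)
    exact Subgroup.mem_centralizer_singleton_iff.2 (congrArg Subtype.val (mul_comm (⟨x, hx⟩ : U) ⟨g, hg⟩))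
  refine ⟨og, Subgroup.eq_of_le_of_card_ge le ?_⟩
  obtain ⟨j, hj⟩ := Subgroup.card_dvd_of_le le
  have e := S.od_card hr od
  have o2 := Nat.odd_iff.1 od.odd
  by_contra hlt
  have j3 : 3 ≤ j := by
    by_contra h
    have : j = 0 ∨ j = 1 ∨ j = 2 := by omega
    rcases this with rfl | rfl | rfl <;> omega
  have := Nat.mul_le_mul_left (Nat.card U) j3
  omega

include S in
theorem type_cop {r : ℕ} (hr : r ^ 2 = 2 * Nat.card F) :
    Nat.Coprime (Nat.card F - 1) (Nat.card F + r + 1) ∧ Nat.Coprime (Nat.card F - 1) (Nat.card F - r + 1) ∧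
      Nat.Coprime (Nat.card F + r + 1) (Nat.card F - r + 1) := by
  haveI := S.finG
  obtain ⟨U, V, hU, hV, -⟩ := S.tori' hr
  obtain ⟨r1, r2, -⟩ := S.r_facts hr
  have key : ∀ {A B : Subgroup G}, Od A → Od B → Nat.card A ≠ Nat.card B →
      Nat.Coprime (Nat.card A) (Nat.card B) := fun {A B} hA hB hn => by
    obtain ⟨x, hx, h1⟩ := hB.exists_ne
    refine hA.coprime hB hx h1 fun hc => hn ?_
    obtain ⟨g, rfl⟩ := od_of_cl hB hA hx hc
    rw [Subgroup.card_map_of_injective (MulAut.conj g).injective]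
  have a1 := key S.od_H hU.od
  have a2 := key S.od_H hV.od
  have a3 := key hU.od hV.od
  rw [S.card_H, hU.card] at a1
  rw [S.card_H, hV.card] at a2
  rw [hU.card, hV.card] at a3
  exact ⟨a1 (by omega), a2 (by omega), a3 (by omega)⟩

theorem card_GK {K : Subfield F} (hK : TwK θ K) :
    Nat.card (S.GK K) = Nat.card K ^ 2 * (Nat.card K - 1) * (Nat.card K ^ 2 + 1) := (S.sub hK).card_G

theorem GK_top {K : Subfield F} (hK : TwK θ K) (h : Nat.card F ≤ Nat.card K) : S.GK K = ⊤ := by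
  haveI := S.finG
  rw [← Subgroup.card_eq_iff_eq_top, S.card_GK hK, S.card_G,
    le_antisymm (Nat.card_le_card_of_injective _ Subtype.val_injective) h]

theorem GK_top_of_order {K : Subfield F} (hK : TwK θ K) {x : G} (hx : x ∈ S.GK K)
    (ho : orderOf x = Nat.card F - 1) : S.GK K = ⊤ := by
  have h4 := S.four_le
  have h4' := (S.sub hK).four_le
  have ho' : orderOf (⟨x, hx⟩ : S.GK K) = Nat.card F - 1 := by rw [← ho, ← Subgroup.orderOf_coe]
  apply S.GK_top hK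
  rcases (S.sub hK).tri ⟨x, hx⟩ with ⟨S', h⟩ | ⟨S', h⟩ | h
  · have := S'.Q_odd h (ho' ▸ S.odd1)
    rw [this, orderOf_one] at ho'; omega
  · have := Nat.le_of_dvd (by rw [S'.card_H]; omega) (S'.H.orderOf_dvd_natCard h)
    rw [S'.card_H] at this; omega
  · have d := (S.sub hK).semireg_dvd (U := Subgroup.zpowers ⟨x, hx⟩) fun u hu h1 =>
      (S.sub hK).fpf_of_comm h h1 (by obtain ⟨n, rfl⟩ := hu; exact (Commute.self_zpow _ _).eq)
    rw [Nat.card_zpowers, ho', Module.natCard_eq_pow_finrank (K := K) (V := F)] at d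
    rw [Module.natCard_eq_pow_finrank (K := K) (V := F)] at h4 ⊢
    generalize Module.finrank K F = c at *
    generalize Nat.card K = s at *
    have s2 : 4 * s ≤ s ^ 2 := by rw [sq]; exact Nat.mul_le_mul_right _ h4'
    rcases c with _ | _ | _ | c
    · simp at h4
    · simp
    · obtain ⟨t, ht⟩ : ∃ t, s ^ 2 = t + 1 := ⟨s ^ 2 - 1, by omega⟩
      rw [show 0 + 1 + 1 = 2 from rfl, ht] at d
      have := Nat.le_of_dvd (by norm_num) ((Nat.dvd_add_right (dvd_refl t)).1 (show t ∣ t + 2 from d))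
      omega
    · have := Nat.le_of_dvd (by omega) d
      have h2 : s ^ 3 ≤ s ^ (c + 1 + 1 + 1) := Nat.pow_le_pow_right (by omega) (by omega)
      have h3 : s ^ 2 * 4 ≤ s ^ 3 := by rw [pow_succ s 2]; exact Nat.mul_le_mul_left _ h4'
      omega

include S in
theorem two_gen : ∃ a b : G, Subgroup.closure {a, b} = ⊤ := by
  obtain ⟨k, hk⟩ := IsCyclic.exists_ofOrder_eq_natCard (α := Fˣ)
  have h4 := S.four_le
  have ho : orderOf (S.h k) = Nat.card F - 1 := by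
    rw [← Nat.card_units, ← hk]; exact orderOf_injective S.hH S.h_inj k
  have h1 : S.h k ≠ 1 := fun e => by rw [e, orderOf_one] at ho; omega
  refine ⟨S.h k, S.u 1 0 * S.w, ?_⟩
  have ma : S.h k ∈ Subgroup.closure {S.h k, S.u 1 0 * S.w} := Subgroup.subset_closure (by simp)
  have mb : S.u 1 0 * S.w ∈ Subgroup.closure {S.h k, S.u 1 0 * S.w} := Subgroup.subset_closure (by simp)
  have b1 : (S.u 1 0 * S.w) • S.inf = S.pt 1 0 := by rw [mul_smul, S.w_inf, S.u_pt0]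
  have b2 : (S.u 1 0 * S.w) • S.pt 0 0 = S.inf := by rw [mul_smul, S.w_zero, S.u_inf]
  rcases S.classify (Subgroup.closure {S.h k, S.u 1 0 * S.w}) with ⟨p, h⟩ | ⟨U, o, -, h⟩ | ⟨g, K, hK, h⟩
  · rcases S.H_fix (S.h_mem k) h1 (h ma) with rfl | rfl
    · exact absurd (b1.symm.trans (h mb)) (S.pt_ne _ _)
    · exact absurd (b2.symm.trans (h mb)).symm (S.pt_ne _ _)
  · obtain rfl := o.eq S.od_H (S.mem_of_odd o (h ma) (ho ▸ S.odd1)) (S.h_mem k) h1
    rcases S.mem_norm_H.1 (h mb) with ⟨l, e⟩ | ⟨l, e⟩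
    · rw [e, S.h_inf] at b1; exact absurd b1.symm (S.pt_ne _ _)
    · rw [e, mul_smul, S.h_inf, S.w_inf] at b1; exact absurd (S.pt_inj b1).1 zero_ne_one
  · rw [h]; exact (S.conj g).GK_top_of_order hK (h ▸ ma) ho

omit [Finite F] in
theorem nilp_le_Q {P : Subgroup G} [Group.IsNilpotent P] {x : G} (hx : x ∈ S.Q) (hx' : x ∈ P)
    (h1 : x ≠ 1) : P ≤ S.Q := by
  haveI : Nontrivial P := ⟨⟨⟨x, hx'⟩, 1, fun e => h1 (congrArg Subtype.val e)⟩⟩
  obtain ⟨⟨z, hz⟩, hz1⟩ := Subgroup.ne_bot_iff_exists_ne_one.1 (Group.IsNilpotent.center_ne_bot P)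
  have hz2 : (z : G) ≠ 1 := fun e => hz1 (Subtype.ext (Subtype.ext e))
  have c : ∀ y ∈ P, y * z = z * y := fun y hy =>
    congrArg Subtype.val (Subgroup.mem_center_iff.1 hz ⟨y, hy⟩)
  exact fun y hy => S.cent_le_Q (S.cent_le_Q hx h1 (c x hx').symm) hz2 (c y hy)

include S in
theorem no_nilp_cover : ¬ ∃ 𝓐 : Finset (Subgroup G), ((∀ A ∈ 𝓐, A ≠ ⊤) ∧ (∀ g : G, ∃ A ∈ 𝓐, g ∈ A)) ∧
    (∀ 𝓑 : Finset (Subgroup G), (∀ A ∈ 𝓑, A ≠ ⊤) ∧ (∀ g : G, ∃ A ∈ 𝓑, g ∈ A) → 𝓐.card ≤ 𝓑.card) ∧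
    (∀ A ∈ 𝓐, Group.IsNilpotent A) := by
  classical
  haveI := S.finG
  rintro ⟨𝓐, ⟨-, hc⟩, hmin, hn⟩
  let 𝓜 : Set (Subgroup G) := {U | (∃ S' : SzS θ G Ω, U = S'.Q) ∨ Od U}
  have ex : ∀ U ∈ 𝓜, ∃ A ∈ 𝓐, ∃ x ∈ A, x ≠ 1 ∧ x ∈ U := by
    rintro U (⟨S', rfl⟩ | h)
    · obtain ⟨A, hA, hx⟩ := hc (S'.u 0 1)
      exact ⟨A, hA, _, hx, S'.z_ne one_ne_zero, S'.u_mem _ _⟩
    · obtain ⟨x, hx, h1⟩ := h.exists_ne
      obtain ⟨A, hA, hx'⟩ := hc x
      exact ⟨A, hA, x, hx', h1, hx⟩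
  choose! f hf using ex
  have le : ∀ U ∈ 𝓜, f U ≤ U := fun U hU => by
    obtain ⟨hA, x, hx, h1, hx'⟩ := hf U hU
    haveI := hn _ hA
    rcases hU with ⟨S', rfl⟩ | h
    · exact S'.nilp_le_Q hx' hx h1
    · exact h.nilp_le hx' hx h1
  have h1 : 𝓜.ncard ≤ 𝓐.card := by
    rw [← Set.ncard_coe_finset]
    refine Set.ncard_le_ncard_of_injOn f (fun U hU => (hf U hU).1) ?_ (Set.toFinite _)
    intro U hU V hV e
    obtain ⟨-, x, hx, h1, hx'⟩ := hf U hU
    have hx2 := le V hV (e ▸ hx)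
    rcases hU with ⟨S1, rfl⟩ | hU <;> rcases hV with ⟨S2, rfl⟩ | hV
    · exact S1.Q_congr S2 (S2.Q_fix hx2 h1 (S1.Q_le hx'))
    · exact absurd (S1.Q_odd hx' (hV.odd_order hx2)) h1
    · exact absurd (S2.Q_odd hx2 (hU.odd_order hx')) h1
    · exact hU.eq hV hx' hx2 h1
  let φ : Subgroup G → Subgroup G := fun U => if Od U then U else Subgroup.normalizer (U : Set G)
  have nq : ∀ S' : SzS θ G Ω, φ S'.Q = stabilizer G S'.inf := fun S' => by
    have : ¬ Od S'.Q := fun h => S'.z_ne one_ne_zero (S'.Q_odd (S'.u_mem 0 1) (h.odd_order (S'.u_mem 0 1)))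
    simp only [φ, this, if_false, S'.norm_Q]
  have nh : ∀ S' S'' : SzS θ G Ω, S'.Q ≠ S''.H := fun S' S'' e =>
    S'.z_ne one_ne_zero (S'.Q_odd (S'.u_mem 0 1) (S''.od_H.odd_order (e ▸ S'.u_mem 0 1)))
  have h2 := hmin (Set.toFinite (φ '' (𝓜 \ {S.H}))).toFinset ⟨?_, ?_⟩
  · rw [← Set.ncard_eq_toFinset_card] at h2
    have h3 := Set.ncard_image_le (f := φ) (Set.toFinite (𝓜 \ {S.H}))
    have h4 := Set.ncard_diff_singleton_lt_of_mem (show S.H ∈ 𝓜 from Or.inr S.od_H) (Set.toFinite _)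
    omega
  · intro A hA
    rw [Set.Finite.mem_toFinset] at hA
    obtain ⟨U, ⟨⟨S', rfl⟩ | h, -⟩, rfl⟩ := hA
    · rw [nq]; exact S'.B_ne_top
    · simp only [φ, h, if_true]
      rintro rfl
      exact S.z_ne one_ne_zero (S.Q_odd (S.u_mem 0 1) (h.odd_order trivial))
  · intro g
    simp only [Set.Finite.mem_toFinset]
    rcases S.tri g with ⟨S', h⟩ | ⟨S', h⟩ | h
    · exact ⟨_, ⟨_, ⟨Or.inl ⟨S', rfl⟩, nh S' S⟩, rfl⟩, nq S' ▸ S'.Q_le h⟩
    · exact ⟨_, ⟨_, ⟨Or.inl ⟨S', rfl⟩, nh S' S⟩, rfl⟩, nq S' ▸ (S'.H_eq.le h).1⟩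
    · refine ⟨_, ⟨_, ⟨Or.inr (S.od_fpf h), fun e => ?_⟩, rfl⟩, ?_⟩
      · exact h _ (S.H_eq.le ((Set.mem_singleton_iff.1 e) ▸ self_cent g)).1
      · simp only [φ, S.od_fpf h, if_true]; exact self_cent g

end SzS
end CfsgH7
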